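import Mathlib
import Cfsg.Agent.H41.StDiag_m3
import Cfsg.Agent.H239.TPSp
import Cfsg.Agent.H360.Iso.Uni
import Cfsg.Agent.H341.ThreeList_m3
import Mathlib.GroupTheory.Sylow
import Mathlib.GroupTheory.SpecificGroups.Cyclic
import Mathlib.Algebra.Group.Subgroup.Basic
import Cfsg.Agent.H767.PO.Fld
import Cfsg.Agent.H206.PspFix
import Cfsg.Agent.S0814
import Cfsg.Agent.LieClassical.SympCount
import Cfsg.Agent.H185.OrthCent
import Cfsg.Agent.H469.RowPSL_m3
import Cfsg.Agent.S0816
import Cfsg.Agent.S0286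
import Cfsg.Agent.H385.SpTop
import Cfsg.Agent.ClassicalGeometry.SympInvolutions
import Cfsg.Prelude.Def_Classical
import Cfsg.Agent.H954.TSing9
import Cfsg.Agent.TwoFusion.SLTwoFacts
import Cfsg.Agent.H390.Cocl
import Cfsg.Agent.H892.TExcA
import Cfsg.Agent.FastGrp
import Cfsg.Agent.Prune
set_option linter.all false

section
prune_inst 0x7ff1a8fcf8b809dfdfff7e7ff698cdfc1a901fffa4dff943ffe061ff0b9f031209c5238509e010fe0e96401410a87843fb7eeeffe26fd87ffffdbff41ffbee0fe5f7b50851d080240f3c0ffe03f0778e7f3fffffffffffffffffffffffffffbeffbfffffffff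

-- part: H231/UniZero
section
prune_inst 0xe57010707e6200000018008653201e16be0000b0000b8000e800074607888e228dc02e60ae2015069a24004508310048111001000240000004000400011e008000800000e1c90008080016000080000000000000000000000000000000000000000000000
set_option linter.all false
open scoped Cfsg.Agent.FastGrp

/-!
# Theorem (U), part (D): `StZero` for all odd `p` (helper231)

helper168's `Zm_step` reduces to `m = 1, 2`. The case `m = 2`, exponents `(a, b)`, `a < p`, `2 b < p`:

* special frame, `mn 0 = 2 (1 - t₀)`, `mn 1 = - (1 - t₀)² (1 - t₁)² / (t₀ t₁)`: constant term `± 2 ^ a C(a+2b, b) C(2b, b)`;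
* product frame, `mn 0 = (A + A⁻¹) (B + B⁻¹)`, `mn 1 = - ((A + A⁻¹) - λ (B + B⁻¹))²` with `t₀ = A B`, `t₁ = A / B`.
-/

set_option autoImplicit false
set_option linter.unusedSimpArgs false
set_option linter.unusedSectionVars false
set_option linter.unusedVariables false

namespace Cfsg.Agent.H231.UniZero

open QuadraticMap Cfsg.Agent.LieClassical.OrthCore Cfsg.Agent.LieClassical.OmegaReindex
  Cfsg.Agent.LieClassical.OrthFinite Cfsg.Agent.H45.Uni Cfsg.Agent.H168.Uni Finset

/-! ### Arithmetic -/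

theorem choose_ne {p n k : ℕ} (hp : p.Prime) (hn : n < p) (hk : k ≤ n) : ¬ p ∣ n.choose k := by
  intro h
  have h1 := Nat.choose_mul_factorial_mul_factorial hk
  have h2 : p ∣ n.factorial := by
    rw [← h1, mul_assoc]
    exact h.mul_right _
  exact absurd ((hp.dvd_factorial).1 h2) (by omega)

theorem choose_ne' {p a b : ℕ} (hp : p.Prime) (ha : a < p) (hb : 2 * b < p) (h : a + 2 * b < p ∨ p ≤ a + b) :
    ¬ p ∣ (a + 2 * b).choose b := by
  rcases h with h | h
  · exact choose_ne hp h (by omega)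
  · have := Fact.mk hp
    have h1 := Choose.choose_modEq_choose_mod_mul_choose_div_nat (n := a + 2 * b) (k := b) (p := p)
    have h2 : (a + 2 * b) % p = a + 2 * b - p := by
      rw [Nat.mod_eq_sub_mod (by omega), Nat.mod_eq_of_lt (by omega)]
    have h3 : (a + 2 * b) / p = 1 := by
      apply Nat.div_eq_of_lt_le <;> omega
    have h4 : b % p = b := Nat.mod_eq_of_lt (by omega)
    have h5 : b / p = 0 := Nat.div_eq_of_lt (by omega)
    rw [h2, h3, h4, h5, Nat.choose_zero_right, mul_one] at h1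
    intro h6
    have h7 : p ∣ (a + 2 * b - p).choose b := (Nat.modEq_zero_iff_dvd).1 (h1.symm.trans ((Nat.modEq_zero_iff_dvd).2 h6))
    exact choose_ne hp (by omega) (by omega) h7

variable {m : ℕ} {k : Type*} [Field k]

theorem cast_ne' {p : ℕ} [CharP k p] {z : ℕ} (h : ¬ p ∣ z) : (z : k) ≠ 0 := fun h0 =>
  h ((CharP.cast_eq_zero_iff k p z).1 h0)

/-! ### Zero coefficients of sums -/

theorem hasZ_sum {ι : Type*} (S : Finset ι) (c : ι → k) (μ : ι → Fin m → ℤ) :
    HasZ (fun t => ∑ i ∈ S, c i * chi (μ i) t) (∑ i ∈ S, if μ i = 0 then c i else 0) := by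
  classical
  induction S using Finset.induction_on with
  | empty =>
    unfold HasZ
    have : (fun t : Fin m → kˣ => ∑ i ∈ (∅ : Finset ι), c i * chi (μ i) t) -
        (fun _ => ∑ i ∈ (∅ : Finset ι), if μ i = 0 then c i else 0) = 0 := by
      funext t; simp
    rw [this]
    exact Submodule.zero_mem _
  | insert j S hj ih =>
    unfold HasZ at *
    have : (fun t : Fin m → kˣ => ∑ i ∈ insert j S, c i * chi (μ i) t) -
        (fun _ => ∑ i ∈ insert j S, if μ i = 0 then c i else 0) =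
        (c j • (chi (μ j) : (Fin m → kˣ) → k) - fun _ => if μ j = 0 then c j else 0) +
        ((fun t : Fin m → kˣ => ∑ i ∈ S, c i * chi (μ i) t) - fun _ => ∑ i ∈ S, if μ i = 0 then c i else 0) := by
      funext t
      simp only [Pi.sub_apply, Pi.add_apply, Pi.smul_apply, smul_eq_mul, Finset.sum_insert hj]
      ring
    rw [this]
    refine Submodule.add_mem _ ?_ ih
    by_cases h : μ j = 0
    · rw [if_pos h, h, chi_zero]
      have : c j • (1 : (Fin m → kˣ) → k) - (fun _ => c j) = 0 := by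
        funext t; simp
      rw [this]
      exact Submodule.zero_mem _
    · rw [if_neg h]
      have : c j • (chi (μ j) : (Fin m → kˣ) → k) - (fun _ => (0 : k)) = c j • chi (μ j) := by
        funext t; simp
      rw [this]
      exact Submodule.smul_mem _ _ (chi_mem h)

theorem hasZ_of_eq {f g : (Fin m → kˣ) → k} {c : k} (h : HasZ f c) (hg : ∀ t, g t = f t) : HasZ g c := by
  have : g = f := funext hg
  rwa [this]

/-! ### `m = 1` -/

theorem Zm_one_gen {p : ℕ} [CharP k p] (hp : p.Prime) (n : Fin 1 → ℕ) (h : 2 * n 0 < p) : Zm 1 k n := by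
  classical
  set b := n 0 with hb
  refine ⟨_, _, _, _, _, _, ((2 * b).choose b : k), Bs_one, Bs_one, cast_ne' (choose_ne hp h (by omega)), ?_⟩
  have key := hasZ_sum (k := k) (m := 1) (range (2 * b + 1))
    (fun i => (-1) ^ b * ((-1) ^ i * ((2 * b).choose i : k))) (fun i => ![(i : ℤ) - b])
  have e : ∑ i ∈ range (2 * b + 1), (if (![(i : ℤ) - b] : Fin 1 → ℤ) = 0 then
      (-1) ^ b * ((-1) ^ i * ((2 * b).choose i : k)) else 0) = ((2 * b).choose b : k) := by
    rw [Finset.sum_eq_single b]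
    · rw [if_pos, ← mul_assoc, ← pow_add, ← two_mul, pow_mul]
      · norm_num
      · funext j
        simp
    · intro i _ hi
      rw [if_neg]
      intro h0
      have := congrFun h0 0
      simp at this
      omega
    · intro h0
      exact absurd (Finset.mem_range.2 (by omega)) h0
  rw [e] at key
  refine hasZ_of_eq key fun t => ?_
  rw [Fin.prod_univ_one, mn_base1]
  have ht := (t 0).ne_zero
  have h1 : ev k L1 t = -((1 + -(t 0 : k)) ^ 2 * ((t 0 : k))⁻¹) := by
    simp only [ev, L1, chi, _root_.Int.reduceNeg, _root_.List.map_cons, _root_.Int.cast_ofNat, _root_.Int.cast_neg, _root_.Int.cast_one, _root_.neg_smul, _root_.one_smul, _root_.List.map_nil, _root_.List.sum_cons, _root_.List.sum_nil, _root_.add_zero, _root_.Pi.add_apply, _root_.Pi.smul_apply, _root_.Finset.univ_unique, _root_.Fin.default_eq_zero, _root_.Fin.isValue, _root_.Pi.zero_apply, _root_.zpow_ofNat, _root_.pow_zero, _root_.Finset.prod_const_one, _root_.Units.val_one, _root_.smul_eq_mul, _root_.mul_one,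 _root_.Pi.neg_apply, _root_.Matrix.cons_val_fin_one, _root_.zpow_neg, _root_.pow_one, _root_.Finset.prod_inv_distrib, _root_.Finset.prod_singleton, _root_.Units.val_inv_eq_inv_val]
    field_simp
    ring
  have h2 : ev k L1 t ^ b = (-1) ^ b * ((1 + -(t 0 : k)) ^ (2 * b) * ((t 0 : k))⁻¹ ^ b) := by
    rw [h1, neg_pow, mul_pow, ← pow_mul]
  rw [← hb, h2, add_pow, Finset.sum_mul, Finset.mul_sum, ← Finset.sum_range_reflect]
  refine Finset.sum_congr rfl fun i hi => ?_
  have hi' : i ≤ 2 * b := by have := Finset.mem_range.1 hi; omega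
  have e1 : 2 * b + 1 - 1 - i = 2 * b - i := by omega
  have e2 : 2 * b - (2 * b - i) = i := by omega
  rw [e1, e2, one_pow, one_mul, Nat.choose_symm hi', neg_pow]
  have e3 : chi ![(i : ℤ) - b] t = (t 0 : k) ^ i * ((t 0 : k))⁻¹ ^ b := by
    simp [chi, zpow_sub₀ ht]
    field_simp
  rw [e3]
  ring

/-! ### `m = 2`, the special frame -/

def sU (k : Type*) [Field k] : Fin 2 → Ix 2 → k := ![mkv 1 ![2, 1] ![0, -1], mkv 0 ![1, 1] ![1, -1]]
def sU' (k : Type*) [Field k] : Fin 2 → Ix 2 → k := ![mkv 0 ![-1, 0] ![0, 1], mkv 0 ![1, 0] ![0, 0]]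
def sV (k : Type*) [Field k] : Fin 2 → Ix 2 → k := ![mkv 1 ![1, 0] ![-1, 0], mkv 0 ![1, -1] ![1, 1]]
def sV' (k : Type*) [Field k] : Fin 2 → Ix 2 → k := ![mkv 0 ![0, 0] ![1, 1], mkv 0 ![0, 0] ![0, -1]]

theorem Bs_sU : Bs (mkv 1 ![2, 0] ![0, -2] : Ix 2 → k) (sU k) (sU' k) := by
  constructor
  · rw [Q_apply]; simp [mkv]
  · intro i
    rw [polar_quadOdd]; (revert i; simp only [mkv, sU, _root_.Fin.forall_fin_succ, _root_.Sum.elim_inl, _root_.mul_one, _root_.Matrix.cons_val', _root_.Matrix.cons_val_fin_one, _root_.Sum.elim_inr, _root_.Fin.sum_univ_two, Fin.isValue, _root_.Matrix.cons_val_zero, _root_.MulZeroClass.mul_zero, _root_.add_zero, _root_.Matrix.cons_val_one, _root_.MulZeroClass.zero_mul, _root_.mul_neg, _root_.zero_add, _root_.one_mul, _root_.add_neg_cancel, _root_.Matrix.cons_val_succ, _root_.implies_true, _root_.and_self])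
  · intro i
    rw [polar_quadOdd]; (revert i; simp only [mkv, sU', _root_.Fin.forall_fin_succ, _root_.Sum.elim_inl, _root_.mul_one, _root_.Matrix.cons_val', _root_.Matrix.cons_val_fin_one, _root_.Sum.elim_inr, _root_.Fin.sum_univ_two, Fin.isValue, _root_.Matrix.cons_val_zero, _root_.MulZeroClass.mul_zero, _root_.add_zero, _root_.Matrix.cons_val_one, _root_.MulZeroClass.zero_mul, _root_.mul_neg, _root_.zero_add, _root_.neg_zero, _root_.Matrix.cons_val_succ, _root_.implies_true, _root_.and_self])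
  · intro i
    rw [Q_apply]; (revert i; simp only [mkv, sU, _root_.Fin.forall_fin_succ, _root_.Matrix.cons_val', _root_.Sum.elim_inl, _root_.Matrix.cons_val_fin_one, _root_.Sum.elim_inr, _root_.Fin.sum_univ_two, Fin.isValue, _root_.Matrix.cons_val_zero, _root_.Matrix.cons_val_one, _root_.one_pow, _root_.MulZeroClass.mul_zero, _root_.mul_neg, _root_.mul_one, _root_.zero_add, _root_.add_neg_cancel, _root_.Matrix.cons_val_succ, _root_.ne_eq, _root_.OfNat.ofNat_ne_zero, _root_.not_false_eq_true, _root_.zero_pow, _root_.add_zero, _root_.implies_true, _root_.and_self])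
  · intro i
    rw [Q_apply]; (revert i; simp only [mkv, sU', _root_.Fin.forall_fin_succ, _root_.Matrix.cons_val', _root_.Sum.elim_inl, _root_.Matrix.cons_val_fin_one, _root_.Sum.elim_inr, _root_.Fin.sum_univ_two, Fin.isValue, _root_.Matrix.cons_val_zero, _root_.Matrix.cons_val_one, _root_.ne_eq, _root_.OfNat.ofNat_ne_zero, _root_.not_false_eq_true, _root_.zero_pow, _root_.MulZeroClass.mul_zero, _root_.mul_one, _root_.add_zero, _root_.Matrix.cons_val_succ, _root_.implies_true, _root_.and_self])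
  · intro i j
    rw [polar_quadOdd]; (revert i j; simp only [mkv, sU, _root_.Fin.forall_fin_succ, _root_.Matrix.cons_val', _root_.Sum.elim_inl, _root_.Matrix.cons_val_fin_one, _root_.Sum.elim_inr, _root_.Fin.sum_univ_two, Fin.isValue, _root_.Matrix.cons_val_zero, _root_.Matrix.cons_val_one, _root_.mul_one, _root_.MulZeroClass.mul_zero, _root_.zero_add, _root_.mul_neg, _root_.one_mul, _root_.Matrix.cons_val_succ, _root_.forall_const, _root_.add_zero, _root_.and_self, _root_.add_add_neg_add_cancel, _root_.add_neg_cancel, _root_.and_true]) <;> (repeat' with_reducible apply And.intro) <;> ring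
  · intro i j
    rw [polar_quadOdd]; (revert i j; simp only [mkv, sU', _root_.Fin.forall_fin_succ, _root_.Matrix.cons_val', _root_.Sum.elim_inl, _root_.Matrix.cons_val_fin_one, _root_.Sum.elim_inr, _root_.Fin.sum_univ_two, Fin.isValue, _root_.Matrix.cons_val_zero, _root_.Matrix.cons_val_one, _root_.MulZeroClass.mul_zero, _root_.neg_mul, _root_.one_mul, _root_.zero_add, _root_.mul_one, _root_.MulZeroClass.zero_mul, _root_.add_zero, _root_.neg_add_cancel, _root_.Matrix.cons_val_succ, _root_.forall_const, _root_.true_and, _root_.implies_true, _root_.and_self])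
  · intro i j
    rw [polar_quadOdd]; (revert i j; simp only [mkv, sU, sU', _root_.Fin.forall_fin_succ, _root_.Matrix.cons_val', _root_.Sum.elim_inl, _root_.Matrix.cons_val_fin_one, _root_.Sum.elim_inr, _root_.Fin.sum_univ_two, Fin.isValue, _root_.Matrix.cons_val_zero, _root_.Matrix.cons_val_one, _root_.MulZeroClass.mul_zero, _root_.neg_mul, _root_.one_mul, _root_.zero_add, _root_.mul_one, _root_.MulZeroClass.zero_mul, _root_.add_zero, _root_.Matrix.cons_val_succ, _root_.Fin.succ_zero_eq_one, _root_.IsEmpty.forall_iff, _root_.and_true, _root_.neg_zero, ↓reduceIte, _root_.zero_ne_one, _root_.and_self, _root_.neg_add_cancel, _root_.Fin.succ_ne_zero, _root_.left_eq_ite_iff, _root_.one_ne_zero, _root_.imp_false, _root_.Decidable.not_not, _root_.true_and])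

theorem Bs_sV : Bs (mkv 1 ![0, 0] ![-2, -2] : Ix 2 → k) (sV k) (sV' k) := by
  constructor
  · rw [Q_apply]; simp [mkv]
  · intro i
    rw [polar_quadOdd]; (revert i; simp only [mkv, sV, _root_.Fin.forall_fin_succ, _root_.Sum.elim_inl, _root_.mul_one, _root_.Matrix.cons_val', _root_.Matrix.cons_val_fin_one, _root_.Sum.elim_inr, _root_.Fin.sum_univ_two, Fin.isValue, _root_.Matrix.cons_val_zero, _root_.MulZeroClass.zero_mul, _root_.mul_neg, _root_.zero_add, _root_.Matrix.cons_val_one, _root_.one_mul, _root_.neg_zero, _root_.add_zero, _root_.add_neg_cancel, _root_.Matrix.cons_val_succ, _root_.MulZeroClass.mul_zero, _root_.neg_mul, _root_.neg_neg, _root_.neg_add_cancel, _root_.implies_true, _root_.and_self])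
  · intro i
    rw [polar_quadOdd]; (revert i; simp only [mkv, sV', _root_.Fin.forall_fin_succ, _root_.Sum.elim_inl, _root_.mul_one, _root_.Matrix.cons_val', _root_.Matrix.cons_val_fin_one, _root_.Sum.elim_inr, _root_.Fin.sum_univ_two, Fin.isValue, _root_.Matrix.cons_val_zero, _root_.MulZeroClass.zero_mul, _root_.mul_neg, _root_.zero_add, _root_.Matrix.cons_val_one, _root_.MulZeroClass.mul_zero, _root_.neg_zero, _root_.add_zero, _root_.Matrix.cons_val_succ, _root_.implies_true, _root_.and_self])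
  · intro i
    rw [Q_apply]; (revert i; simp only [mkv, sV, _root_.Fin.forall_fin_succ, _root_.Matrix.cons_val', _root_.Sum.elim_inl, _root_.Matrix.cons_val_fin_one, _root_.Sum.elim_inr, _root_.Fin.sum_univ_two, Fin.isValue, _root_.Matrix.cons_val_zero, _root_.Matrix.cons_val_one, _root_.one_pow, _root_.mul_neg, _root_.mul_one, _root_.MulZeroClass.mul_zero, _root_.add_zero, _root_.add_neg_cancel, _root_.Matrix.cons_val_succ, _root_.ne_eq, _root_.OfNat.ofNat_ne_zero, _root_.not_false_eq_true, _root_.zero_pow, _root_.implies_true, _root_.and_self])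
  · intro i
    rw [Q_apply]; (revert i; simp only [mkv, sV', _root_.Fin.forall_fin_succ, _root_.Matrix.cons_val', _root_.Sum.elim_inl, _root_.Matrix.cons_val_fin_one, _root_.Sum.elim_inr, _root_.Fin.sum_univ_two, Fin.isValue, _root_.Matrix.cons_val_zero, _root_.Matrix.cons_val_one, _root_.ne_eq, _root_.OfNat.ofNat_ne_zero, _root_.not_false_eq_true, _root_.zero_pow, _root_.mul_one, _root_.add_zero, _root_.Matrix.cons_val_succ, _root_.MulZeroClass.mul_zero, _root_.mul_neg, _root_.neg_zero, _root_.implies_true, _root_.and_self])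
  · intro i j
    rw [polar_quadOdd]; (revert i j; simp only [mkv, sV, _root_.Fin.forall_fin_succ, _root_.Matrix.cons_val', _root_.Sum.elim_inl, _root_.Matrix.cons_val_fin_one, _root_.Sum.elim_inr, _root_.Fin.sum_univ_two, Fin.isValue, _root_.Matrix.cons_val_zero, _root_.Matrix.cons_val_one, _root_.mul_one, _root_.mul_neg, _root_.one_mul, _root_.MulZeroClass.mul_zero, _root_.MulZeroClass.zero_mul, _root_.add_zero, _root_.Matrix.cons_val_succ, _root_.neg_mul, _root_.zero_add, _root_.forall_const, _root_.add_neg_cancel, _root_.neg_zero, _root_.and_true, _root_.neg_add_cancel, _root_.add_add_neg_add_cancel, _root_.and_self, _root_.implies_true]) <;> (repeat' with_reducible apply And.intro) <;> ring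
  · intro i j
    rw [polar_quadOdd]; (revert i j; simp only [mkv, sV', _root_.Fin.forall_fin_succ, _root_.Matrix.cons_val', _root_.Sum.elim_inl, _root_.Matrix.cons_val_fin_one, _root_.Sum.elim_inr, _root_.Fin.sum_univ_two, Fin.isValue, _root_.Matrix.cons_val_zero, _root_.Matrix.cons_val_one, _root_.MulZeroClass.mul_zero, _root_.mul_one, _root_.MulZeroClass.zero_mul, _root_.add_zero, _root_.zero_add, _root_.Matrix.cons_val_succ, _root_.mul_neg, _root_.neg_eq_zero, _root_.forall_const, _root_.and_self, _root_.implies_true])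
  · intro i j
    rw [polar_quadOdd]; (revert i j; simp only [mkv, sV, sV', _root_.Fin.forall_fin_succ, _root_.Matrix.cons_val', _root_.Sum.elim_inl, _root_.Matrix.cons_val_fin_one, _root_.Sum.elim_inr, _root_.Fin.sum_univ_two, Fin.isValue, _root_.Matrix.cons_val_zero, _root_.Matrix.cons_val_one, _root_.MulZeroClass.mul_zero, _root_.mul_one, _root_.MulZeroClass.zero_mul, _root_.add_zero, _root_.zero_add, _root_.Matrix.cons_val_succ, _root_.mul_neg, _root_.Fin.succ_zero_eq_one, _root_.IsEmpty.forall_iff, _root_.and_true, ↓reduceIte, _root_.neg_zero, _root_.zero_ne_one, _root_.and_self, _root_.add_neg_cancel, _root_.Fin.succ_ne_zero, _root_.neg_neg, _root_.left_eq_ite_iff, _root_.one_ne_zero, _root_.imp_false, _root_.Decidable.not_not, _root_.true_and])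

theorem mn_s0 (t : Fin 2 → kˣ) : mn t (sV k) (sU k) 0 = 2 * (1 - t 0) := by
  unfold mn
  refine (Matrix.det_fin_one _).trans ?_
  change polar (quadOdd 2 k) (mkv 1 ![1, 0] ![-1, 0]) (tor t (mkv 1 ![2, 1] ![0, -1])) = _
  rw [polar_quadOdd]
  simp only [tor_z, tor_e, tor_f, mkv_z, mkv_e, mkv_f, Fin.sum_univ_two]
  simp only [_root_.mul_one, _root_.Fin.isValue, _root_.Matrix.cons_val_zero, _root_.Units.val_inv_eq_inv_val, _root_.MulZeroClass.mul_zero, _root_.mul_neg, _root_.zero_add, _root_.Matrix.cons_val_one, _root_.Matrix.cons_val_fin_one, _root_.MulZeroClass.zero_mul, _root_.neg_zero, _root_.add_zero]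
  try ring

theorem mn_s1 (t : Fin 2 → kˣ) : mn t (sV k) (sU k) 1 =
    -((1 - t 0) ^ 2 * (1 - t 1) ^ 2 * ((t 0 : k)⁻¹ * (t 1 : k)⁻¹)) := by
  unfold mn
  refine (Matrix.det_fin_two _).trans ?_
  change polar (quadOdd 2 k) (mkv 1 ![1, 0] ![-1, 0]) (tor t (mkv 1 ![2, 1] ![0, -1])) *
    polar (quadOdd 2 k) (mkv 0 ![1, -1] ![1, 1]) (tor t (mkv 0 ![1, 1] ![1, -1])) -
    polar (quadOdd 2 k) (mkv 1 ![1, 0] ![-1, 0]) (tor t (mkv 0 ![1, 1] ![1, -1])) *
    polar (quadOdd 2 k) (mkv 0 ![1, -1] ![1, 1]) (tor t (mkv 1 ![2, 1] ![0, -1])) = _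
  rw [polar_quadOdd, polar_quadOdd, polar_quadOdd, polar_quadOdd]
  simp only [tor_z, tor_e, tor_f, mkv_z, mkv_e, mkv_f, Fin.sum_univ_two]
  have h0 := (t 0).ne_zero
  have h1 := (t 1).ne_zero
  simp only [_root_.mul_one, _root_.Fin.isValue, _root_.Matrix.cons_val_zero, _root_.Units.val_inv_eq_inv_val, _root_.MulZeroClass.mul_zero, _root_.mul_neg, _root_.zero_add, _root_.Matrix.cons_val_one, _root_.Matrix.cons_val_fin_one, _root_.MulZeroClass.zero_mul, _root_.neg_zero, _root_.add_zero, _root_.one_mul, _root_.neg_mul, _root_.neg_neg]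
  field_simp
  ring

/-- binomial theorem -/
theorem one_sub_pow (x : k) (N : ℕ) : (1 - x) ^ N = ∑ i ∈ range (N + 1), (-1) ^ i * (N.choose i : k) * x ^ i := by
  rw [sub_eq_add_neg, add_comm, add_pow]
  refine Finset.sum_congr rfl fun i _ => ?_
  rw [one_pow, neg_pow]
  ring

theorem chi_two (t : Fin 2 → kˣ) (x y : ℤ) : chi (k := k) ![x, y] t = (t 0 : k) ^ x * (t 1 : k) ^ y := by
  simp [chi]

theorem Zm_special {p : ℕ} [CharP k p] (hp : p.Prime) (hp2 : p ≠ 2) (n : Fin 2 → ℕ) (h0 : n 0 < p) (h1 : 2 * n 1 < p)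
    (h : n 0 + 2 * n 1 < p ∨ p ≤ n 0 + n 1) : Zm 2 k n := by
  classical
  set a := n 0 with ha
  set b := n 1 with hb
  have h2 : (2 : k) ≠ 0 := by
    have : ((2 : ℕ) : k) ≠ 0 := cast_ne' (p := p) (fun h => hp2 ((Nat.prime_dvd_prime_iff_eq hp Nat.prime_two).1 h))
    exact_mod_cast this
  have hc : 2 ^ a * (-1) ^ b * (((-1) ^ b * ((a + 2 * b).choose b : k)) * ((-1) ^ b * ((2 * b).choose b : k))) ≠ (0 : k) := by
    refine mul_ne_zero (mul_ne_zero (pow_ne_zero _ h2) (pow_ne_zero _ (by simp)))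
      (mul_ne_zero (mul_ne_zero (pow_ne_zero _ (by simp)) ?_) (mul_ne_zero (pow_ne_zero _ (by simp)) ?_))
    · exact cast_ne' (choose_ne' hp h0 h1 h)
    · exact cast_ne' (choose_ne hp h1 (by omega))
  refine ⟨_, _, _, _, _, _, _, Bs_sU, Bs_sV, hc, ?_⟩
  have key := hasZ_sum (k := k) (m := 2) (range (a + 2 * b + 1) ×ˢ range (2 * b + 1))
    (fun i => 2 ^ a * (-1) ^ b * (((-1) ^ i.1 * ((a + 2 * b).choose i.1 : k)) * ((-1) ^ i.2 * ((2 * b).choose i.2 : k))))
    (fun i => ![(i.1 : ℤ) - b, (i.2 : ℤ) - b])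
  have e : ∑ i ∈ range (a + 2 * b + 1) ×ˢ range (2 * b + 1), (if (![(i.1 : ℤ) - b, (i.2 : ℤ) - b] : Fin 2 → ℤ) = 0 then
      2 ^ a * (-1) ^ b * (((-1) ^ i.1 * ((a + 2 * b).choose i.1 : k)) * ((-1) ^ i.2 * ((2 * b).choose i.2 : k))) else 0) =
      2 ^ a * (-1) ^ b * (((-1) ^ b * ((a + 2 * b).choose b : k)) * ((-1) ^ b * ((2 * b).choose b : k))) := by
    rw [Finset.sum_eq_single (b, b)]
    · rw [if_pos]
      funext j
      fin_cases j <;> simp
    · rintro ⟨i, j⟩ _ hij
      rw [if_neg]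
      intro h0
      have h3 := congrFun h0 0
      have h4 := congrFun h0 1
      simp at h3 h4
      apply hij
      rw [Prod.mk.injEq]
      omega
    · intro h0
      exact absurd (Finset.mem_product.2 ⟨Finset.mem_range.2 (by omega), Finset.mem_range.2 (by omega)⟩) h0
  rw [e] at key
  refine hasZ_of_eq key fun t => ?_
  rw [Fin.prod_univ_two, mn_s0, mn_s1, ← ha, ← hb]
  have ht0 := (t 0).ne_zero
  have ht1 := (t 1).ne_zero
  have e1 : (2 * (1 - (t 0 : k))) ^ a * (-((1 - (t 0 : k)) ^ 2 * (1 - (t 1 : k)) ^ 2 * ((t 0 : k)⁻¹ * (t 1 : k)⁻¹))) ^ b =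
      2 ^ a * (-1) ^ b * (((1 - (t 0 : k)) ^ (a + 2 * b) * (t 0 : k)⁻¹ ^ b) * ((1 - (t 1 : k)) ^ (2 * b) * (t 1 : k)⁻¹ ^ b)) := by
    rw [neg_pow, mul_pow, mul_pow, mul_pow, mul_pow, pow_add, ← pow_mul, ← pow_mul]
    ring
  rw [e1, one_sub_pow, one_sub_pow, Finset.sum_mul, Finset.sum_mul, Finset.mul_sum, Finset.sum_product]
  refine Finset.sum_congr rfl fun i _ => ?_
  rw [Finset.sum_mul, Finset.mul_sum, Finset.mul_sum]
  refine Finset.sum_congr rfl fun j _ => ?_
  rw [chi_two, zpow_sub₀ ht0, zpow_sub₀ ht1, zpow_natCast, zpow_natCast, zpow_natCast, zpow_natCast, inv_pow, inv_pow]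
  field_simp

/-! ### `m = 2`, the product frame -/

def pU (k : Type*) [Field k] : Fin 2 → Ix 2 → k := ![mkv 0 ![1, 1] ![1, -1], mkv 1 ![0, 1] ![2, -1]]
def pU' (k : Type*) [Field k] : Fin 2 → Ix 2 → k := ![mkv 0 ![0, 0] ![1, 0], mkv 0 ![0, 0] ![-1, 1]]
def pV (l : k) : Fin 2 → Ix 2 → k := ![mkv 0 ![1, -1] ![1, 1], mkv l ![0, -1] ![l ^ 2 + 1, l ^ 2]]
def pV' (k : Type*) [Field k] : Fin 2 → Ix 2 → k := ![mkv 0 ![0, 0] ![1, 0], mkv 0 ![0, 0] ![-1, -1]]

theorem Bs_pU : Bs (mkv 1 ![0, 0] ![2, -2] : Ix 2 → k) (pU k) (pU' k) := by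
  constructor
  · rw [Q_apply]; simp [mkv]
  · intro i
    rw [polar_quadOdd]; (revert i; simp only [mkv, pU, _root_.Fin.forall_fin_succ, _root_.Sum.elim_inl, _root_.mul_one, _root_.Matrix.cons_val', _root_.Matrix.cons_val_fin_one, _root_.Sum.elim_inr, _root_.Fin.sum_univ_two, Fin.isValue, _root_.Matrix.cons_val_zero, _root_.MulZeroClass.zero_mul, _root_.zero_add, _root_.Matrix.cons_val_one, _root_.mul_neg, _root_.MulZeroClass.mul_zero, _root_.one_mul, _root_.add_neg_cancel, _root_.add_zero, _root_.Matrix.cons_val_succ, _root_.implies_true, _root_.and_self])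
  · intro i
    rw [polar_quadOdd]; (revert i; simp only [mkv, pU', _root_.Fin.forall_fin_succ, _root_.Sum.elim_inl, _root_.mul_one, _root_.Matrix.cons_val', _root_.Matrix.cons_val_fin_one, _root_.Sum.elim_inr, _root_.Fin.sum_univ_two, Fin.isValue, _root_.Matrix.cons_val_zero, _root_.MulZeroClass.zero_mul, _root_.zero_add, _root_.Matrix.cons_val_one, _root_.mul_neg, _root_.add_neg_cancel, _root_.add_zero, _root_.mul_eq_zero, _root_.or_true, _root_.Matrix.cons_val_succ, _root_.implies_true, _root_.and_self])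
  · intro i
    rw [Q_apply]; (revert i; simp only [mkv, pU, _root_.Fin.forall_fin_succ, _root_.Matrix.cons_val', _root_.Sum.elim_inl, _root_.Matrix.cons_val_fin_one, _root_.Sum.elim_inr, _root_.Fin.sum_univ_two, Fin.isValue, _root_.Matrix.cons_val_zero, _root_.Matrix.cons_val_one, _root_.ne_eq, _root_.OfNat.ofNat_ne_zero, _root_.not_false_eq_true, _root_.zero_pow, _root_.mul_one, _root_.mul_neg, _root_.add_neg_cancel, _root_.add_zero, _root_.Matrix.cons_val_succ, _root_.one_pow, _root_.MulZeroClass.zero_mul, _root_.zero_add, _root_.implies_true, _root_.and_self])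
  · intro i
    rw [Q_apply]; (revert i; simp only [mkv, pU', _root_.Fin.forall_fin_succ, _root_.Matrix.cons_val', _root_.Sum.elim_inl, _root_.Matrix.cons_val_fin_one, _root_.Sum.elim_inr, _root_.Fin.sum_univ_two, Fin.isValue, _root_.Matrix.cons_val_zero, _root_.Matrix.cons_val_one, _root_.ne_eq, _root_.OfNat.ofNat_ne_zero, _root_.not_false_eq_true, _root_.zero_pow, _root_.mul_one, _root_.MulZeroClass.mul_zero, _root_.add_zero, _root_.Matrix.cons_val_succ, _root_.mul_neg, _root_.neg_zero, _root_.implies_true, _root_.and_self])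
  · intro i j
    rw [polar_quadOdd]; (revert i j; simp only [mkv, pU, _root_.Fin.forall_fin_succ, _root_.Matrix.cons_val', _root_.Sum.elim_inl, _root_.Matrix.cons_val_fin_one, _root_.Sum.elim_inr, _root_.Fin.sum_univ_two, Fin.isValue, _root_.Matrix.cons_val_zero, _root_.Matrix.cons_val_one, _root_.MulZeroClass.mul_zero, _root_.mul_one, _root_.one_mul, _root_.mul_neg, _root_.zero_add, _root_.Matrix.cons_val_succ, _root_.MulZeroClass.zero_mul, _root_.add_zero, _root_.forall_const, _root_.add_add_neg_add_cancel, _root_.add_neg_cancel, _root_.true_and, _root_.and_self]) <;> (repeat' with_reducible apply And.intro) <;> ring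
  · intro i j
    rw [polar_quadOdd]; (revert i j; simp only [mkv, pU', _root_.Fin.forall_fin_succ, _root_.Matrix.cons_val', _root_.Sum.elim_inl, _root_.Matrix.cons_val_fin_one, _root_.Sum.elim_inr, _root_.Fin.sum_univ_two, Fin.isValue, _root_.Matrix.cons_val_zero, _root_.Matrix.cons_val_one, _root_.MulZeroClass.mul_zero, _root_.mul_one, _root_.MulZeroClass.zero_mul, _root_.add_zero, _root_.zero_add, _root_.Matrix.cons_val_succ, _root_.mul_neg, _root_.neg_add_cancel, _root_.implies_true, _root_.and_true, _root_.and_self])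
  · intro i j
    rw [polar_quadOdd]; (revert i j; simp only [mkv, pU, pU', _root_.Fin.forall_fin_succ, _root_.Matrix.cons_val', _root_.Sum.elim_inl, _root_.Matrix.cons_val_fin_one, _root_.Sum.elim_inr, _root_.Fin.sum_univ_two, Fin.isValue, _root_.Matrix.cons_val_zero, _root_.Matrix.cons_val_one, _root_.MulZeroClass.mul_zero, _root_.mul_one, _root_.MulZeroClass.zero_mul, _root_.add_zero, _root_.zero_add, _root_.Matrix.cons_val_succ, _root_.mul_neg, _root_.Fin.succ_zero_eq_one, _root_.IsEmpty.forall_iff, _root_.and_true, ↓reduceIte, _root_.neg_add_cancel, _root_.zero_ne_one, _root_.and_self, _root_.Fin.succ_ne_zero, _root_.neg_zero, _root_.left_eq_ite_iff, _root_.one_ne_zero, _root_.imp_false, _root_.Decidable.not_not, _root_.true_and])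

theorem Bs_pV (l : k) : Bs (mkv 1 ![0, 0] ![2 * l, 2 * l] : Ix 2 → k) (pV l) (pV' k) := by
  constructor
  · rw [Q_apply]; simp [mkv]
  · intro i
    rw [polar_quadOdd]; (revert i; simp only [mkv, pV, _root_.Fin.forall_fin_succ, _root_.Sum.elim_inl, _root_.mul_one, _root_.Matrix.cons_val', _root_.Matrix.cons_val_fin_one, _root_.Sum.elim_inr, _root_.Fin.sum_univ_two, Fin.isValue, _root_.Matrix.cons_val_zero, _root_.MulZeroClass.zero_mul, _root_.zero_add, _root_.Matrix.cons_val_one, _root_.MulZeroClass.mul_zero, _root_.one_mul, _root_.neg_mul, _root_.add_neg_cancel, _root_.add_zero, _root_.Matrix.cons_val_succ, _root_.implies_true, _root_.and_self])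
  · intro i
    rw [polar_quadOdd]; (revert i; simp only [mkv, pV', _root_.Fin.forall_fin_succ, _root_.Sum.elim_inl, _root_.mul_one, _root_.Matrix.cons_val', _root_.Matrix.cons_val_fin_one, _root_.Sum.elim_inr, _root_.Fin.sum_univ_two, Fin.isValue, _root_.Matrix.cons_val_zero, _root_.MulZeroClass.zero_mul, _root_.zero_add, _root_.Matrix.cons_val_one, _root_.MulZeroClass.mul_zero, _root_.add_zero, _root_.Matrix.cons_val_succ, _root_.implies_true, _root_.and_self])
  · intro i
    rw [Q_apply]; (revert i; simp only [mkv, pV, _root_.Fin.forall_fin_succ, _root_.Matrix.cons_val', _root_.Sum.elim_inl, _root_.Matrix.cons_val_fin_one, _root_.Sum.elim_inr, _root_.Fin.sum_univ_two, Fin.isValue, _root_.Matrix.cons_val_zero, _root_.Matrix.cons_val_one, _root_.ne_eq, _root_.OfNat.ofNat_ne_zero, _root_.not_false_eq_true, _root_.zero_pow, _root_.mul_one, _root_.add_neg_cancel, _root_.add_zero, _root_.Matrix.cons_val_succ, _root_.MulZeroClass.zero_mul, _root_.neg_mul, _root_.one_mul,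 _root_.zero_add, _root_.implies_true, _root_.and_self])
  · intro i
    rw [Q_apply]; (revert i; simp only [mkv, pV', _root_.Fin.forall_fin_succ, _root_.Matrix.cons_val', _root_.Sum.elim_inl, _root_.Matrix.cons_val_fin_one, _root_.Sum.elim_inr, _root_.Fin.sum_univ_two, Fin.isValue, _root_.Matrix.cons_val_zero, _root_.Matrix.cons_val_one, _root_.ne_eq, _root_.OfNat.ofNat_ne_zero, _root_.not_false_eq_true, _root_.zero_pow, _root_.mul_one, _root_.MulZeroClass.mul_zero, _root_.add_zero, _root_.Matrix.cons_val_succ, _root_.mul_neg, _root_.neg_zero, _root_.implies_true, _root_.and_self])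
  · intro i j
    rw [polar_quadOdd]; (revert i j; simp only [mkv, pV, _root_.Fin.forall_fin_succ, _root_.Matrix.cons_val', _root_.Sum.elim_inl, _root_.Matrix.cons_val_fin_one, _root_.Sum.elim_inr, _root_.Fin.sum_univ_two, Fin.isValue, _root_.Matrix.cons_val_zero, _root_.Matrix.cons_val_one, _root_.MulZeroClass.mul_zero, _root_.mul_one, _root_.one_mul, _root_.neg_mul, _root_.zero_add, _root_.Matrix.cons_val_succ, _root_.MulZeroClass.zero_mul, _root_.add_zero, _root_.forall_const, _root_.add_add_neg_add_cancel, _root_.add_neg_cancel, _root_.true_and]) <;> (repeat' with_reducible apply And.intro) <;> ring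
  · intro i j
    rw [polar_quadOdd]; (revert i j; simp only [mkv, pV', _root_.Fin.forall_fin_succ, _root_.Matrix.cons_val', _root_.Sum.elim_inl, _root_.Matrix.cons_val_fin_one, _root_.Sum.elim_inr, _root_.Fin.sum_univ_two, Fin.isValue, _root_.Matrix.cons_val_zero, _root_.Matrix.cons_val_one, _root_.MulZeroClass.mul_zero, _root_.mul_one, _root_.MulZeroClass.zero_mul, _root_.add_zero, _root_.zero_add, _root_.Matrix.cons_val_succ, _root_.mul_neg, _root_.forall_const, _root_.neg_zero, _root_.and_self, _root_.implies_true])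
  · intro i j
    rw [polar_quadOdd]; (revert i j; simp only [mkv, pV, pV', _root_.Fin.forall_fin_succ, _root_.Matrix.cons_val', _root_.Sum.elim_inl, _root_.Matrix.cons_val_fin_one, _root_.Sum.elim_inr, _root_.Fin.sum_univ_two, Fin.isValue, _root_.Matrix.cons_val_zero, _root_.Matrix.cons_val_one, _root_.MulZeroClass.mul_zero, _root_.mul_one, _root_.MulZeroClass.zero_mul, _root_.add_zero, _root_.zero_add, _root_.Matrix.cons_val_succ, _root_.mul_neg, _root_.Fin.succ_zero_eq_one, _root_.IsEmpty.forall_iff, _root_.and_true, ↓reduceIte, _root_.neg_neg, _root_.neg_add_cancel, _root_.zero_ne_one, _root_.and_self, _root_.Fin.succ_ne_zero, _root_.neg_zero, _root_.left_eq_ite_iff, _root_.one_ne_zero, _root_.imp_false, _root_.Decidable.not_not, _root_.true_and])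

theorem mn_p0 (l : k) (t : Fin 2 → kˣ) {A B : k} (hA : A ≠ 0) (hB : B ≠ 0) (h0 : (t 0 : k) = A * B)
    (h1 : (t 1 : k) = A / B) : mn t (pV l) (pU k) 0 = (A + A⁻¹) * (B + B⁻¹) := by
  unfold mn
  refine (Matrix.det_fin_one _).trans ?_
  change polar (quadOdd 2 k) (mkv 0 ![1, -1] ![1, 1]) (tor t (mkv 0 ![1, 1] ![1, -1])) = _
  rw [polar_quadOdd]
  simp only [tor_z, tor_e, tor_f, mkv_z, mkv_e, mkv_f, Fin.sum_univ_two]
  simp only [h0, h1, _root_.MulZeroClass.mul_zero, _root_.Fin.isValue, _root_.Matrix.cons_val_zero, _root_.Units.val_inv_eq_inv_val, _root_.mul_inv_rev, _root_.mul_one, _root_.one_mul, _root_.Matrix.cons_val_one, _root_.Matrix.cons_val_fin_one, _root_.inv_div, _root_.mul_neg, _root_.neg_mul, _root_.neg_neg, _root_.zero_add]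
  field_simp
  ring

theorem mn_p1 (l : k) (t : Fin 2 → kˣ) {A B : k} (hA : A ≠ 0) (hB : B ≠ 0) (h0 : (t 0 : k) = A * B)
    (h1 : (t 1 : k) = A / B) : mn t (pV l) (pU k) 1 = -((A + A⁻¹) - l * (B + B⁻¹)) ^ 2 := by
  unfold mn
  refine (Matrix.det_fin_two _).trans ?_
  change polar (quadOdd 2 k) (mkv 0 ![1, -1] ![1, 1]) (tor t (mkv 0 ![1, 1] ![1, -1])) *
    polar (quadOdd 2 k) (mkv l ![0, -1] ![l ^ 2 + 1, l ^ 2]) (tor t (mkv 1 ![0, 1] ![2, -1])) -
    polar (quadOdd 2 k) (mkv 0 ![1, -1] ![1, 1]) (tor t (mkv 1 ![0, 1] ![2, -1])) *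
    polar (quadOdd 2 k) (mkv l ![0, -1] ![l ^ 2 + 1, l ^ 2]) (tor t (mkv 0 ![1, 1] ![1, -1])) = _
  rw [polar_quadOdd, polar_quadOdd, polar_quadOdd, polar_quadOdd]
  simp only [tor_z, tor_e, tor_f, mkv_z, mkv_e, mkv_f, Fin.sum_univ_two]
  simp only [h0, h1, _root_.MulZeroClass.mul_zero, _root_.Fin.isValue, _root_.Matrix.cons_val_zero, _root_.Units.val_inv_eq_inv_val, _root_.mul_inv_rev, _root_.mul_one, _root_.one_mul, _root_.Matrix.cons_val_one, _root_.Matrix.cons_val_fin_one, _root_.inv_div, _root_.mul_neg, _root_.neg_mul, _root_.neg_neg, _root_.zero_add, _root_.MulZeroClass.zero_mul, _root_.add_zero]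
  field_simp
  ring

/-- `(A + A⁻¹) ^ N` with a longer range -/
theorem add_inv_pow {A : k} (hA : A ≠ 0) {N T : ℕ} (hT : N ≤ T) :
    (A + A⁻¹) ^ N = ∑ i ∈ range (T + 1), (N.choose i : k) * A ^ (2 * (i : ℤ) - N) := by
  have h1 : (A + A⁻¹) ^ N = ∑ i ∈ range (N + 1), (N.choose i : k) * A ^ (2 * (i : ℤ) - N) := by
    rw [add_pow]
    refine Finset.sum_congr rfl fun i hi => ?_
    have hi' : i ≤ N := by have := Finset.mem_range.1 hi; omega
    have h2 : A ^ i * A⁻¹ ^ (N - i) = A ^ (2 * (i : ℤ) - N) := by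
      rw [inv_pow, ← zpow_natCast, ← zpow_natCast, ← zpow_neg, ← zpow_add₀ hA]
      congr 1
      push_cast [Nat.cast_sub hi']
      ring
    rw [h2, mul_comm]
  rw [h1]
  refine Finset.sum_subset (fun i hi => Finset.mem_range.2 (by have := Finset.mem_range.1 hi; omega)) fun i _ hi => ?_
  rw [Nat.choose_eq_zero_of_lt (by
    have : ¬ i < N + 1 := fun h => hi (Finset.mem_range.2 h)
    omega), Nat.cast_zero, zero_mul]

theorem zpow_AB {A B : k} (hA : A ≠ 0) (hB : B ≠ 0) (x y : ℤ) :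
    (A * B) ^ x * (A / B) ^ y = A ^ (x + y) * B ^ (x - y) := by
  rw [mul_zpow, div_zpow, zpow_add₀ hA, zpow_sub₀ hB]
  ring

theorem Zm_prod [IsAlgClosed k] {p : ℕ} [CharP k p] (hp : p.Prime) (hp2 : p ≠ 2) (n : Fin 2 → ℕ) (h0 : n 0 + n 1 < p)
    (h1 : 2 * n 1 < p) (hb0 : 0 < n 1) : Zm 2 k n := by
  classical
  set a := n 0 with ha
  set b := n 1 with hb
  have hodd := hp.odd_of_ne_two hp2
  -- the exponent `s`
  obtain ⟨s, x, y, hs, hx, hy, hx1, hy1⟩ : ∃ s x y : ℕ, s ≤ 2 * b ∧ a + 2 * b - s = 2 * x ∧ a + s = 2 * y ∧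
      2 * x < p ∧ 2 * y < p := by
    rcases Nat.even_or_odd (a + b) with he | ho
    · obtain ⟨c, hc⟩ := he
      exact ⟨b, c, c, by omega, by omega, by omega, by omega, by omega⟩
    · obtain ⟨c, hc⟩ := ho
      obtain ⟨d, hd⟩ := hodd
      exact ⟨b + 1, c, c + 1, by omega, by omega, by omega, by omega, by omega⟩
  -- the coefficients
  let γ : ℕ → ℕ → ℕ → k := fun r i j =>
    (-1) ^ b * ((2 * b).choose r : k) * ((-1) ^ r * (((a + 2 * b - r).choose i : k) * ((a + r).choose j : k)))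
  let μ : ℕ → ℕ → ℕ → Fin 2 → ℤ := fun r i j => ![(i : ℤ) + j - a - b, (i : ℤ) - j + r - b]
  let T := a + 2 * b
  let P : Polynomial k := ∑ r ∈ range (2 * b + 1),
    Polynomial.C (∑ i ∈ range (T + 1), ∑ j ∈ range (T + 1), if μ r i j = 0 then γ r i j else 0) * Polynomial.X ^ r
  have hPs : P.coeff s ≠ 0 := by
    have e1 : P.coeff s = ∑ i ∈ range (T + 1), ∑ j ∈ range (T + 1), if μ s i j = 0 then γ s i j else 0 := by
      rw [Polynomial.finsetSum_coeff, Finset.sum_eq_single s]
      · rw [Polynomial.coeff_C_mul_X_pow, if_pos rfl]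
      · intro r _ hr
        rw [Polynomial.coeff_C_mul_X_pow, if_neg (Ne.symm hr)]
      · intro h
        exact absurd (Finset.mem_range.2 (by omega)) h
    have e2 : ∑ i ∈ range (T + 1), ∑ j ∈ range (T + 1), (if μ s i j = 0 then γ s i j else 0) = γ s x y := by
      rw [Finset.sum_eq_single x]
      · rw [Finset.sum_eq_single y]
        · rw [if_pos]
          funext j
          fin_cases j
          · show (x : ℤ) + y - a - b = 0
            omega
          · show (x : ℤ) - y + s - b = 0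
            omega
        · intro j _ hj
          rw [if_neg]
          intro h
          have h3 : (x : ℤ) + j - a - b = 0 := congrFun h 0
          omega
        · intro h
          exact absurd (Finset.mem_range.2 (by omega)) h
      · intro i _ hi
        apply Finset.sum_eq_zero
        intro j _
        rw [if_neg]
        intro h
        have h3 : (i : ℤ) + j - a - b = 0 := congrFun h 0
        have h4 : (i : ℤ) - j + s - b = 0 := congrFun h 1
        omega
      · intro h
        exact absurd (Finset.mem_range.2 (by omega)) h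
    rw [e1, e2]
    refine mul_ne_zero (mul_ne_zero (pow_ne_zero _ (by simp)) (cast_ne' (choose_ne hp h1 hs)))
      (mul_ne_zero (pow_ne_zero _ (by simp)) (mul_ne_zero (cast_ne' (choose_ne hp ?_ ?_)) (cast_ne' (choose_ne hp ?_ ?_))))
    all_goals (clear * - hx hx1 hy hy1; omega)
  have hP : P ≠ 0 := by
    intro h
    rw [h, Polynomial.coeff_zero] at hPs
    exact hPs rfl
  obtain ⟨l, hl⟩ : ∃ l : k, P.eval l ≠ 0 := by
    by_contra hcon
    push Not at hcon
    have : Infinite k := IsAlgClosed.instInfinite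
    exact hP (Polynomial.funext fun r => by rw [hcon, Polynomial.eval_zero])
  refine ⟨_, _, _, _, _, _, _, Bs_pU, Bs_pV l, hl, ?_⟩
  have key := hasZ_sum (k := k) (m := 2) (range (2 * b + 1) ×ˢ (range (T + 1) ×ˢ range (T + 1)))
    (fun i => γ i.1 i.2.1 i.2.2 * l ^ i.1) (fun i => μ i.1 i.2.1 i.2.2)
  have e : ∑ i ∈ range (2 * b + 1) ×ˢ (range (T + 1) ×ˢ range (T + 1)),
      (if μ i.1 i.2.1 i.2.2 = 0 then γ i.1 i.2.1 i.2.2 * l ^ i.1 else 0) = P.eval l := by
    rw [Finset.sum_product, Polynomial.eval_finsetSum]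
    refine Finset.sum_congr rfl fun r _ => ?_
    rw [Polynomial.eval_mul, Polynomial.eval_C, Polynomial.eval_pow, Polynomial.eval_X, Finset.sum_product,
      Finset.sum_mul]
    refine Finset.sum_congr rfl fun i _ => ?_
    rw [Finset.sum_mul]
    refine Finset.sum_congr rfl fun j _ => ?_
    split_ifs
    · rfl
    · rw [zero_mul]
  rw [e] at key
  refine hasZ_of_eq key fun t => ?_
  have ht0 := (t 0).ne_zero
  have ht1 := (t 1).ne_zero
  obtain ⟨A, hA⟩ := IsAlgClosed.exists_pow_nat_eq ((t 0 : k) * t 1) two_pos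
  have hA0 : A ≠ 0 := by
    rintro rfl
    rw [zero_pow two_ne_zero] at hA
    exact mul_ne_zero ht0 ht1 hA.symm
  set B := (t 0 : k) / A with hB
  have hB0 : B ≠ 0 := div_ne_zero ht0 hA0
  have hAB : (t 0 : k) = A * B := by rw [hB]; field_simp
  have hAB' : (t 1 : k) = A / B := by
    rw [hB]
    field_simp
    rw [hA]
    ring
  rw [Fin.prod_univ_two, mn_p0 l t hA0 hB0 hAB hAB', mn_p1 l t hA0 hB0 hAB hAB', ← ha, ← hb]
  have e1 : ((A + A⁻¹) * (B + B⁻¹)) ^ a * (-((A + A⁻¹) - l * (B + B⁻¹)) ^ 2) ^ b =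
      ∑ r ∈ range (2 * b + 1), (-1) ^ b * ((2 * b).choose r : k) * ((-1) ^ r * l ^ r) *
        ((A + A⁻¹) ^ (a + 2 * b - r) * (B + B⁻¹) ^ (a + r)) := by
    rw [neg_pow, ← pow_mul, mul_pow, sub_eq_add_neg, add_pow (A + A⁻¹) (-(l * (B + B⁻¹))) (2 * b), Finset.mul_sum,
      Finset.mul_sum,
      ← Finset.sum_range_reflect]
    refine Finset.sum_congr rfl fun r hr => ?_
    have hr' : r ≤ 2 * b := by have := Finset.mem_range.1 hr; omega
    have e2 : 2 * b + 1 - 1 - r = 2 * b - r := by omega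
    have e3 : 2 * b - (2 * b - r) = r := by omega
    have e4 : a + 2 * b - r = a + (2 * b - r) := by omega
    rw [e2, e3, Nat.choose_symm hr', neg_pow (l * (B + B⁻¹)), mul_pow l, e4, pow_add, pow_add]
    ring
  rw [e1, Finset.sum_product]
  refine Finset.sum_congr rfl fun r hr => ?_
  have hr' : r ≤ 2 * b := by have := Finset.mem_range.1 hr; omega
  rw [add_inv_pow hA0 (T := T) (show a + 2 * b - r ≤ T by omega), add_inv_pow hB0 (T := T) (show a + r ≤ T by omega),
    Finset.sum_mul_sum, Finset.mul_sum, Finset.sum_product]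
  refine Finset.sum_congr rfl fun i _ => ?_
  rw [Finset.mul_sum]
  refine Finset.sum_congr rfl fun j _ => ?_
  show _ = (-1) ^ b * ((2 * b).choose r : k) * ((-1) ^ r * (((a + 2 * b - r).choose i : k) * ((a + r).choose j : k))) *
    l ^ r * chi ![(i : ℤ) + j - a - b, (i : ℤ) - j + r - b] t
  rw [chi_two, hAB, hAB', zpow_AB hA0 hB0]
  have e5 : (i : ℤ) + j - a - b + ((i : ℤ) - j + r - b) = 2 * (i : ℤ) - ((a + 2 * b - r : ℕ) : ℤ) := by (clear * - hr'; omega)
  have e6 : (i : ℤ) + j - a - b - ((i : ℤ) - j + r - b) = 2 * (j : ℤ) - ((a + r : ℕ) : ℤ) := by omega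
  rw [e5, e6]
  ring

/-! ### The statements -/

theorem Zm_two_gen [IsAlgClosed k] {p : ℕ} [CharP k p] (hp : p.Prime) (hp2 : p ≠ 2) (n : Fin 2 → ℕ) (h0 : n 0 < p)
    (h1 : 2 * n 1 < p) : Zm 2 k n := by
  by_cases hb : n 1 = 0
  · exact Zm_special hp hp2 n h0 h1 (Or.inl (by omega))
  · by_cases h : n 0 + n 1 < p
    · exact Zm_prod hp hp2 n h h1 (by omega)
    · exact Zm_special hp hp2 n h0 h1 (Or.inr (by omega))

theorem Zm_gen [IsAlgClosed k] {p : ℕ} [CharP k p] (hp : p.Prime) (hp2 : p ≠ 2) :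
    ∀ (m : ℕ) (n : Fin m → ℕ), (∀ j, aa n j < p) → Zm m k n := by
  have h2 : (2 : k) ≠ 0 := by
    have : ((2 : ℕ) : k) ≠ 0 := cast_ne' (p := p) (fun h => hp2 ((Nat.prime_dvd_prime_iff_eq hp Nat.prime_two).1 h))
    exact_mod_cast this
  intro m
  induction m using Nat.strong_induction_on with
  | _ m ih =>
    match m, ih with
    | 0, _ => exact fun n _ => Zm_zero n
    | 1, _ => exact fun n h => Zm_one_gen hp n (h 0)
    | 2, _ => exact fun n h => Zm_two_gen hp hp2 n (h 0) (h 1)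
    | r + 3, ih =>
      intro n h
      apply Zm_step h2 n
      apply ih (r + 1) (by omega)
      intro j
      have h1 := h j.succ.succ
      unfold aa at *
      simp only [Fin.val_succ] at *
      split_ifs at * <;> omega

/-- **(D), all odd `p`**: the zero weight occurs in every restricted module of type `B_m`. -/
theorem stZero [IsAlgClosed k] {p m : ℕ} [CharP k p] (hp : p.Prime) (hp2 : p ≠ 2)
    (hO : ∀ g ∈ O (quadOdd m k), ∃ g' ∈ E (quadOdd m k), ∃ ε : k, ε ≠ 0 ∧ ∀ v, g' v = ε • g v) : StZero p m k := by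
  intro n hn
  have h2 : (2 : k) ≠ 0 := by
    have : ((2 : ℕ) : k) ≠ 0 := cast_ne' (p := p) (fun h => hp2 ((Nat.prime_dvd_prime_iff_eq hp Nat.prime_two).1 h))
    exact_mod_cast this
  exact stZero_of_Zm h2 hO n (Zm_gen hp hp2 m n hn)

end Cfsg.Agent.H231.UniZero

private theorem dce_ae16b1b29f54 : _root_.True := by
  try have : _root_.True := by simp only [_root_.Cfsg.Agent.H231.UniZero.sU'.eq_1]
  try have : _root_.True := by simp only [_root_.Cfsg.Agent.H231.UniZero.pU'.eq_1]
  try have : _root_.True := by simp only [_root_.Cfsg.Agent.H231.UniZero.pV'.eq_1]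
  try have : _root_.True := by simp only [_root_.Cfsg.Agent.H231.UniZero.sV.eq_1]
  try have : _root_.True := by simp only [_root_.Cfsg.Agent.H231.UniZero.sV'.eq_1]
  try have : _root_.True := by simp only [_root_.Cfsg.Agent.H231.UniZero.pU.eq_1]
  try have : _root_.True := by simp only [_root_.Cfsg.Agent.H231.UniZero.pV.eq_1]
  try have : _root_.True := by simp only [_root_.Cfsg.Agent.H231.UniZero.sU.eq_1]
  exact _root_.True.intro
end

-- part: H29/TPPsu
section
prune_inst 0xe53000207f62020000000090132000103c0004200000000088a00d02090800208dc2a0400e0004061a2800811001000000000080000000000000000000050120800010000100000c060019800000000000000000000000000000000000000004000000000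
set_option linter.all false
open scoped Cfsg.Agent.FastGrp

-- part: H29/TPNum
section
/-!
# Block TP (S3536), the row `PSU_d(u)`: arithmetic (helper29)
-/

set_option autoImplicit false

namespace Cfsg.Agent.H29.TPNum

open Cfsg.Agent.H202.TP

/-- `p ^ i = 2 ^ t + 1` forces `i = 1` or `p ^ i = 9` -/
theorem fermat_pow {p i t : ℕ} (hp : p.Prime) (hp2 : p ≠ 2) (hi : i ≠ 0) (ht : t ≠ 0) (h : p ^ i = 2 ^ t + 1) :
    i = 1 ∨ p ^ i = 9 := by
  have hpo : Odd p := hp.odd_of_ne_two hp2
  have hp3 : 3 ≤ p := by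
    have := hp.two_le
    omega
  rcases Nat.even_or_odd i with he | ho
  · right
    obtain ⟨j, rfl⟩ := he
    have hj : j ≠ 0 := by omega
    obtain ⟨P, hP⟩ : ∃ P, P = p ^ j := ⟨_, rfl⟩
    have hPo : Odd P := hP ▸ hpo.pow
    have hP3 : 3 ≤ P := by
      rw [hP]
      exact hp3.trans (Nat.le_self_pow hj p)
    have e : p ^ (j + j) = P * P := by rw [hP, pow_add]
    rw [e] at h ⊢
    have e2 : 2 ^ t = (P - 1) * (P + 1) := by
      obtain ⟨c, rfl⟩ : ∃ c, P = c + 1 := ⟨P - 1, by omega⟩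
      rw [Nat.add_sub_cancel]
      have : (c + 1) * (c + 1) = c * (c + 1 + 1) + 1 := by ring
      omega
    obtain ⟨a, -, ha⟩ := (Nat.dvd_prime_pow Nat.prime_two).1 (Dvd.intro _ e2.symm)
    obtain ⟨b, -, hb⟩ := (Nat.dvd_prime_pow Nat.prime_two).1 (Dvd.intro_left _ e2.symm)
    -- `2 ^ b = 2 ^ a + 2`
    have h1 : a = 1 := by
      rcases Nat.lt_or_ge a 2 with h2 | h2
      · rcases Nat.eq_zero_or_pos a with h3 | h3
        · subst h3
          rw [pow_zero] at ha
          omega
        · omega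
      · exfalso
        obtain ⟨a', rfl⟩ : ∃ a', a = a' + 2 := ⟨a - 2, by omega⟩
        have h3 : 2 ^ (a' + 2) = 4 * 2 ^ a' := by rw [pow_add]; ring
        have h4 : 2 ≤ b := by
          by_contra h4
          have : 2 ^ b ≤ 2 ^ 1 := Nat.pow_le_pow_right (by norm_num) (by omega)
          omega
        obtain ⟨b', rfl⟩ : ∃ b', b = b' + 2 := ⟨b - 2, by omega⟩
        have h5 : 2 ^ (b' + 2) = 4 * 2 ^ b' := by rw [pow_add]; ring
        omega
    subst h1
    have : P = 3 := by omega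
    rw [this]
  · left
    by_contra hi1
    have h1 : (∑ j ∈ Finset.range i, p ^ j) * (p - 1) = p ^ i - 1 := by
      have := Nat.geomSum_eq (m := p) (by omega) i
      rw [this]
      exact Nat.div_mul_cancel (by simpa only [_root_.one_pow] using Nat.sub_dvd_pow_sub_pow p 1 i)
    have h2 : (∑ j ∈ Finset.range i, p ^ j) ∣ 2 ^ t := ⟨p - 1, by rw [h1, h]; rfl⟩
    have h3 : Odd (∑ j ∈ Finset.range i, p ^ j) := by
      rw [Finset.odd_sum_iff_odd_card_odd]
      have : (Finset.range i).filter (fun j => Odd (p ^ j)) = Finset.range i :=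
        Finset.filter_true_of_mem fun j _ => hpo.pow
      rw [this, Finset.card_range]
      exact ho
    have h4 : (∑ j ∈ Finset.range i, p ^ j) = 1 := by
      obtain ⟨a, -, ha⟩ := (Nat.dvd_prime_pow Nat.prime_two).1 h2
      rcases Nat.eq_zero_or_pos a with h5 | h5
      · rw [ha, h5, pow_zero]
      · exfalso
        rw [ha] at h3
        exact (Nat.not_even_iff_odd.2 h3) (even_iff_two_dvd.2 (dvd_pow_self 2 h5.ne'))
    rw [h4, one_mul] at h1
    have h5 : p ^ 2 ≤ p ^ i := Nat.pow_le_pow_right (by omega) (by omega)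
    have h6 : 3 * p ≤ p ^ 2 := by nlinarith only [hp3]
    omega

section

variable {p q k u : ℕ} {T : Type*} [Group T]

theorem pow8_dvd (h : TK p q k T) : p ^ 8 - 1 ∣ 2 * (mn q k - 1) := by
  rw [two_mn_sub h.hk2 h.odd]
  obtain ⟨a, -, ha⟩ := h.pow
  obtain ⟨j, rfl⟩ : ∃ j, k = j + 3 := ⟨k - 3, by have := h.hk; omega⟩
  have e : q ^ 2 ^ (j + 3) = (p ^ 8) ^ (a * 2 ^ j) := by
    rw [ha, ← pow_mul, ← pow_mul, pow_add]
    congr 1
    ring
  rw [e]
  simpa only [_root_.one_pow] using Nat.sub_dvd_pow_sub_pow (p ^ 8) 1 (a * 2 ^ j)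

/-- **the common lemma** -/
theorem no_sub (h : TK p q k T) (hu : 2 ≤ u) (hpp : ∃ l t, l.Prime ∧ t ≠ 0 ∧ u = l ^ t) (x : T)
    (hx : (mn q k - 1) * (u + 1) = u * orderOf x) (hodd : Even u → Odd (orderOf x)) : False := by
  have hm := h.mn_ge
  rcases Nat.even_or_odd u with he | ho
  · have hN := hodd he
    obtain ⟨l, t, hl, ht, hlt⟩ := hpp
    have hl2 : l = 2 := by
      have h1 : 2 ∣ l ^ t := hlt ▸ even_iff_two_dvd.1 he
      exact ((Nat.prime_dvd_prime_iff_eq Nat.prime_two hl).1 (Nat.prime_two.dvd_of_dvd_pow h1)).symm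
    subst hl2
    obtain ⟨j, hj⟩ := h.tor_all x (fun s hs hs2 hsd => by
      have h1 : s ∣ u * orderOf x := hx ▸ hsd.mul_right _
      rcases hs.dvd_mul.1 h1 with h2 | h2
      · rw [hlt] at h2
        exact absurd ((Nat.prime_dvd_prime_iff_eq hs Nat.prime_two).1 (hs.dvd_of_dvd_pow h2)) hs2
      · exact h2)
    have h1 : (mn q k - 1) * (u + 1) ∣ (mn q k - 1) * (p ^ j * u) := by
      rw [hx]
      calc u * orderOf x ∣ u * (p ^ j * (mn q k - 1)) := Nat.mul_dvd_mul_left _ hj
        _ = (mn q k - 1) * (p ^ j * u) := by ring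
    have h2 : u + 1 ∣ p ^ j * u := Nat.dvd_of_mul_dvd_mul_left (by omega) h1
    have h3 : u + 1 ∣ p ^ j := Nat.Coprime.dvd_of_dvd_mul_right (by simp) h2
    obtain ⟨i, -, hi⟩ := (Nat.dvd_prime_pow h.prime).1 h3
    have hi0 : i ≠ 0 := by
      rintro rfl
      rw [pow_zero] at hi
      omega
    have h4 : p ^ i = 2 ^ t + 1 := by rw [← hi, hlt]
    have h5 := pow8_dvd h
    have h6 : 4 * u ∣ p ^ 8 - 1 := by
      rcases fermat_pow h.prime h.ne_two hi0 ht h4 with h7 | h7
      · subst h7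
        rw [pow_one] at hi
        obtain ⟨c, hc⟩ := he
        obtain ⟨a, ha⟩ : ∃ a, a = c * 2 := ⟨_, rfl⟩
        have hp : p = u + 1 := hi.symm
        have e : p ^ 8 - 1 = u * (u + 2) * (p ^ 2 + 1) * (p ^ 4 + 1) := by
          rw [hp]
          have : (u + 1) ^ 8 = u * (u + 2) * ((u + 1) ^ 2 + 1) * ((u + 1) ^ 4 + 1) + 1 := by ring
          omega
        rw [e]
        have e2 : u + 2 = 2 * (c + 1) := by omega
        have e3 : p ^ 2 + 1 = 2 * (2 * c ^ 2 + 2 * c + 1) := by
          rw [hp, hc]; ring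
        rw [e2, e3]
        exact ⟨(c + 1) * (2 * c ^ 2 + 2 * c + 1) * (p ^ 4 + 1), by ring⟩
      · have h8 : p = 3 := by
          have h9 : p ∣ 3 ^ 2 := by
            rw [show (3 : ℕ) ^ 2 = 9 by norm_num, ← h7]
            exact dvd_pow_self p hi0
          exact (Nat.prime_dvd_prime_iff_eq h.prime Nat.prime_three).1 (h.prime.dvd_of_dvd_pow h9)
        have h9 : u = 8 := by omega
        subst h8
        rw [h9]
        norm_num
    have h7 : 2 * u ∣ mn q k - 1 := by
      apply Nat.dvd_of_mul_dvd_mul_left (k := 2) (by norm_num)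
      rw [← mul_assoc]
      exact h6.trans h5
    have h8 : u * 2 ∣ u * orderOf x := by
      rw [← hx, mul_comm u 2]
      exact h7.mul_right _
    have h9 : 2 ∣ orderOf x := Nat.dvd_of_mul_dvd_mul_left (by omega) h8
    exact (Nat.not_even_iff_odd.2 hN) (even_iff_two_dvd.2 h9)
  · have hx0 : orderOf x ≠ 0 := by
      intro h0
      rw [h0, mul_zero] at hx
      have : 0 < (mn q k - 1) * (u + 1) := Nat.mul_pos (by omega) (by omega)
      omega
    obtain ⟨j, N, hN, hjN⟩ := Nat.exists_eq_two_pow_mul_odd hx0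
    have h1 : 2 ^ j ∣ mn q k - 1 := h.two j x (by rw [hjN]; exact dvd_mul_right _ _)
    have h2 : 2 ^ j * 2 ∣ 2 ^ j * (u * N) := by
      have h3 : 2 ^ j * 2 ∣ (mn q k - 1) * (u + 1) := mul_dvd_mul h1 (even_iff_two_dvd.1 ho.add_one)
      rw [hx, hjN] at h3
      calc 2 ^ j * 2 ∣ u * (2 ^ j * N) := h3
        _ = 2 ^ j * (u * N) := by ring
    have h3 : 2 ∣ u * N := Nat.dvd_of_mul_dvd_mul_left (pow_pos (by norm_num) j) h2
    exact (Nat.not_even_iff_odd.2 (ho.mul hN)) (even_iff_two_dvd.2 h3)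

end

/-- doubling -/
theorem geom_cong {y A : ℤ} (h : 2 * A ∣ y - 1) (N : ℕ) (c : ℕ) :
    A * 2 ^ c ∣ (∑ i ∈ Finset.range (2 ^ c * N), y ^ i) - ((2 ^ c * N : ℕ) : ℤ) := by
  have hy : ∀ i : ℕ, y - 1 ∣ y ^ i - 1 := fun i => by simpa only [_root_.one_pow] using sub_dvd_pow_sub_pow y 1 i
  induction c with
  | zero =>
    rw [pow_zero, pow_zero, one_mul, mul_one]
    have e : (∑ i ∈ Finset.range N, y ^ i) - (N : ℤ) = ∑ i ∈ Finset.range N, (y ^ i - 1) := by
      rw [Finset.sum_sub_distrib]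
      simp
    rw [e]
    exact Finset.dvd_sum fun i _ => ((Dvd.intro_left 2 rfl).trans h).trans (hy i)
  | succ c ih =>
    obtain ⟨M, hM⟩ : ∃ M, M = 2 ^ c * N := ⟨_, rfl⟩
    rw [← hM] at ih
    have e0 : 2 ^ (c + 1) * N = M + M := by rw [hM, pow_succ]; ring
    obtain ⟨S, hS⟩ : ∃ S, S = ∑ i ∈ Finset.range M, y ^ i := ⟨_, rfl⟩
    have e1 : (∑ i ∈ Finset.range (M + M), y ^ i) = S + y ^ M * S := by
      rw [Finset.sum_range_add, hS, Finset.mul_sum]
      congr 1
      exact Finset.sum_congr rfl fun i _ => by rw [pow_add]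
    have e2 : y ^ M - 1 = (y - 1) * S := by
      rw [hS, mul_comm]
      exact (geom_sum_mul y M).symm
    rw [e0, e1]
    rw [← hS] at ih
    have e3 : S + y ^ M * S - ((M + M : ℕ) : ℤ) = 2 * (S - M) + (y - 1) * S * S := by
      rw [← e2]
      push_cast
      ring
    rw [e3]
    apply dvd_add
    · rw [pow_succ, ← mul_assoc, mul_comm 2]
      exact mul_dvd_mul ih dvd_rfl
    · have h2 : (2 : ℤ) ^ c ∣ S := by
        have h3 : (2 : ℤ) ^ c ∣ S - M := (Dvd.intro_left A rfl).trans ih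
        have h4 : (2 : ℤ) ^ c ∣ (M : ℤ) := by
          rw [hM]
          push_cast
          exact dvd_mul_right _ _
        have := dvd_add h3 h4
        rwa [sub_add_cancel] at this
      calc A * 2 ^ (c + 1) = (2 * A) * 2 ^ c := by rw [pow_succ]; ring
        _ ∣ (y - 1) * S := mul_dvd_mul h h2
        _ ∣ (y - 1) * S * S := dvd_mul_right _ _

/-- the case `g = d`, `u` odd -/
theorem no_odd {m d u N : ℕ} (hd : Odd d) (hd3 : 3 ≤ d) (hu : Odd u) (hu3 : 3 ≤ u) (hm : 1 ≤ m)
    (h1 : m * d * (u + 1) = u ^ d + 1) (h2 : N * d = u ^ (d - 1) - 1) (h3 : ∀ j, 2 ^ j ∣ N → 2 ^ j ∣ m - 1) :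
    False := by
  obtain ⟨N₀, rfl⟩ := hd
  have hN0 : N₀ ≠ 0 := by omega
  obtain ⟨a, s, hs, has⟩ := Nat.exists_eq_two_pow_mul_odd (n := u + 1) (by omega)
  obtain ⟨b, r, hr, hbr⟩ := Nat.exists_eq_two_pow_mul_odd hN0
  obtain ⟨y, hy⟩ : ∃ y : ℤ, y = (u : ℤ) ^ 2 := ⟨_, rfl⟩
  obtain ⟨S, hS⟩ : ∃ S, S = ∑ i ∈ Finset.range N₀, y ^ i := ⟨_, rfl⟩
  obtain ⟨c, hc⟩ := hu
  have hasz : (u : ℤ) + 1 = 2 ^ a * s := by exact_mod_cast has
  have hy1 : (2 : ℤ) * 2 ^ a ∣ y - 1 := by
    have e : y - 1 = (u - 1) * (u + 1) := by rw [hy]; ring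
    rw [e, hasz, hc]
    push_cast
    exact ⟨c * s, by ring⟩
  have hg := geom_cong hy1 r b
  rw [← hbr, ← hS] at hg
  have hyS : y ^ N₀ - 1 = (y - 1) * S := by
    rw [hS, mul_comm]
    exact (geom_sum_mul y N₀).symm
  have hyN : y ^ N₀ = (u : ℤ) ^ (2 * N₀) := by rw [hy, ← pow_mul]
  have h1z : (m : ℤ) * (2 * N₀ + 1) * (u + 1) = (u : ℤ) ^ (2 * N₀ + 1) + 1 := by exact_mod_cast h1
  have hpos : 1 ≤ u ^ (2 * N₀) := Nat.one_le_pow _ _ (by omega)
  have h2z : (N : ℤ) * (2 * N₀ + 1) = (u : ℤ) ^ (2 * N₀) - 1 := by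
    rw [Nat.add_sub_cancel] at h2
    have : ((N * (2 * N₀ + 1) : ℕ) : ℤ) = ((u ^ (2 * N₀) - 1 : ℕ) : ℤ) := by rw [h2]
    push_cast [hpos] at this
    exact this
  have hbz : (N₀ : ℤ) = 2 ^ b * r := by exact_mod_cast hbr
  have hSb : (2 : ℤ) ^ b ∣ S := by
    have h4 : (2 : ℤ) ^ b ∣ S - N₀ := (Dvd.intro_left (2 ^ a) rfl).trans hg
    have h5 : (2 : ℤ) ^ b ∣ (N₀ : ℤ) := by rw [hbz]; exact dvd_mul_right _ _
    have := dvd_add h4 h5
    rwa [sub_add_cancel] at this
  -- `2 A H` divides `N`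
  have h4 : 2 ^ (a + b + 1) ∣ N := by
    have h5 : (2 : ℤ) ^ (a + b + 1) ∣ (N : ℤ) * (2 * N₀ + 1) := by
      rw [h2z, ← hyN, hyS]
      calc (2 : ℤ) ^ (a + b + 1) = (2 * 2 ^ a) * 2 ^ b := by ring
        _ ∣ (y - 1) * S := mul_dvd_mul hy1 hSb
    have h6 : 2 ^ (a + b + 1) ∣ N * (2 * N₀ + 1) := by exact_mod_cast h5
    exact (Nat.Coprime.pow_left _ (Nat.coprime_two_left.2 ⟨N₀, rfl⟩)).dvd_of_dvd_mul_right h6
  have h5 := h3 _ h4
  have h5z : (2 : ℤ) ^ (a + b + 1) ∣ (m : ℤ) - 1 := by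
    have : ((2 ^ (a + b + 1) : ℕ) : ℤ) ∣ ((m - 1 : ℕ) : ℤ) := Int.natCast_dvd_natCast.2 h5
    push_cast [hm] at this
    exact this
  have hu1 : (u : ℤ) + 1 ≠ 0 := by positivity
  have e1 : ((m : ℤ) - 1) * (2 * N₀ + 1) = u * (u - 1) * (S - N₀) + (u - 2) * (u + 1) * N₀ := by
    apply mul_right_cancel₀ hu1
    have e2 : (u : ℤ) ^ (2 * N₀ + 1) = u * y ^ N₀ := by rw [hyN]; ring
    linear_combination h1z + e2 + (u : ℤ) * hyS + u * S * (hy)
  have h6 : (2 : ℤ) ^ (a + b + 1) ∣ u * (u - 1) * (S - N₀) := by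
    have h7 : (2 : ℤ) ∣ u * (u - 1) := by
      rw [hc]
      push_cast
      exact ⟨(2 * c + 1) * c, by ring⟩
    calc (2 : ℤ) ^ (a + b + 1) = 2 * (2 ^ a * 2 ^ b) := by ring
      _ ∣ (u * (u - 1)) * (S - N₀) := mul_dvd_mul h7 hg
  have h7 : (2 : ℤ) ^ (a + b + 1) ∣ (u - 2) * (u + 1) * N₀ := by
    have h8 := dvd_sub (h5z.mul_right (2 * N₀ + 1)) h6
    rw [e1, add_sub_cancel_left] at h8
    exact h8
  rw [hasz, hbz] at h7
  have e3 : ((u : ℤ) - 2) * (2 ^ a * s) * (2 ^ b * r) = 2 ^ (a + b) * ((u - 2) * s * r) := by ring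
  rw [e3, pow_succ] at h7
  have h8 := Int.dvd_of_mul_dvd_mul_left (by positivity) h7
  obtain ⟨s', rfl⟩ := hs
  obtain ⟨r', rfl⟩ := hr
  rw [hc] at h8
  push_cast at h8
  obtain ⟨w, hw⟩ := h8
  have : (2 * (c : ℤ) + 1 - 2) * (2 * s' + 1) * (2 * r' + 1) =
    2 * ((2 * c - 1) * (2 * s' * r' + s' + r') + c - 1) + 1 := by ring
  omega

/-- `2 ^ f + 1` prime, `f ≥ 3` -/
theorem four_dvd {f : ℕ} (hf : 3 ≤ f) (hp : (2 ^ f + 1).Prime) : 4 ∣ f := by
  have h8 : 8 ≤ 2 ^ f := by
    calc 8 = 2 ^ 3 := by norm_num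
      _ ≤ 2 ^ f := Nat.pow_le_pow_right (by norm_num) hf
  rcases Nat.even_or_odd f with ⟨e, he⟩ | ho
  · rcases Nat.even_or_odd e with ⟨c, hc⟩ | ho
    · exact ⟨c, by omega⟩
    · exfalso
      have h5 : 5 ∣ 2 ^ f + 1 := by
        have := Odd.nat_add_dvd_pow_add_pow 4 1 ho
        rw [he, ← two_mul, pow_mul]
        simpa only [_root_.Nat.reducePow, _root_.Nat.reduceAdd, _root_.one_pow] using this
      have := (Nat.prime_dvd_prime_iff_eq Nat.prime_five hp).1 h5
      omega
  · exfalso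
    have h3 : 3 ∣ 2 ^ f + 1 := by
      have := Odd.nat_add_dvd_pow_add_pow 2 1 ho
      simpa only [_root_.Nat.reduceAdd, _root_.one_pow] using this
    have := (Nat.prime_dvd_prime_iff_eq Nat.prime_three hp).1 h3
    omega

theorem dvd_exp {f : ℕ} (hf : f ≠ 0) : ∀ t : ℕ, 2 ^ f + 1 ∣ 2 ^ t + 1 → f ∣ t := by
  intro t
  induction t using Nat.strong_induction_on with
  | _ t ih =>
    intro h
    have h1 : 2 ^ f + 1 ≤ 2 ^ t + 1 := Nat.le_of_dvd (by positivity) h
    have h2 : f ≤ t := (Nat.pow_le_pow_iff_right (by norm_num)).1 (Nat.le_of_succ_le_succ h1)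
    obtain ⟨s, rfl⟩ : ∃ s, t = f + s := ⟨t - f, by omega⟩
    have h3 : 2 ^ f + 1 ∣ 2 ^ s - 1 := by
      have e : 2 ^ s * (2 ^ f + 1) - (2 ^ (f + s) + 1) = 2 ^ s - 1 := by
        have : 2 ^ s * (2 ^ f + 1) = 2 ^ (f + s) + 2 ^ s := by ring
        omega
      rw [← e]
      exact Nat.dvd_sub (dvd_mul_left _ _) h
    have hs1 : 1 ≤ 2 ^ s := Nat.one_le_two_pow
    rcases Nat.lt_or_ge s f with h4 | h4
    · have h5 : 2 ^ s < 2 ^ f := Nat.pow_lt_pow_right (by norm_num) h4
      have h6 : 2 ^ s - 1 = 0 := by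
        by_contra h7
        have := Nat.le_of_dvd (by omega) h3
        omega
      have h7 : s = 0 := by
        by_contra h7
        have : 2 ^ 1 ≤ 2 ^ s := Nat.pow_le_pow_right (by norm_num) (by omega)
        omega
      rw [h7, add_zero]
    · obtain ⟨r, rfl⟩ : ∃ r, s = f + r := ⟨s - f, by omega⟩
      have h5 : 2 ^ f + 1 ∣ 2 ^ r + 1 := by
        have e : 2 ^ r * (2 ^ f + 1) - (2 ^ (f + r) - 1) = 2 ^ r + 1 := by
          have e1 : 2 ^ r * (2 ^ f + 1) = 2 ^ (f + r) + 2 ^ r := by ring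
          rw [e1]
          generalize 2 ^ (f + r) = X at hs1 ⊢
          generalize 2 ^ r = Y
          omega
        rw [← e]
        exact Nat.dvd_sub (dvd_mul_left _ _) h3
      have h6 := ih r (by omega) h5
      exact dvd_add dvd_rfl (dvd_add dvd_rfl h6)

/-- the case `g = d`, `u` even -/
theorem no_even {p q k d t : ℕ} {T : Type*} [Group T] (h : TK p q k T) (hd : d.Prime) (hd2 : d ≠ 2) (ht : t ≠ 0)
    (hdu : d ∣ 2 ^ t + 1) (h1 : mn q k * d * (2 ^ t + 1) = (2 ^ t) ^ d + 1)
    (h2 : ∀ f, 2 ^ f < d → 2 ^ f ∣ mn q k - 1) : False := by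
  have hm := h.mn_ge
  have hd3 : 3 ≤ d := by
    have := hd.two_le
    omega
  have hdo : Odd d := hd.odd_of_ne_two hd2
  obtain ⟨u, hu⟩ : ∃ u, u = 2 ^ t := ⟨_, rfl⟩
  rw [← hu] at hdu h1
  have hu2 : 2 ≤ u := by
    rw [hu]
    calc 2 = 2 ^ 1 := by norm_num
      _ ≤ 2 ^ t := Nat.pow_le_pow_right (by norm_num) (by omega)
  have hdle : d ≤ u + 1 := Nat.le_of_dvd (by omega) hdu
  have key : (mn q k - 1) * (d * (u + 1)) + d * u + (d - 1) = u ^ d := by
    obtain ⟨c, hc⟩ : ∃ c, mn q k = c + 1 := ⟨mn q k - 1, by omega⟩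
    rw [hc] at h1 ⊢
    rw [Nat.add_sub_cancel]
    have e : (c + 1) * d * (u + 1) = c * (d * (u + 1)) + d * u + d := by ring
    omega
  have hX : ∀ X : ℕ, X ∣ mn q k - 1 → X ∣ u → X ∣ d - 1 := by
    intro X hX1 hX2
    have h3 : X ∣ (mn q k - 1) * (d * (u + 1)) + d * u := dvd_add (hX1.mul_right _) (hX2.mul_left _)
    have h4 : X ∣ u ^ d := dvd_pow hX2 hd.ne_zero
    rw [← key] at h4
    exact (Nat.dvd_add_right h3).1 h4
  obtain ⟨f, hf⟩ : ∃ f, f = Nat.log 2 d := ⟨_, rfl⟩
  have hf1 : 2 ^ f ≤ d := hf ▸ Nat.pow_log_le_self 2 (by omega)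
  have hf2 : d < 2 ^ (f + 1) := hf ▸ Nat.lt_pow_succ_log_self (by norm_num) d
  have hf0 : f ≠ 0 := by
    rintro rfl
    norm_num at hf2
    omega
  have hflt : 2 ^ f < d := by
    refine lt_of_le_of_ne hf1 fun h3 => ?_
    rw [← h3] at hdo
    exact (Nat.not_even_iff_odd.2 hdo) (even_iff_two_dvd.2 (dvd_pow_self 2 hf0))
  have hfm := h2 f hflt
  have hdf : d = 2 ^ f + 1 := by
    rcases Nat.lt_or_ge u d with h3 | h3
    · have h4 : d = 2 ^ t + 1 := by omega
      rw [h4] at hflt hf2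
      have h5 : f ≤ t := (Nat.pow_le_pow_iff_right (by norm_num)).1 (Nat.le_of_lt_succ hflt)
      have h6 : t < f + 1 := (Nat.pow_lt_pow_iff_right (a := 2) (by norm_num)).1 (by omega)
      rw [h4, show f = t by omega]
    · have h5 : f ≤ t := by
        apply (Nat.pow_le_pow_iff_right (a := 2) (by norm_num)).1
        rw [← hu]
        omega
      obtain ⟨c, hc⟩ := hX _ hfm (by rw [hu]; exact pow_dvd_pow 2 h5)
      have h6 : c = 1 := by
        have h7 : c < 2 := by
          by_contra h8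
          have : 2 ^ f * 2 ≤ 2 ^ f * c := Nat.mul_le_mul_left _ (by omega)
          rw [pow_succ] at hf2
          omega
        have h8 : c ≠ 0 := by
          rintro rfl
          rw [mul_zero] at hc
          omega
        omega
      rw [h6, mul_one] at hc
      omega
  have hf3 : 3 ≤ f := by
    by_contra h3
    have h8m : 8 ∣ mn q k - 1 := by
      have := h.mn_mod
      omega
    have hd5 : d ≤ 5 := by
      have : 2 ^ f ≤ 2 ^ 2 := Nat.pow_le_pow_right (by norm_num) (by omega)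
      omega
    rcases Nat.lt_or_ge t 3 with h4 | h4
    · have h5 : t = 1 ∨ t = 2 := by omega
      rcases h5 with rfl | rfl
      · norm_num at hu
        subst hu
        have h6 : d = 3 := by omega
        rw [h6] at h1
        norm_num at h1
        omega
      · norm_num at hu
        subst hu
        have h6 : d = 5 := by
          obtain ⟨c, hc⟩ := hdu
          interval_cases d
          · omega
          · omega
          · rfl
        rw [h6] at h1
        norm_num at h1
        omega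
    · have h5 : 8 ∣ u := by
        rw [hu, show (8 : ℕ) = 2 ^ 3 by norm_num]
        exact pow_dvd_pow 2 h4
      have h6 := hX 8 h8m h5
      have := Nat.le_of_dvd (by omega) h6
      omega
  have hf4 : 4 ∣ f := four_dvd hf3 (hdf ▸ hd)
  have hft : f ∣ t := by
    apply dvd_exp hf0
    rw [← hdf, ← hu]
    exact hdu
  obtain ⟨a, ha⟩ := hf4
  obtain ⟨b, hb⟩ := (Dvd.intro a ha.symm : 4 ∣ f).trans hft
  have h2m := two_mn h.hk2 h.odd
  obtain ⟨Q, hQ⟩ : ∃ Q, Q = q ^ 2 ^ k := ⟨_, rfl⟩
  rw [← hQ] at h2m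
  have e : (Q + 1) * d * (u + 1) = 2 * (u ^ d + 1) := by
    rw [← h2m, ← h1]
    ring
  have hd16 : d = 16 ^ a + 1 := by
    rw [hdf, ha, pow_mul]
    norm_num
  have hu16 : u = 16 ^ b := by
    rw [hu, hb, pow_mul]
    norm_num
  have k3 : p = 3 := by
    have c1 : (16 : ℕ) ≡ 1 [MOD 3] := by decide
    have c2 : u ≡ 1 [MOD 3] := by
      rw [hu16]
      simpa using c1.pow b
    have c3 : d ≡ 1 + 1 [MOD 3] := by
      rw [hd16]
      simpa using (c1.pow a).add_right 1
    have c4 : (Q + 1) * d * (u + 1) ≡ (Q + 1) * (1 + 1) * (1 + 1) [MOD 3] :=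
      (c3.mul_left _).mul (c2.add_right 1)
    have c5 : 2 * (u ^ d + 1) ≡ 2 * (1 ^ d + 1) [MOD 3] := ((c2.pow d).add_right 1).mul_left 2
    rw [one_pow] at c5
    rw [e] at c4
    have c6 := c4.symm.trans c5
    have c7 : 3 ∣ Q := by
      unfold Nat.ModEq at c6
      (clear * - c6; omega)
    rw [hQ] at c7
    obtain ⟨a', -, ha'⟩ := h.pow
    have c8 := Nat.prime_three.dvd_of_dvd_pow c7
    rw [ha'] at c8
    exact ((Nat.prime_dvd_prime_iff_eq Nat.prime_three h.prime).1 (Nat.prime_three.dvd_of_dvd_pow c8)).symm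
  have k5 : p = 5 := by
    have c1 : (16 : ℕ) ≡ 1 [MOD 5] := by decide
    have c2 : u ≡ 1 [MOD 5] := by
      rw [hu16]
      simpa using c1.pow b
    have c3 : d ≡ 1 + 1 [MOD 5] := by
      rw [hd16]
      simpa using (c1.pow a).add_right 1
    have c4 : (Q + 1) * d * (u + 1) ≡ (Q + 1) * (1 + 1) * (1 + 1) [MOD 5] :=
      (c3.mul_left _).mul (c2.add_right 1)
    have c5 : 2 * (u ^ d + 1) ≡ 2 * (1 ^ d + 1) [MOD 5] := ((c2.pow d).add_right 1).mul_left 2
    rw [one_pow] at c5
    rw [e] at c4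
    have c6 := c4.symm.trans c5
    have c7 : 5 ∣ Q := by
      unfold Nat.ModEq at c6
      (clear * - c6; omega)
    rw [hQ] at c7
    obtain ⟨a', -, ha'⟩ := h.pow
    have c8 := Nat.prime_five.dvd_of_dvd_pow c7
    rw [ha'] at c8
    exact ((Nat.prime_dvd_prime_iff_eq Nat.prime_five h.prime).1 (Nat.prime_five.dvd_of_dvd_pow c8)).symm
  omega

end Cfsg.Agent.H29.TPNum
end

-- part: H29/TPPerm
section
/-!
# Permutation isometries in `PSU n F q`, `q` even (helper29)

* `exists_two_pow`: for `q` even and `2 ^ f < n` there is an element of order `2 ^ f`.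
-/

set_option autoImplicit false
set_option linter.unusedSectionVars false

namespace Cfsg.Agent.H29.TPPerm

open Cfsg Cfsg.Agent.LieClassical Cfsg.Agent.LieClassical.HermBasic Cfsg.Agent.H948.UBase Cfsg.Agent.H948.UProd
  Cfsg.Agent.H360.Iso

variable {F : Type*} [Field F] [Fintype F] {q : ℕ} {hF : Fintype.card F = q ^ 2}

/-- the standard form and the permutations -/
theorem exists_std (hF : Fintype.card F = q ^ 2) (m : ℕ) :
    ∃ B : (Fin m → F) →ₛₗ[cj hF] (Fin m → F) →ₗ[F] F, IsHerm hF B ∧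
      ∀ σ : Equiv.Perm (Fin m), Iso B (LinearMap.funLeft F F σ) := by
  refine ⟨LinearMap.mk₂'ₛₗ (cj hF) (RingHom.id F) (fun x y => ∑ i, x i ^ q * y i) ?_ ?_ ?_ ?_, ⟨?_, ?_⟩, ?_⟩
  · intro x y z
    rw [← Finset.sum_add_distrib]
    exact Finset.sum_congr rfl fun i _ => by rw [Pi.add_apply, add_pow_q hF, add_mul]
  · intro c x y
    rw [smul_eq_mul, Finset.mul_sum]
    exact Finset.sum_congr rfl fun i _ => by rw [Pi.smul_apply, smul_eq_mul, mul_pow, cj_apply, mul_assoc]
  · intro x y z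
    rw [← Finset.sum_add_distrib]
    exact Finset.sum_congr rfl fun i _ => by rw [Pi.add_apply, mul_add]
  · intro c x y
    rw [smul_eq_mul, Finset.mul_sum]
    exact Finset.sum_congr rfl fun i _ => by rw [Pi.smul_apply, smul_eq_mul, RingHom.id_apply]; ring
  · refine ⟨fun x y => ?_⟩
    show cj hF (∑ i, x i ^ q * y i) = ∑ i, y i ^ q * x i
    rw [map_sum]
    exact Finset.sum_congr rfl fun i _ => by rw [cj_apply, mul_pow, pow_q_pow_q hF, mul_comm]
  · intro x h
    funext i
    have h1 : ∑ j, x j ^ q * (Pi.single i 1 : Fin m → F) j = 0 := h (Pi.single i 1)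
    rw [Finset.sum_eq_single i] at h1
    · rw [Pi.single_eq_same, mul_one, pow_q_eq_zero hF] at h1
      exact h1
    · intro j _ hj
      rw [Pi.single_eq_of_ne hj, mul_zero]
    · intro h2
      exact absurd (Finset.mem_univ i) h2
  · intro σ x y
    show ∑ i, x (σ i) ^ q * y (σ i) = ∑ i, x i ^ q * y i
    exact Equiv.sum_comp σ fun i => x i ^ q * y i

theorem funLeft_pow {m : ℕ} (σ : Equiv.Perm (Fin m)) (k : ℕ) :
    (LinearMap.funLeft F F σ : Module.End F (Fin m → F)) ^ k = LinearMap.funLeft F F (σ ^ k : Equiv.Perm (Fin m)) := by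
  induction k with
  | zero =>
    rw [pow_zero, pow_zero]
    rfl
  | succ k ih =>
    rw [pow_succ, ih, pow_succ']
    rfl

theorem funLeft_eq_one {m : ℕ} {σ : Equiv.Perm (Fin m)}
    (h : (LinearMap.funLeft F F σ : Module.End F (Fin m → F)) = 1) : σ = 1 := by
  ext i
  have h1 := congrFun (LinearMap.congr_fun h (Pi.single i (1 : F))) i
  have h2 : (Pi.single i (1 : F) : Fin m → F) (σ i) = (Pi.single i (1 : F) : Fin m → F) i := h1
  rw [Pi.single_eq_same] at h2
  by_contra h3
  have h4 : σ i ≠ i := fun h4 => h3 (by rw [h4]; rfl)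
  rw [Pi.single_eq_of_ne h4] at h2
  exact zero_ne_one h2

theorem eq_one_of_two_pow (h : (-1 : F) = 1) (f : ℕ) {x : F} (hx : x ^ 2 ^ f = 1) : x = 1 := by
  induction f with
  | zero => simpa using hx
  | succ f ih =>
    apply ih
    rw [pow_succ, pow_mul, pow_two] at hx
    rcases mul_self_eq_one_iff.1 hx with h1 | h1
    · exact h1
    · rw [h1, h]

/-- **the elements of order `2 ^ f`** -/
theorem exists_two_pow (hF : Fintype.card F = q ^ 2) (hq : Even q) {n f : ℕ} (hn : 3 ≤ n) (hf : 2 ^ f < n) :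
    ∃ x : PSU n F q, orderOf x = 2 ^ f := by
  rcases Nat.eq_zero_or_pos f with h0 | h0
  · exact ⟨1, by rw [h0, pow_zero, orderOf_one]⟩
  have hc2 : 2 ≤ 2 ^ f := by
    calc 2 = 2 ^ 1 := by norm_num
      _ ≤ 2 ^ f := Nat.pow_le_pow_right (by norm_num) h0
  obtain ⟨B, hB, hBs⟩ := exists_std hF (2 ^ f)
  obtain ⟨C, hC⟩ := exists_space hF (n - 2 ^ f)
  have hdim : Module.finrank F ((Fin (2 ^ f) → F) × (Fin (n - 2 ^ f) → F)) = n := by
    rw [Module.finrank_prod, Module.finrank_fintype_fun_eq_card, Module.finrank_fintype_fun_eq_card, Fintype.card_fin,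
      Fintype.card_fin]
    omega
  obtain ⟨σ, hσ⟩ : ∃ σ : Equiv.Perm (Fin (2 ^ f)), orderOf σ = 2 ^ f := by
    refine ⟨finRotate (2 ^ f), ?_⟩
    rw [(isCycle_finRotate_of_le hc2).orderOf, support_finRotate_of_le hc2, Finset.card_univ, Fintype.card_fin]
  have hpow1 : (LinearMap.funLeft F F σ : Module.End F (Fin (2 ^ f) → F)) ^ 2 ^ f = 1 := by
    rw [funLeft_pow, orderOf_dvd_iff_pow_eq_one.1 hσ.dvd]
    rfl
  have hdet : LinearMap.det (LinearMap.funLeft F F σ : Module.End F (Fin (2 ^ f) → F)) = 1 := by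
    apply eq_one_of_two_pow (neg_one_eq_of_even hF hq) f
    rw [← map_pow, hpow1, map_one]
  have hT : Iso (prodForm B C)
      ((LinearMap.funLeft F F σ : Module.End F (Fin (2 ^ f) → F)).prodMap
        (1 : Module.End F (Fin (n - 2 ^ f) → F))) := iso_prod (hBs σ) Iso.one
  have hd : LinearMap.det ((LinearMap.funLeft F F σ : Module.End F (Fin (2 ^ f) → F)).prodMap
        (1 : Module.End F (Fin (n - 2 ^ f) → F))) = 1 := by
    rw [det_prod, hdet, map_one, one_mul]
  obtain ⟨x, hx⟩ := exists_of_iso (isHerm_prod hB hC) hdim hn hT hd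
  refine ⟨x, ?_⟩
  rw [← hσ]
  refine orderOf_eq_orderOf_iff.2 fun j => ?_
  rw [hx, prodMap_pow, one_pow, funLeft_pow]
  constructor
  · intro h
    have h3 : 0 < n - 2 ^ f := by omega
    have h2 := IsScal.eq_one h (x := ((0 : Fin (2 ^ f) → F), fun _ => (1 : F))) (by
      intro h3'
      have h4 := congrFun (congrArg Prod.snd h3') ⟨0, h3⟩
      exact one_ne_zero h4) (by
      simp only [LinearMap.prodMap_apply, map_zero, Module.End.one_apply])
    apply funLeft_eq_one (F := F)
    refine LinearMap.ext fun v => ?_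
    exact congrArg (fun w => w.1) (LinearMap.congr_fun h2 ((v, 0)))
  · intro h
    rw [h]
    refine ⟨1, fun x => ?_⟩
    rw [one_smul]
    rfl

end Cfsg.Agent.H29.TPPerm
end

-- part: H29/TPPsu
section
/-!
# Block TP (S3536), the row `PSU_d(u)`, `p` does not divide `u` (helper29, task 3257)
-/

set_option autoImplicit false
set_option linter.unusedVariables false

namespace Cfsg.Agent.H29.TPPsu

open Cfsg Cfsg.Agent.H202.TP Cfsg.Agent.H360.Iso Cfsg.Agent.H29.TPNum
open Cfsg.Agent.H948.UBase Cfsg.Agent.H948.UProd Cfsg.Agent.H948.UMain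

/-- `mn q k` is an isolated number -/
theorem isoN_of_TK {p q k : ℕ} {S : Type*} [Group S] (h : TK p q k S) : IsoN S (mn q k) where
  elt := h.mem
  iso := fun x r hr hrn hrx => h.iso r x hr hrn hrx
  not_two_dvd := fun h2 => h.ne_two_of_dvd h2 rfl
  not_three_dvd := fun h3 => by
    have := h.mod_eight Nat.prime_three h3
    omega
  big := by
    have := h.mn_ge
    omega

section

variable {F : Type*} [Field F] [Fintype F] {p q k d u : ℕ}

/-- the numbers `u ^ e - (-1) ^ e`, `1 ≤ e ≤ d - 2`, are prime to `mn q k` -/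
theorem coprime_ph (hF : Fintype.card F = u ^ 2) (h : TK p q k (PSU d F u)) (hd : 4 ≤ d) {i : ℕ} (hi : i < d - 2) :
    Nat.Coprime (ph u i) (mn q k) := by
  have hfin : Finite (PSU d F u) := inferInstance
  apply Nat.Coprime.symm
  refine Nat.coprime_of_dvd fun r hr hrm hri => ?_
  exact (isoN_of_TK h).not_adj hrm (adj_two_of_lt hF hd hr (h.ne_two_of_dvd hrm) hi hri)

/-- a divisor `u ^ e - (-1) ^ e` -/
theorem le_of_dvd {m z g : ℕ} (hz : Nat.Coprime z m) (hg : 0 < g) (h : z ∣ m * g) : z ≤ g :=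
  Nat.le_of_dvd hg (hz.dvd_of_dvd_mul_left h)

theorem ph_ge {u i : ℕ} (hu : 1 ≤ u) : u ^ (i + 1) ≤ ph u i + 1 := by
  have : 1 ≤ u ^ (i + 1) := Nat.one_le_pow _ _ hu
  unfold ph
  split_ifs <;> omega

/-- case B -/
theorem case_B (hF : Fintype.card F = u ^ 2) (h : TK p q k (PSU d F u)) (hd : 4 ≤ d) (hu : 2 ≤ u)
    (hpp : ∃ l t, l.Prime ∧ t ≠ 0 ∧ u = l ^ t) (h1 : mn q k * (u + 1) = ph u (d - 2)) : False := by
  have hm := h.mn_ge
  rcases Nat.even_or_odd d with hde | hdo
  · obtain ⟨c, hc⟩ := hde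
    have e1 : ph u (d - 2) = u ^ (d - 1) + 1 := by
      rw [ph_even ⟨c - 1, by omega⟩, show d - 2 + 1 = d - 1 by omega]
    obtain ⟨y, hy⟩ := exists_blockU hF (n := d) (k := d - 2) (by omega) (by omega)
    have e2 : ph u (d - 2 - 1) = u ^ (d - 2) - 1 := by
      rw [ph_odd (by rw [Nat.not_even_iff_odd]; exact ⟨c - 2, by omega⟩), show d - 2 - 1 + 1 = d - 2 by omega]
    rw [e2] at hy
    rw [e1] at h1
    have hp1 : 1 ≤ u ^ (d - 2) := Nat.one_le_pow _ _ (by omega)
    refine no_sub h hu hpp y ?_ fun he => ?_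
    · have e3 : u ^ (d - 1) = u * u ^ (d - 2) := by
        rw [← pow_succ', show d - 2 + 1 = d - 1 by omega]
      rw [hy]
      obtain ⟨a, ha⟩ : ∃ a, mn q k = a + 1 := ⟨mn q k - 1, by omega⟩
      obtain ⟨b, hb⟩ : ∃ b, u ^ (d - 2) = b + 1 := ⟨u ^ (d - 2) - 1, by omega⟩
      rw [ha, e3, hb] at h1
      rw [ha, hb, Nat.add_sub_cancel, Nat.add_sub_cancel]
      have e4 : (a + 1) * (u + 1) = a * (u + 1) + u + 1 := by ring
      have e5 : u * (b + 1) + 1 = u * b + u + 1 := by ring
      omega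
    · rw [hy]
      exact Nat.Even.sub_odd hp1 (he.pow_of_ne_zero (by omega)) odd_one
  · obtain ⟨c, hc⟩ := hdo
    have hc2 : 2 ≤ c := by omega
    have e1 : ph u (d - 2) = u ^ (d - 1) - 1 := by
      rw [ph_odd (by rw [Nat.not_even_iff_odd]; exact ⟨c - 1, by omega⟩), show d - 2 + 1 = d - 1 by omega]
    have hz := coprime_ph hF h hd (i := c - 1) (by omega)
    have e0 : u ^ (d - 1) = u ^ c * u ^ c := by rw [← pow_add, show d - 1 = c + c by omega]
    have hp1 : 1 ≤ u ^ c := Nat.one_le_pow _ _ (by omega)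
    have e2 : u ^ (d - 1) - 1 = (u ^ c - 1) * (u ^ c + 1) := by
      rw [e0]
      obtain ⟨b, hb⟩ : ∃ b, u ^ c = b + 1 := ⟨u ^ c - 1, by omega⟩
      rw [hb, Nat.add_sub_cancel]
      have : (b + 1) * (b + 1) = b * (b + 1 + 1) + 1 := by ring
      omega
    have e3 : ph u (c - 1) ∣ mn q k * (u + 1) := by
      rw [h1, e1, e2]
      unfold ph
      rw [show c - 1 + 1 = c by omega]
      split_ifs
      · exact dvd_mul_left _ _
      · exact dvd_mul_right _ _
    have h2 := le_of_dvd hz (by omega) e3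
    have h3 := ph_ge (u := u) (i := c - 1) (by omega)
    rw [show c - 1 + 1 = c by omega] at h3
    have h4 : u ^ 2 ≤ u ^ c := Nat.pow_le_pow_right (by omega) hc2
    have h5 : u = 2 := by
      by_contra h5
      have : 3 * u ≤ u ^ 2 := by nlinarith only [show 3 ≤ u by omega]
      omega
    subst h5
    have h6 : 2 ^ c * 2 ^ c ≤ 4 * 4 := Nat.mul_le_mul (by omega) (by omega)
    rw [e1, e0] at h1
    omega

/-- case A, `d` even -/
theorem case_A_even (hF : Fintype.card F = u ^ 2) (h : TK p q k (PSU d F u)) (hd : 3 ≤ d) (hu : 2 ≤ u)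
    (hde : Even d) (h1 : mn q k * Nat.gcd d (u + 1) * (u + 1) = ph u (d - 1)) : False := by
  have hm := h.mn_ge
  obtain ⟨c, hc⟩ := hde
  obtain ⟨g, hg⟩ : ∃ g, g = Nat.gcd d (u + 1) := ⟨_, rfl⟩
  rw [← hg] at h1
  have hg0 : 0 < g := hg ▸ Nat.gcd_pos_of_pos_right _ (by omega)
  have hgu : g ≤ u + 1 := hg ▸ Nat.le_of_dvd (by omega) (Nat.gcd_dvd_right _ _)
  have hgd : g ≤ d := hg ▸ Nat.le_of_dvd (by omega) (Nat.gcd_dvd_left _ _)
  have hc2 : 2 ≤ c := by omega
  have e1 : ph u (d - 1) = u ^ d - 1 := by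
    rw [ph_odd (by rw [Nat.not_even_iff_odd]; exact ⟨c - 1, by omega⟩), show d - 1 + 1 = d by omega]
  have hz := coprime_ph hF h (by omega) (i := c - 1) (by omega)
  have e0 : u ^ d = u ^ c * u ^ c := by rw [← pow_add, hc]
  have hp1 : 1 ≤ u ^ c := Nat.one_le_pow _ _ (by omega)
  have e2 : u ^ d - 1 = (u ^ c - 1) * (u ^ c + 1) := by
    rw [e0]
    obtain ⟨b, hb⟩ : ∃ b, u ^ c = b + 1 := ⟨u ^ c - 1, by omega⟩
    rw [hb, Nat.add_sub_cancel]
    have : (b + 1) * (b + 1) = b * (b + 1 + 1) + 1 := by ring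
    omega
  have e3 : ph u (c - 1) ∣ mn q k * (g * (u + 1)) := by
    rw [← mul_assoc, h1, e1, e2]
    unfold ph
    rw [show c - 1 + 1 = c by omega]
    split_ifs
    · exact dvd_mul_left _ _
    · exact dvd_mul_right _ _
  have hmg : mn q k ≤ u ^ d := by
    calc mn q k ≤ mn q k * g * (u + 1) := by
          rw [mul_assoc]
          exact Nat.le_mul_of_pos_right _ (Nat.mul_pos hg0 (by omega))
      _ = u ^ d - 1 := by rw [h1, e1]
      _ ≤ u ^ d := Nat.sub_le _ _
  rcases Nat.lt_or_ge 2 c with h3 | h3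
  · have h2 := le_of_dvd hz (Nat.mul_pos hg0 (by omega)) e3
    have h4 := ph_ge (u := u) (i := c - 1) (by omega)
    rw [show c - 1 + 1 = c by omega] at h4
    have h5 : g * (u + 1) ≤ (u + 1) * (u + 1) := Nat.mul_le_mul_right _ hgu
    have h6 : u ^ 3 ≤ u ^ c := Nat.pow_le_pow_right (by omega) h3
    have h7 : u = 2 := by
      by_contra h7
      have h8 : 3 ≤ u := by omega
      have h9 : 3 * u ^ 2 ≤ u ^ 3 := by
        rw [pow_succ u 2, mul_comm]
        exact Nat.mul_le_mul_left _ h8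
      nlinarith only [h2, h4, h5, h6, h8]
    subst h7
    have h8 : 2 ^ c * 2 ^ c ≤ 10 * 10 := Nat.mul_le_mul (by omega) (by omega)
    omega
  · have hc' : c = 2 := by omega
    subst hc'
    have hd4 : d = 4 := by omega
    subst hd4
    have e4 : ph u 1 = (u + 1) * (u - 1) := ph_one (by omega)
    have e5 : u - 1 ∣ g := by
      have h4 := hz.dvd_of_dvd_mul_left e3
      rw [show 2 - 1 = 1 from rfl, e4, mul_comm g] at h4
      exact Nat.dvd_of_mul_dvd_mul_left (by omega) h4
    have h4 := Nat.le_of_dvd hg0 e5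
    have h5 : u ^ 4 ≤ 5 ^ 4 := Nat.pow_le_pow_left (by omega) 4
    omega

/-- case A, `d` odd -/
theorem case_A_odd (hF : Fintype.card F = u ^ 2) (h : TK p q k (PSU d F u)) (hd : 3 ≤ d) (hu : 2 ≤ u)
    (hpp : ∃ l t, l.Prime ∧ t ≠ 0 ∧ u = l ^ t)
    (hdo : Odd d) (h1 : mn q k * Nat.gcd d (u + 1) * (u + 1) = ph u (d - 1))
    (x : PSU d F u) (hx : orderOf x * Nat.gcd d (u + 1) = ph u (d - 2)) : False := by
  have hm := h.mn_ge
  obtain ⟨c, hc⟩ := id hdo
  obtain ⟨g, hg⟩ : ∃ g, g = Nat.gcd d (u + 1) := ⟨_, rfl⟩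
  rw [← hg] at h1 hx
  have hg0 : 0 < g := hg ▸ Nat.gcd_pos_of_pos_right _ (by omega)
  have hgd : g ∣ d := hg ▸ Nat.gcd_dvd_left _ _
  have hgu : g ∣ u + 1 := hg ▸ Nat.gcd_dvd_right _ _
  have e1 : ph u (d - 1) = u ^ d + 1 := by
    rw [ph_even ⟨c, by omega⟩, show d - 1 + 1 = d by omega]
  have e2 : ph u (d - 2) = u ^ (d - 1) - 1 := by
    rw [ph_odd (by rw [Nat.not_even_iff_odd]; exact ⟨c - 1, by omega⟩), show d - 2 + 1 = d - 1 by omega]
  rw [e1] at h1
  rw [e2] at hx
  have hp1 : 1 ≤ u ^ (d - 1) := Nat.one_le_pow _ _ (by omega)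
  by_cases hg1 : g = 1
  · rw [hg1, mul_one] at h1 hx
    refine no_sub h hu hpp x ?_ fun he => ?_
    · have e3 : u ^ d = u * u ^ (d - 1) := by
        rw [← pow_succ', show d - 1 + 1 = d by omega]
      rw [hx]
      obtain ⟨a, ha⟩ : ∃ a, mn q k = a + 1 := ⟨mn q k - 1, by omega⟩
      obtain ⟨b, hb⟩ : ∃ b, u ^ (d - 1) = b + 1 := ⟨u ^ (d - 1) - 1, by omega⟩
      rw [ha, e3, hb] at h1
      rw [ha, hb, Nat.add_sub_cancel, Nat.add_sub_cancel]
      have e4 : (a + 1) * (u + 1) = a * (u + 1) + u + 1 := by ring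
      have e5 : u * (b + 1) + 1 = u * b + u + 1 := by ring
      omega
    · rw [hx]
      exact Nat.Even.sub_odd hp1 (he.pow_of_ne_zero (by omega)) odd_one
  · have hdp : d.Prime := by
      by_contra hnp
      obtain ⟨e, he⟩ := Nat.minFac_dvd d
      obtain ⟨l, hl⟩ : ∃ l, l = d.minFac := ⟨_, rfl⟩
      rw [← hl] at he
      have hlp : l.Prime := hl ▸ Nat.minFac_prime (by omega)
      have hle : l ≤ e := by
        have h2 := Nat.minFac_sq_le_self (n := d) (by omega) hnp
        rw [← hl, pow_two] at h2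
        rw [he] at h2
        exact Nat.le_of_mul_le_mul_left h2 hlp.pos
      have hl3 : 3 ≤ l := by
        have h2 : l ≠ 2 := by
          rintro rfl
          rw [he] at hdo
          exact (Nat.not_even_iff_odd.2 hdo) (even_two_mul e)
        have := hlp.two_le
        omega
      have hlo : Odd l := (Nat.odd_mul.1 (he ▸ hdo)).1
      have heo : Odd e := (Nat.odd_mul.1 (he ▸ hdo)).2
      have hed : 3 * e ≤ d := by rw [he]; exact Nat.mul_le_mul_right _ hl3
      have hz := coprime_ph hF h (by omega) (i := e - 1) (by omega)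
      obtain ⟨e', he'⟩ := heo
      rw [ph_even ⟨e', by omega⟩, show e - 1 + 1 = e by omega] at hz
      have h2 : u ^ e + 1 ∣ mn q k * (g * (u + 1)) := by
        rw [← mul_assoc, h1, he, mul_comm l e, pow_mul]
        have := Odd.nat_add_dvd_pow_add_pow (u ^ e) 1 hlo
        simpa only [_root_.one_pow] using this
      have h3 := le_of_dvd hz (Nat.mul_pos hg0 (by omega)) h2
      have h4 : g * (u + 1) ≤ (u + 1) * (u + 1) := Nat.mul_le_mul_right _ (Nat.le_of_dvd (by omega) hgu)
      have h5 : u ^ 3 ≤ u ^ e := Nat.pow_le_pow_right (by omega) (by omega)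
      have h6 : u = 2 := by
        by_contra h7
        have h8 : 3 ≤ u := by omega
        have h9 : 3 * u ^ 2 ≤ u ^ 3 := by
          rw [pow_succ u 2, mul_comm]
          exact Nat.mul_le_mul_left _ h8
        nlinarith only [hu, h3, h4, h5, h9]
      subst h6
      have h7 : e = 3 := by
        by_contra h8
        have : 2 ^ 4 ≤ 2 ^ e := Nat.pow_le_pow_right (by norm_num) (by omega)
        omega
      have h8 : d = 9 := by
        rw [he, h7, show l = 3 by omega]
      subst h8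
      have h9 : mn q k ≤ mn q k * g * (2 + 1) := by
        rw [mul_assoc]
        exact Nat.le_mul_of_pos_right _ (Nat.mul_pos hg0 (by omega))
      rw [h1] at h9
      omega
    have hgd' : g = d := (hdp.eq_one_or_self_of_dvd g hgd).resolve_left hg1
    rw [hgd'] at h1 hx hgu
    rcases Nat.even_or_odd u with hue | huo
    · obtain ⟨l, t, hl, ht, hlt⟩ := hpp
      have hl2 : l = 2 := by
        have h2 : 2 ∣ l ^ t := hlt ▸ even_iff_two_dvd.1 hue
        exact ((Nat.prime_dvd_prime_iff_eq Nat.prime_two hl).1 (Nat.prime_two.dvd_of_dvd_pow h2)).symm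
      subst hl2
      refine no_even h hdp (by rintro rfl; omega) ht (hlt ▸ hgu) (hlt ▸ h1) fun f hf => ?_
      obtain ⟨y, hy⟩ := TPPerm.exists_two_pow hF hue hd hf
      exact h.two f y (by rw [hy])
    · exact no_odd (m := mn q k) (N := orderOf x) hdo hd huo (by obtain ⟨a, ha⟩ := huo; omega) (by omega) h1 hx
        fun j hj => h.two j x hj

end

/-- **The row `PSU_d(u)`.** -/
theorem psu {p q k d u : ℕ} {S : Type*} [Group S] [Finite S] (h : Cfsg.Agent.H202.TP.TK p q k S)
    (hg : H436.IsNamed (.psu d u) S) (hv : ¬ p ∣ u) : False := by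
  obtain ⟨F, _, _, hF, ⟨e⟩⟩ := hg.real
  obtain ⟨hn, h32, -⟩ := hg.cond
  have hu : 2 ≤ u := LieClassical.HermBasic.two_le hF
  have hT := h.congr e
  have hm := h.mn_ge
  have hpp : ∃ l t, l.Prime ∧ t ≠ 0 ∧ u = l ^ t := by
    obtain ⟨l, t, hl, -, hlt, ht⟩ := LieClassical.HermBasic.exists_prime_pow hF
    exact ⟨l, t, hl, by omega, hlt⟩
  rcases psu_row hF hn h32 (isoN_of_TK hT) with ⟨h1, x, hx⟩ | ⟨hn4, -, h1, -⟩ | ⟨-, -, h1⟩ | ⟨-, -, h1⟩
  · rcases Nat.even_or_odd d with hde | hdo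
    · exact case_A_even hF hT hn hu hde h1
    · exact case_A_odd hF hT hn hu hpp hdo h1 x hx
  · exact case_B hF hT hn4 hu hpp h1
  · omega
  · omega

end Cfsg.Agent.H29.TPPsu
end
end

-- part: H767/PO/Main_mg
section
prune_inst 0x21403034006200000000008441201e0282000080000880000080020406800c0000008020a02000040000000400300048110000800240000004000000011800800000000040810008000000000080000000000000000000000000000000000000000000000
set_option linter.all false
open scoped Cfsg.Agent.FastGrp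

-- part: H767/PO/Abs
section
/-!
# Outer automorphisms fixing an element of prime order of an isolated torus (helper767, S3536 P-OUT)

`not_dvd_index` : `S ⊲ A`, `C_A(S) = 1`, the orders of the elements of `A` divisible by a prime divisor of `m` divide `m`;
`f` is an automorphism of `S` of order `t ^ j` (`t ∤ m` prime, `t ^ j` the `t`-part of `|Out S|`) which fixes an element of prime
order `r ∣ m`. Then `t ∤ |A : S|`.
-/

set_option autoImplicit false

namespace Cfsg.Agent.H767.PO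

/-- isolation -/
def Isol (m : ℕ) (A : Type*) [Group A] : Prop :=
  ∀ (r : ℕ) (x : A), r.Prime → r ∣ m → r ∣ orderOf x → orderOf x ∣ m

theorem Isol.congr {m : ℕ} {A B : Type*} [Group A] [Group B] (h : Isol m A) (f : B →* A)
    (hf : Function.Injective f) : Isol m B := by
  intro r x hr hrm hx
  rw [← orderOf_injective f hf x] at hx ⊢
  exact h r _ hr hrm hx

/-- no element of order `t * r` -/
theorem Isol.false {m : ℕ} {A : Type*} [Group A] [Finite A] (h : Isol m A) {t r : ℕ} (ht : t.Prime) (hr : r.Prime)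
    (htm : ¬ t ∣ m) (hrm : r ∣ m) {x z : A} (hx : ∃ l, l ≠ 0 ∧ orderOf x = t ^ l) (hz : orderOf z = r)
    (hc : Commute x z) : False := by
  obtain ⟨l, hl, hx⟩ := hx
  have hne : t ≠ r := by rintro rfl; exact htm hrm
  have hcop : (orderOf x).Coprime (orderOf z) := by
    rw [hx, hz]
    exact Nat.Coprime.pow_left _ ((Nat.coprime_primes ht hr).2 hne)
  have h1 := hc.orderOf_mul_eq_mul_orderOf_of_coprime hcop
  have h2 := h r (x * z) hr hrm (by rw [h1, hz]; exact dvd_mul_left _ _)
  rw [h1, hx] at h2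
  exact htm (((dvd_pow_self t hl).trans (dvd_mul_right _ _)).trans h2)

section

variable {G : Type*} [Group G]

instance conj_range_normal : (MulAut.conj (G := G)).range.Normal := by
  refine ⟨?_⟩
  rintro _ ⟨s, rfl⟩ f
  refine ⟨f s, ?_⟩
  ext x
  simp only [MulAut.mul_apply, MulAut.conj_apply, _root_.MulAut.inv_apply, _root_.map_mul, _root_.MulEquiv.apply_symm_apply, _root_.map_inv]

theorem conj_injective (hZ : Subgroup.center G = ⊥) : Function.Injective (MulAut.conj (G := G)) := by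
  rw [injective_iff_map_eq_one]
  intro s hs
  have h : s ∈ Subgroup.center G := by
    rw [Subgroup.mem_center_iff]
    intro g
    have h2 := DFunLike.congr_fun hs g
    rw [MulAut.conj_apply, MulAut.one_apply] at h2
    calc g * s = (s * g * s⁻¹) * s := by rw [h2]
      _ = s * g := by group
  rw [hZ] at h
  exact Subgroup.mem_bot.1 h

end

variable {A : Type*} [Group A] {S : Subgroup A} [hn : S.Normal]

theorem conjNormal_injective (hC : Subgroup.centralizer (S : Set A) = ⊥) :
    Function.Injective (MulAut.conjNormal : A →* MulAut S) := by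
  rw [injective_iff_map_eq_one]
  intro a ha
  have h : a ∈ Subgroup.centralizer (S : Set A) := by
    rw [Subgroup.mem_centralizer_iff]
    intro s hs
    have h2 := congrArg Subtype.val (DFunLike.congr_fun ha ⟨s, hs⟩)
    rw [MulAut.conjNormal_apply, MulAut.one_apply] at h2
    calc s * a = (a * s * a⁻¹) * a := by rw [h2]
      _ = a * s := by group
  rw [hC] at h
  exact Subgroup.mem_bot.1 h

theorem center_eq_bot (hC : Subgroup.centralizer (S : Set A) = ⊥) : Subgroup.center S = ⊥ := by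
  rw [eq_bot_iff]
  intro s hs
  rw [Subgroup.mem_center_iff] at hs
  have h : (s : A) ∈ Subgroup.centralizer (S : Set A) := by
    rw [Subgroup.mem_centralizer_iff]
    intro a ha
    exact congrArg Subtype.val (hs ⟨a, ha⟩)
  rw [hC] at h
  rw [Subgroup.mem_bot]
  exact Subtype.ext (Subgroup.mem_bot.1 h)

theorem conjNormal_coe (s : S) : (MulAut.conjNormal (s : A) : MulAut S) = MulAut.conj s := by
  ext x
  rw [MulAut.conjNormal_apply, MulAut.conj_apply]
  rfl

theorem not_dvd_index [Finite A] (hC : Subgroup.centralizer (S : Set A) = ⊥) {m : ℕ} (hI : Isol m A) {t : ℕ}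
    (ht : t.Prime) (htm : ¬ t ∣ m) {r : ℕ} (hr : r.Prime) (hrm : r ∣ m) {z : S} (hz : orderOf z = r)
    {f : MulAut S} {j : ℕ} (hf : orderOf f = t ^ j) (hfz : f z = z) {c : ℕ} (hc : ¬ t ∣ c)
    (hcard : Nat.card (MulAut S) = t ^ j * c * Nat.card S) : ¬ t ∣ S.index := by
  classical
  intro hti
  haveI : Fact t.Prime := ⟨ht⟩
  have hZ := center_eq_bot hC
  have hinj := conj_injective hZ
  have hIS : Isol m S := hI.congr S.subtype Subtype.val_injective
  set! N := (MulAut.conj (G := S)).range with hN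
  have hNcard : Nat.card N = Nat.card S := (Nat.card_congr (MonoidHom.ofInjective hinj).toEquiv).symm
  have hQ : Nat.card (MulAut S ⧸ N) = t ^ j * c := by
    have h1 := Subgroup.card_eq_card_quotient_mul_card_subgroup N
    rw [hNcard, hcard] at h1
    exact (Nat.eq_of_mul_eq_mul_right Nat.card_pos h1).symm
  have hc0 : c ≠ 0 := by rintro rfl; exact hc (dvd_zero t)
  -- the order of the image of f
  have hord : orderOf (QuotientGroup.mk' N f) = t ^ j := by
    have h1 : orderOf (QuotientGroup.mk' N f) ∣ t ^ j := by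
      rw [← hf]; exact orderOf_map_dvd _ _
    obtain ⟨l, hl, hl'⟩ := (Nat.dvd_prime_pow ht).1 h1
    rcases hl.lt_or_eq with h2 | h2
    · exfalso
      have h3 : f ^ t ^ l ∈ N := by
        rw [← QuotientGroup.eq_one_iff, QuotientGroup.mk_pow]
        have := pow_orderOf_eq_one (QuotientGroup.mk' N f)
        rwa [hl'] at this
      obtain ⟨s, hs⟩ := h3
      have h4 : orderOf s = t ^ (j - l) := by
        rw [← orderOf_injective _ hinj s, hs, orderOf_pow, hf]
        rw [Nat.gcd_eq_right (pow_dvd_pow t hl), Nat.pow_div hl ht.pos]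
      have h5 : (f ^ t ^ l) z = z := by
        have : ∀ i : ℕ, (f ^ i) z = z := by
          intro i
          induction i with
          | zero => simp
          | succ i ih => rw [pow_succ, MulAut.mul_apply, hfz, ih]
        exact this _
      rw [← hs, MulAut.conj_apply] at h5
      refine hIS.false ht hr htm hrm ⟨j - l, by omega, h4⟩ hz ?_
      rw [Commute, SemiconjBy]
      calc s * z = (s * z * s⁻¹) * s := by group
        _ = z * s := by rw [h5]
    · rw [hl', h2]
  -- an element of order `t` of `A / S`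
  have hti' : t ∣ Nat.card (A ⧸ S) := hti
  obtain ⟨x, hx⟩ := exists_prime_orderOf_dvd_card' t hti'
  obtain ⟨x, rfl⟩ := QuotientGroup.mk_surjective x
  set! y : MulAut S ⧸ N := QuotientGroup.mk' N (MulAut.conjNormal x) with hy
  have hmem : ∀ a : A, (MulAut.conjNormal a : MulAut S) ∈ N ↔ a ∈ S := by
    intro a
    constructor
    · rintro ⟨s, hs⟩
      rw [← conjNormal_coe] at hs
      rw [← conjNormal_injective hC hs]
      exact s.2
    · intro ha
      exact ⟨⟨a, ha⟩, (conjNormal_coe (⟨a, ha⟩ : S)).symm⟩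
  have hy1 : y ≠ 1 := by
    intro h
    have h1 : (MulAut.conjNormal x : MulAut S) ∈ N := (QuotientGroup.eq_one_iff _).1 h
    rw [hmem, ← QuotientGroup.eq_one_iff] at h1
    rw [h1, orderOf_one] at hx
    exact ht.one_lt.ne hx
  have hyt : y ^ t = 1 := by
    have h1 : x ^ t ∈ S := by
      rw [← QuotientGroup.eq_one_iff, QuotientGroup.mk_pow, ← hx, pow_orderOf_eq_one]
    rw [hy, ← map_pow, ← map_pow]
    exact (QuotientGroup.eq_one_iff _).2 ((hmem _).2 h1)
  have hyo : orderOf y = t := orderOf_eq_prime hyt hy1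
  -- Sylow
  have hPc : Nat.card (Subgroup.zpowers (QuotientGroup.mk' N f)) = t ^ (Nat.card (MulAut S ⧸ N)).factorization t := by
    rw [Nat.card_zpowers, hord, hQ, Nat.factorization_mul (pow_ne_zero _ ht.ne_zero) hc0, Nat.factorization_pow,
      Finsupp.add_apply, Finsupp.smul_apply, ht.factorization_self, Nat.factorization_eq_zero_of_not_dvd hc]
    simp
  let P : Sylow t (MulAut S ⧸ N) := Sylow.ofCard _ hPc
  have hyp : IsPGroup t (Subgroup.zpowers y) := IsPGroup.of_card (n := 1) (by rw [Nat.card_zpowers, hyo, pow_one])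
  obtain ⟨P', hP'⟩ := hyp.exists_le_sylow
  obtain ⟨g, hg⟩ := MulAction.exists_smul_eq (MulAut S ⧸ N) P' P
  have hgy : g * y * g⁻¹ ∈ Subgroup.zpowers (QuotientGroup.mk' N f) := by
    have h1 : y ∈ P' := hP' (Subgroup.mem_zpowers y)
    have h2 : g * y * g⁻¹ ∈ g • P' := by
      rw [Sylow.smul_def]
      exact Subgroup.smul_mem_pointwise_smul y (MulAut.conj g) _ h1
    rw [hg] at h2
    exact h2
  obtain ⟨α, rfl⟩ := QuotientGroup.mk_surjective g
  obtain ⟨i, hi⟩ := Subgroup.mem_zpowers_iff.1 hgy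
  have h3 : (α * MulAut.conjNormal x * α⁻¹)⁻¹ * f ^ i ∈ N := by
    rw [← QuotientGroup.eq]
    rw [hy] at hi
    exact hi.symm
  obtain ⟨s, hs⟩ := h3
  have h4 : f ^ i = α * MulAut.conjNormal (x * ((α⁻¹ s : S) : A)) * α⁻¹ := by
    rw [map_mul, conjNormal_coe]
    have h5 : MulAut.conj (α⁻¹ s) = α⁻¹ * MulAut.conj s * α := by
      ext w
      simp only [MulAut.mul_apply, MulAut.conj_apply, _root_.MulAut.inv_apply, _root_.Subgroup.coe_mul, _root_.InvMemClass.coe_inv, _root_.map_mul, _root_.MulEquiv.symm_apply_apply, _root_.map_inv]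
    rw [h5, hs]
    group
  set! x' : A := x * ((α⁻¹ s : S) : A) with hx'; rewrite [← hx'] at h4
  have h5 : (MulAut.conjNormal x' : MulAut S) = α⁻¹ * f ^ i * α := by rw [h4]; group
  have hfiz : (f ^ i) z = z := by
    have h6 : f ∈ MulAction.stabilizer (MulAut S) z := hfz
    exact (MulAction.stabilizer (MulAut S) z).zpow_mem h6 i
  have h6 : Commute x' ((α⁻¹ z : S) : A) := by
    have h7 := congrArg Subtype.val (DFunLike.congr_fun h5 (α⁻¹ z))
    rw [MulAut.conjNormal_apply, MulAut.mul_apply, MulAut.mul_apply, MulAut.apply_inv_self, hfiz] at h7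
    rw [Commute, SemiconjBy]
    calc x' * ((α⁻¹ z : S) : A) = (x' * ((α⁻¹ z : S) : A) * x'⁻¹) * x' := by group
      _ = ((α⁻¹ z : S) : A) * x' := by rw [h7]
  have h7 : orderOf x' ∣ t ^ j := by
    rw [← orderOf_injective _ (conjNormal_injective hC) x', h5]
    have h8 : orderOf (α⁻¹ * f ^ i * α) = orderOf (f ^ i) := by
      have := orderOf_injective (MulAut.conj α⁻¹).toMonoidHom (MulAut.conj α⁻¹).injective (f ^ i)
      simpa only [_root_.map_inv, _root_.MulEquiv.toMonoidHom_eq_coe, _root_.MonoidHom.coe_coe, _root_.MulAut.inv_apply, _root_.MulAut.conj_symm_apply] using this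
    rw [h8, ← hf]
    exact orderOf_dvd_of_pow_eq_one (by rw [← zpow_natCast, ← zpow_mul, mul_comm, zpow_mul, zpow_natCast,
      pow_orderOf_eq_one, one_zpow])
  obtain ⟨l, hl, hl'⟩ := (Nat.dvd_prime_pow ht).1 h7
  refine hI.false ht hr htm hrm ⟨l, ?_, hl'⟩ (z := ((α⁻¹ z : S) : A)) ?_ h6
  · rintro rfl
    rw [pow_zero, orderOf_eq_one_iff] at hl'
    apply hy1
    have h8 : x = ((α⁻¹ s : S) : A)⁻¹ := eq_inv_of_mul_eq_one_left hl'
    apply (QuotientGroup.eq_one_iff _).2
    rw [hmem, h8]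
    exact S.inv_mem (α⁻¹ s).2
  · rw [Subgroup.orderOf_coe, MulEquiv.orderOf_eq, hz]

end Cfsg.Agent.H767.PO
end

-- part: H767/PO/Sp
section
/-!
# Automorphisms of `PSp (2 ^ k) F` fixing an element of prime order `r ∣ q ^ 2 ^ k + 1` (helper767, S3536 P-OUT)
-/

set_option autoImplicit false

namespace Cfsg.Agent.H767.PO

open Cfsg Polynomial
open scoped Matrix
open Cfsg.Agent.ClassicalGeometry.SympBasic Cfsg.Agent.ClassicalGeometry.SympAutSemi
  Cfsg.Agent.ClassicalGeometry.SympGamma Cfsg.Agent.H206.PspFix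
open Cfsg.Agent.LieClassical

/-- what is used of `S`: outer automorphisms with fixed points -/
def OutOK (m : ℕ) (S : Type*) [Group S] : Prop :=
  ∃ a, Odd a ∧ Nat.card (MulAut S) = 2 * a * Nat.card S ∧
    (∃ (r : ℕ) (z : S) (φ : MulAut S), r.Prime ∧ r ∣ m ∧ orderOf z = r ∧ orderOf φ = a ∧ φ z = z) ∧
    (∃ (r : ℕ) (z : S) (τ : MulAut S), r.Prime ∧ r ∣ m ∧ orderOf z = r ∧ orderOf τ = 2 ∧ τ z = z)

theorem OutOK.congr {m : ℕ} {S T : Type*} [Group S] [Group T] (e : S ≃* T) (h : OutOK m T) : OutOK m S := by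
  obtain ⟨a, ha, hc, ⟨r, z, φ, hr, hrm, hz, hφ, hfix⟩, ⟨r', z', τ, hr', hrm', hz', hτ, hfix'⟩⟩ := h
  have key : ∀ (f : MulAut T) (y : T), f y = y → (MulAut.congr e).symm f (e.symm y) = e.symm y := by
    intro f y hf
    change e.symm (f (e (e.symm y))) = e.symm y
    rw [MulEquiv.apply_symm_apply, hf]
  refine ⟨a, ha, ?_, ⟨r, e.symm z, (MulAut.congr e).symm φ, hr, hrm, ?_, ?_, key _ _ hfix⟩,
    ⟨r', e.symm z', (MulAut.congr e).symm τ, hr', hrm', ?_, ?_, key _ _ hfix'⟩⟩
  · rw [Nat.card_congr (MulAut.congr e).toEquiv, Nat.card_congr e.toEquiv, hc]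
  · rw [MulEquiv.orderOf_eq, hz]
  · rw [MulEquiv.orderOf_eq, hφ]
  · rw [MulEquiv.orderOf_eq, hz']
  · rw [MulEquiv.orderOf_eq, hτ]

section Frame

variable {A : Type*} [Group A] {S : Subgroup A} [S.Normal]

theorem eq_top_of_outOK [Finite A] (hC : Subgroup.centralizer (S : Set A) = ⊥) {m : ℕ} (hm : ¬ 2 ∣ m) (hI : Isol m A)
    (hS : OutOK m S) (hidx : S.index.Coprime m) : S = ⊤ := by
  classical
  obtain ⟨a, ha, hc, ⟨r, z, φ, hr, hrm, hz, hφ, hfix⟩, ⟨r', z', τ, hr', hrm', hz', hτ, hfix'⟩⟩ := hS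
  rw [← Subgroup.index_eq_one]
  by_contra hne
  obtain ⟨t, ht, hti⟩ := Nat.exists_prime_and_dvd hne
  have htm : ¬ t ∣ m := fun h => Nat.Prime.one_lt ht |>.ne' (Nat.dvd_one.1 (hidx ▸ Nat.dvd_gcd hti h))
  by_cases ht2 : t = 2
  · subst ht2
    refine not_dvd_index hC hI ht hm hr' hrm' hz' (f := τ) (j := 1) (by rw [hτ, pow_one]) hfix' (c := a) ?_ ?_ hti
    · intro h
      exact (Nat.not_even_iff_odd.2 ha) (even_iff_two_dvd.2 h)
    · rw [hc, pow_one]
  · have ha0 : a ≠ 0 := by rintro rfl; exact absurd ha (by decide)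
    obtain ⟨j, c, hcop, hac⟩ := Nat.exists_eq_pow_mul_and_not_dvd ha0 t ht.ne_one
    have hc0 : c ≠ 0 := by rintro rfl; exact hcop (dvd_zero t)
    refine not_dvd_index hC hI ht htm hr hrm hz (f := φ ^ c) (j := j) ?_ ?_ (c := 2 * c) ?_ ?_ hti
    · rw [orderOf_pow, hφ, hac, Nat.gcd_mul_left_left, Nat.mul_div_cancel _ (Nat.pos_of_ne_zero hc0)]
    · have h6 : φ ∈ MulAction.stabilizer (MulAut S) z := hfix
      exact (MulAction.stabilizer (MulAut S) z).pow_mem h6 c
    · intro h
      rcases (Nat.Prime.dvd_mul ht).1 h with h | h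
      · exact ht2 ((Nat.prime_dvd_prime_iff_eq ht Nat.prime_two).1 h)
      · exact hcop h
    · rw [hc, hac]
      ring

end Frame

/-- an involutory similitude of `Sp` commuting with `z` -/
theorem exists_tau {F : Type*} [Field F] [Fintype F] {r k : ℕ} (hr : r.Prime) (hr2 : r ≠ 2)
    (h2 : (2 : F) ≠ 0) (hk : 1 ≤ k) (h : r ∣ Fintype.card F ^ 2 ^ k + 1)
    {g : Matrix.symplecticGroup (Fin (2 ^ k)) F} (hg : orderOf g = r) :
    ∃ τ : MulAut (PSp (2 ^ k) F), orderOf τ = 2 ∧ τ (QuotientGroup.mk g) = QuotientGroup.mk g := by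
  classical
  haveI : Fact (Nat.Prime 2) := ⟨Nat.prime_two⟩
  have hob_ := FiniteField.exists_nonsquare (F := F) (by
    intro hc
    apply h2
    have : CharP F 2 := hc ▸ ringChar.charP F
    exact CharTwo.two_eq_zero)
  obtain ⟨ν, hν⟩ := hob_
  have hν0 : ν ≠ 0 := by rintro rfl; exact hν ⟨0, by rw [mul_zero]⟩
  set! L : Module.End F (Fin (2 ^ k) ⊕ Fin (2 ^ k) → F) := Matrix.toLin' g.1 with hL
  have hLp : ∀ i : ℕ, L ^ i = Matrix.toLin' (g ^ i).1 := by
    intro i
    rw [SubmonoidClass.coe_pow, Matrix.toLin'_pow]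
  have hLr : L ^ r = 1 := by
    rw [hLp, ← hg, pow_orderOf_eq_one]
    exact Matrix.toLin'_one
  have hL1 : L ≠ 1 := by
    intro h1
    apply hr.one_lt.ne
    rw [← hg, eq_comm, orderOf_eq_one_iff]
    apply Subtype.ext
    apply Matrix.toLin'.injective
    rw [← hL, h1]
    exact (Matrix.toLin'_one).symm
  have hob_ := exists_sqrt hr hr2 h (by
    rw [Module.finrank_fintype_fun_eq_card, Fintype.card_sum, Fintype.card_fin]; ring) hLr hL1 ν
  obtain ⟨P, hP⟩ := hob_
  set! E := aeval L P with hE; rewrite [← hE] at hP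
  -- the adjoint
  set! L' : Module.End F (Fin (2 ^ k) ⊕ Fin (2 ^ k) → F) := Matrix.toLin' (g⁻¹).1 with hL'
  have hLL' : L * L' = 1 := by
    rw [hL, hL', Module.End.mul_eq_comp, ← Matrix.toLin'_mul, ← Submonoid.coe_mul, mul_inv_cancel]
    exact Matrix.toLin'_one
  have hadj : ∀ u v, sympForm (2 ^ k) F (L u) v = sympForm (2 ^ k) F u (L' v) := by
    intro u v
    have h1 : v = L (L' v) := by rw [← Module.End.mul_apply, hLL', Module.End.one_apply]
    conv_lhs => rw [h1]
    exact sympForm_rho g u (L' v)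
  have hq1 : L ^ (Fintype.card F ^ 2 ^ k) = L' := by
    obtain ⟨c, hc⟩ := h
    have h3 : L ^ (Fintype.card F ^ 2 ^ k) * L = 1 := by
      rw [← pow_succ, hc, pow_mul, hLr, one_pow]
    calc L ^ (Fintype.card F ^ 2 ^ k) = L ^ (Fintype.card F ^ 2 ^ k) * (L * L') := by rw [hLL', mul_one]
      _ = L' := by rw [← mul_assoc, h3, one_mul]
  have hEq : E ^ (Fintype.card F ^ 2 ^ k) = aeval L' P := by
    rw [hE, aeval_pow_card, hq1]
  -- `E ^ q ^ n = E`
  have hodd : Fintype.card F % 2 = 1 := FiniteField.odd_card_of_char_ne_two (by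
    intro hc
    apply h2
    have : CharP F 2 := hc ▸ ringChar.charP F
    exact CharTwo.two_eq_zero)
  have hEE : E ^ (Fintype.card F ^ 2 ^ k) = E := by
    obtain ⟨j, rfl⟩ : ∃ j, k = j + 1 := ⟨k - 1, by omega⟩
    set! c := Fintype.card F ^ 2 ^ j with hc
    have hco : c % 2 = 1 := by
      rw [← Nat.odd_iff]
      exact (Nat.odd_iff.2 hodd).pow
    have h4 : Fintype.card F ^ 2 ^ (j + 1) = c * c := by rw [pow_succ, pow_mul, sq, hc]
    obtain ⟨e, he⟩ : ∃ e, c = 2 * e + 1 := ⟨c / 2, by omega⟩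
    have h5 : (Fintype.card F - 1) ∣ c - 1 := by
      have := Nat.sub_dvd_pow_sub_pow (Fintype.card F) 1 (2 ^ j)
      rwa [one_pow] at this
    obtain ⟨d, hd⟩ : (Fintype.card F - 1) ∣ (c - 1) * (e + 1) := h5.mul_right _
    have h6 : c * c = 2 * ((c - 1) * (e + 1)) + 1 := by
      rw [he, Nat.add_sub_cancel]; ring
    simp_rw [h4, h6, pow_succ E (2 * ((c - 1) * (e + 1))), pow_mul E, hP, hd, ← map_pow, pow_mul ν,
      FiniteField.pow_card_sub_one_eq_one ν hν0, one_pow, map_one, one_mul]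
  have hself : ∀ u v, sympForm (2 ^ k) F (E u) v = sympForm (2 ^ k) F u (E v) := by
    intro u v
    have h3 := adj sympForm_add_left sympForm_add_right sympForm_smul_left sympForm_smul_right hadj P u v
    rw [← hE, ← hEq, hEE] at h3
    exact h3
  have hE2 : ∀ v, E (E v) = ν • v := by
    intro v
    rw [← Module.End.mul_apply, ← sq, hP, Module.algebraMap_end_apply]
  let π : Equiv.Perm (Fin (2 ^ k) ⊕ Fin (2 ^ k) → F) :=
    { toFun := fun v => E v
      invFun := fun v => ν⁻¹ • E v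
      left_inv := fun v => by
        change ν⁻¹ • E (E v) = v
        rw [hE2, smul_smul, inv_mul_cancel₀ hν0, one_smul]
      right_inv := fun v => by
        change E (ν⁻¹ • E v) = v
        rw [map_smul, hE2, smul_smul, inv_mul_cancel₀ hν0, one_smul] }
  have hπ : ∀ v, π v = E v := fun _ => rfl
  have hsemi : IsSemi π (RingEquiv.refl F) ν := by
    refine ⟨fun u v => ?_, fun a v => ?_, fun u v => ?_⟩
    · rw [hπ, hπ, hπ, map_add]
    · rw [hπ, hπ, map_smul]; rfl
    · rw [hπ, hπ, hself, hE2, sympForm_smul_right]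
      rfl
  let G : semiSim (2 ^ k) F := ⟨π, _, _, hν0, hsemi⟩
  have hn1 : 1 ≤ 2 ^ k := Nat.one_le_two_pow
  refine ⟨Psi (2 ^ k) F G, ?_, ?_⟩
  · apply orderOf_eq_prime
    · refine (map_pow (Psi (2 ^ k) F) G 2).symm.trans ?_
      have h3 : G ^ 2 = ⟨scal (2 ^ k) F (Units.mk0 ν hν0), _, _, by
          exact mul_ne_zero hν0 hν0, isSemi_scal (Units.mk0 ν hν0)⟩ := by
        apply Subtype.ext
        ext1 v
        rw [sq]
        change π (π v) = ν • v
        rw [hπ, hπ, hE2]
      simp only [h3]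
      apply MulEquiv.ext
      intro x
      have hob_ := QuotientGroup.mk_surjective x
      obtain ⟨x, rfl⟩ := hob_
      rw [Psi_mk, MulAut.one_apply]
      congr 1
      apply rho_injective
      rw [rho_conjHom]
      ext1 v
      change scal (2 ^ k) F (Units.mk0 ν hν0) (rho (2 ^ k) F x ((scal (2 ^ k) F (Units.mk0 ν hν0))⁻¹ v)) = _
      rw [scal_apply, rho_apply, rho_apply, ← Matrix.mulVec_smul, ← scal_apply]
      congr 1
      exact Equiv.apply_symm_apply _ _
    · intro h3
      obtain ⟨a, ha⟩ := exists_scal_of_Psi_eq_one hn1 _ h3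
      apply hν
      refine ⟨(a : F), ?_⟩
      let v : Fin (2 ^ k) ⊕ Fin (2 ^ k) → F := Pi.single (Sum.inl ⟨0, hn1⟩) 1
      have h4 : ∀ w, E w = (a : F) • w := by
        intro w
        have h5 := DFunLike.congr_fun ha w
        exact h5
      have h5 := hE2 v
      rw [h4, h4, smul_smul] at h5
      have h6 := congrFun h5 (Sum.inl ⟨0, hn1⟩)
      simp only [Pi.smul_apply, smul_eq_mul, v, Pi.single_eq_same, mul_one] at h6
      exact h6.symm
  · rw [Psi_mk]
    congr 1
    apply rho_injective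
    rw [rho_conjHom]
    have hcomm : ∀ v, E (L v) = L (E v) := by
      intro v
      have h3 : Commute E L := by
        have e1 : L = aeval L (X : F[X]) := (aeval_X L).symm
        rw [hE]
        change aeval L P * L = L * aeval L P
        nth_rewrite 2 [e1]
        nth_rewrite 3 [e1]
        rw [← map_mul, ← map_mul, mul_comm]
      rw [← Module.End.mul_apply, h3.eq, Module.End.mul_apply]
    rw [mul_inv_eq_iff_eq_mul]
    ext1 v
    exact hcomm v

/-- the map `Sp_{2n}(K) → Sp_{2n}(F)` -/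
noncomputable def mapSp {K F : Type*} [Field K] [Field F] (n : ℕ) (f : K →+* F) :
    Matrix.symplecticGroup (Fin n) K →* Matrix.symplecticGroup (Fin n) F where
  toFun A := ⟨A.1.map f, by
    rw [SymplecticGroup.mem_iff]
    have hJ : Matrix.J (Fin n) F = (Matrix.J (Fin n) K).map f := by
      rw [Matrix.J, Matrix.J, Matrix.fromBlocks_map]
      congr 1
      · ext i j; simp
      · ext i j; simp only [Matrix.one_apply, apply_ite f, _root_.Matrix.neg_apply, _root_.Matrix.map_apply, _root_.map_neg, _root_.map_one, _root_.map_zero]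
      · ext i j; simp [Matrix.one_apply, apply_ite f]
      · ext i j; simp
    rw [hJ, ← Matrix.transpose_map, ← Matrix.map_mul, ← Matrix.map_mul]
    congr 1
    exact SymplecticGroup.mem_iff.1 A.2⟩
  map_one' := Subtype.ext (by
    change Matrix.map (1 : Matrix _ _ K) f = 1
    ext i j; simp [Matrix.one_apply, apply_ite f])
  map_mul' A B := Subtype.ext (by
    change Matrix.map (A.1 * B.1) f = A.1.map f * B.1.map f
    rw [Matrix.map_mul])

theorem mapSp_apply {K F : Type*} [Field K] [Field F] (n : ℕ) (f : K →+* F) (A : Matrix.symplecticGroup (Fin n) K) :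
    (mapSp n f A).1 = A.1.map f := rfl

theorem mapSp_injective {K F : Type*} [Field K] [Field F] (n : ℕ) (f : K →+* F) : Function.Injective (mapSp n f) := by
  intro A B h
  apply Subtype.ext
  have h1 := congrArg Subtype.val h
  rw [mapSp_apply, mapSp_apply] at h1
  ext i j
  have h2 := congrFun (congrFun h1 i) j
  simp only [Matrix.map_apply] at h2
  exact f.injective h2

/-- existence of elements of order `r` in `Sp_{2n}(K)` -/
theorem exists_order_sp {K : Type*} [Field K] [Fintype K] {r k : ℕ} (hr : r.Prime) (h : r ∣ Fintype.card K ^ 2 ^ k + 1) :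
    ∃ g : Matrix.symplecticGroup (Fin (2 ^ k)) K, orderOf g = r := by
  haveI : Fact r.Prime := ⟨hr⟩
  apply exists_prime_orderOf_dvd_card' r
  rw [SympCount.card_symplecticGroup]
  apply Dvd.dvd.mul_left
  have hn1 : 1 ≤ 2 ^ k := Nat.one_le_two_pow
  refine Dvd.dvd.trans ?_ (Finset.dvd_prod_of_mem _ (Finset.mem_range.2 (show 2 ^ k - 1 < 2 ^ k by omega)))
  have h1 : 2 * (2 ^ k - 1 + 1) = 2 ^ k * 2 := by omega
  rw [h1, pow_mul]
  have h2 : (Fintype.card K ^ 2 ^ k) ^ 2 - 1 = (Fintype.card K ^ 2 ^ k + 1) * (Fintype.card K ^ 2 ^ k - 1) := by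
    have := Nat.sq_sub_sq (Fintype.card K ^ 2 ^ k) 1
    rwa [one_pow] at this
  rw [h2]
  exact h.mul_right _

/-- elements of odd prime order of `Sp` keep their orders in `PSp` -/
theorem orderOf_mk_sp {F : Type*} [Field F] {n r : ℕ} (hn : 1 ≤ n) (hr : r.Prime) (hr2 : r ≠ 2)
    {g : Matrix.symplecticGroup (Fin n) F} (hg : orderOf g = r) : orderOf (QuotientGroup.mk g : PSp n F) = r := by
  haveI : Fact r.Prime := ⟨hr⟩
  apply orderOf_eq_prime
  · rw [← QuotientGroup.mk_pow, ← hg, pow_orderOf_eq_one]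
    rfl
  · intro h
    have h1 : g ∈ Subgroup.center (Matrix.symplecticGroup (Fin n) F) := (QuotientGroup.eq_one_iff _).1 h
    obtain ⟨a, ha⟩ := (SympCenter.mem_center_iff n g).1 h1
    have h3 := SympCenter.sq_eq_one_of_smul_mem hn (a := a) (ha ▸ g.2)
    have h4 : g ^ 2 = 1 := by
      apply Subtype.ext
      rw [sq]
      change g.1 * g.1 = 1
      rw [ha, smul_mul_smul_comm, h3, one_smul, one_mul]
    have h5 := orderOf_dvd_of_pow_eq_one h4
    rw [hg] at h5
    exact hr2 ((Nat.prime_dvd_prime_iff_eq hr Nat.prime_two).1 h5)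

/-- **The symplectic case.** -/
theorem outOK_sp {F : Type*} [Field F] [Fintype F] {p a k m : ℕ} (hp : p.Prime) (hp2 : p ≠ 2) (ha : Odd a)
    (hF : Fintype.card F = p ^ a) (hk : 1 ≤ k) (hm : 2 * m = Fintype.card F ^ 2 ^ k + 1) : OutOK m (PSp (2 ^ k) F) := by
  classical
  haveI : Fact p.Prime := ⟨hp⟩
  have ha0 : a ≠ 0 := by rintro rfl; exact absurd ha (by decide)
  have hchar : CharP F p := by
    obtain ⟨q, hq⟩ := CharP.exists F
    obtain ⟨n, hqp, hn⟩ := FiniteField.card F q
    have : q ∣ p ^ a := by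
      rw [← hF, hn]
      exact dvd_pow_self q n.pos.ne'
    have hqp' : q = p := (Nat.prime_dvd_prime_iff_eq hqp hp).1 (hqp.dvd_of_dvd_pow this)
    rwa [← hqp']
  have h2 : (2 : F) ≠ 0 := by
    intro h0
    have : p ∣ 2 := (CharP.cast_eq_zero_iff F p 2).1 (by exact_mod_cast h0)
    exact hp2 ((Nat.prime_dvd_prime_iff_eq hp Nat.prime_two).1 this)
  obtain ⟨r, hr, hr2, hrp⟩ := exists_r hp hp2 hk
  have hrq : r ∣ Fintype.card F ^ 2 ^ k + 1 := by
    rw [hF]; exact dvd_of_odd ha hrp
  have hrm : r ∣ m := by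
    rw [← hm] at hrq
    rcases (Nat.Prime.dvd_mul hr).1 hrq with h | h
    · exact absurd ((Nat.prime_dvd_prime_iff_eq hr Nat.prime_two).1 h) hr2
    · exact h
  have hn1 : 1 ≤ 2 ^ k := Nat.one_le_two_pow
  have hn2 : 2 ≤ 2 ^ k := by
    calc 2 = 2 ^ 1 := (pow_one 2).symm
      _ ≤ 2 ^ k := Nat.pow_le_pow_right (by norm_num) hk
  obtain ⟨g₀, hg₀⟩ := exists_order_sp (K := ZMod p) (k := k) hr (by rwa [ZMod.card])
  letI : Algebra (ZMod p) F := ZMod.algebra F p
  set! g := mapSp (2 ^ k) (algebraMap (ZMod p) F) g₀ with hg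
  have hgr : orderOf g = r := by rw [hg, orderOf_injective _ (mapSp_injective _ _), hg₀]
  refine ⟨a, ha, ?_, ⟨r, QuotientGroup.mk g, phi (2 ^ k) F (frobeniusEquiv F p), hr, hrm, orderOf_mk_sp hn1 hr hr2 hgr,
    ?_, ?_⟩, ?_⟩
  · have h3 := Cfsg.Agent.S0814.result (F := F) p a (Nat.one_le_iff_ne_zero.2 ha0) hF (2 ^ k) hn2 (by
      intro _
      have h4 : 3 ≤ p := by
        have := hp.two_le
        omega
      calc 3 ≤ p := h4
        _ = p ^ 1 := (pow_one p).symm
        _ ≤ p ^ a := Nat.pow_le_pow_right (by omega) (by omega))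
    rw [if_neg (fun h => hp2 h.2), one_mul] at h3
    rw [h3]
    congr 2
    have h5 : 2 ∣ p ^ a - 1 := by
      have h6 : Odd (p ^ a) := (hp.odd_of_ne_two hp2).pow
      obtain ⟨c, hc⟩ := h6
      exact ⟨c, by omega⟩
    exact Nat.gcd_eq_left h5
  · rw [orderOf_injective _ (phi_injective hn1), orderOf_frob ha0 hF]
  · rw [phi_apply, Psi_mk]
    congr 1
    apply rho_injective
    rw [rho_conjHom, mul_inv_eq_iff_eq_mul]
    ext1 v
    rw [Equiv.Perm.mul_apply, Equiv.Perm.mul_apply, rho_apply, rho_apply]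
    ext i
    rw [frobPerm_apply]
    simp only [Matrix.mulVec, dotProduct, map_sum, map_mul]
    refine Finset.sum_congr rfl fun j _ => ?_
    rw [frobPerm_apply, hg, mapSp_apply, Matrix.map_apply]
    congr 1
    rw [frobeniusEquiv_apply, frobenius_def, ← map_pow, ZMod.pow_card]
  · have hob_ := exists_tau hr hr2 h2 hk hrq hgr
    obtain ⟨τ, hτ, hfix⟩ := hob_
    exact ⟨r, QuotientGroup.mk g, τ, hr, hrm, orderOf_mk_sp hn1 hr hr2 hgr, hτ, hfix⟩

end Cfsg.Agent.H767.PO
end

-- part: H767/PO/Orth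
section
/-!
# Automorphisms of `Ω_{2n+1}(q)`, `n = 2 ^ k`, fixing an element of prime order `r ∣ q ^ n + 1` (helper767, S3536 P-OUT)
-/

set_option autoImplicit false

namespace Cfsg.Agent.H767.PO

open Cfsg Polynomial QuadraticMap
open scoped Matrix
open Cfsg.Agent.LieClassical Cfsg.Agent.LieClassical.OrthCore Cfsg.Agent.LieClassical.OrthTrans
  Cfsg.Agent.LieClassical.OrthForms Cfsg.Agent.ClassicalGeometry.OrthSemi
  Cfsg.Agent.H198.OrthFrame Cfsg.Agent.H185.OrthCent

section Invol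

variable {F V : Type*} [Field F] [Fintype F] [AddCommGroup V] [Module F V] [FiniteDimensional F V]

theorem natCast_ne_zero_of_dvd {r k : ℕ} (h : r ∣ Fintype.card F ^ 2 ^ k + 1) : (r : F) ≠ 0 := by
  intro h0
  have h1 : ((Fintype.card F ^ 2 ^ k + 1 : ℕ) : F) = 0 := by
    obtain ⟨c, hc⟩ := h
    rw [hc, Nat.cast_mul, h0, zero_mul]
  push_cast at h1
  rw [FiniteField.cast_card_eq_zero, zero_pow (by positivity), zero_add] at h1
  exact one_ne_zero h1

/-- the involution `1` on the fixed vectors of `L`, `-1` on `[V, L]` -/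
theorem exists_invol (h2 : (2 : F) ≠ 0) {r k : ℕ} (h : r ∣ Fintype.card F ^ 2 ^ k + 1)
    {L : Module.End F V} (hL : L ^ r = 1) (hL1 : L ≠ 1) {v : V} (hv0 : v ≠ 0) (hv : L v = v) :
    ∃ P : F[X], (aeval L P) ^ 2 = 1 ∧ ∀ a : F, aeval L P ≠ algebraMap F (Module.End F V) a := by
  have hr0 : (r : F) ≠ 0 := natCast_ne_zero_of_dvd h
  set! N : Module.End F V := ∑ i ∈ Finset.range r, L ^ i with hN
  have hLN : L * N = N := by
    have h1 : (L - 1) * N = 0 := by rw [hN, mul_geom_sum, hL, sub_self]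
    rw [sub_mul, one_mul, sub_eq_zero] at h1
    exact h1
  have hLiN : ∀ i, L ^ i * N = N := by
    intro i
    induction i with
    | zero => rw [pow_zero, one_mul]
    | succ i ih => rw [pow_succ, mul_assoc, hLN, ih]
  have hNN : N * N = (r : F) • N := by
    conv_lhs => lhs; rw [hN]
    rw [Finset.sum_mul, Finset.sum_congr rfl (fun i _ => hLiN i), Finset.sum_const, Finset.card_range,
      ← Nat.cast_smul_eq_nsmul F]
  have hNv : N v = (r : F) • v := by
    have h1 : ∀ i, (L ^ i) v = v := by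
      intro i
      induction i with
      | zero => rfl
      | succ i ih => rw [pow_succ, Module.End.mul_apply, hv, ih]
    rw [hN, LinearMap.sum_apply, Finset.sum_congr rfl (fun i _ => h1 i), Finset.sum_const, Finset.card_range,
      ← Nat.cast_smul_eq_nsmul F]
  have hP : aeval L (C (2 / (r : F)) * (∑ i ∈ Finset.range r, (X : F[X]) ^ i) - 1) = (2 / (r : F)) • N - 1 := by
    rw [map_sub, map_mul, aeval_C, map_sum, map_one, Algebra.smul_def]
    simp only [map_pow, aeval_X]
    rw [hN]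
  refine ⟨C (2 / (r : F)) * (∑ i ∈ Finset.range r, (X : F[X]) ^ i) - 1, ?_, ?_⟩
  · rw [hP, _root_.sq]
    have h1 : ((2 / (r : F)) • N - 1) * ((2 / (r : F)) • N - 1) =
        (2 / (r : F)) • (2 / (r : F)) • (N * N) - (2 / (r : F)) • N - (2 / (r : F)) • N + 1 := by
      rw [sub_mul, mul_sub, mul_one, one_mul, smul_mul_smul_comm, mul_smul]
      abel
    rw [h1, hNN, smul_smul (2 / (r : F)) (r : F), div_mul_cancel₀ _ hr0, smul_comm, two_smul]
    abel
  · intro a ha
    rw [hP] at ha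
    have h1 := congrArg (fun f : Module.End F V => f v) ha
    simp only [LinearMap.sub_apply, LinearMap.smul_apply, Module.End.one_apply, Module.algebraMap_end_apply] at h1
    rw [hNv, smul_smul, div_mul_cancel₀ _ hr0] at h1
    have h3 : (a - 1) • v = 0 := by
      rw [sub_smul, ← h1]
      module
    have h4 : a = 1 := by
      rcases smul_eq_zero.1 h3 with h4 | h4
      · exact sub_eq_zero.1 h4
      · exact absurd h4 hv0
    subst h4
    rw [map_one] at ha
    have h5 : N * (L - 1) = 0 := by rw [hN, geom_sum_mul, hL, sub_self]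
    have h6 : (2 / (r : F)) • N = (2 : F) • (1 : Module.End F V) := by
      rw [sub_eq_iff_eq_add] at ha
      rw [ha, two_smul]
    have h7 : (2 : F) • (L - 1) = 0 := by
      have h8 : ((2 / (r : F)) • N) * (L - 1) = 0 := by rw [smul_mul_assoc, h5, smul_zero]
      rw [h6, smul_mul_assoc, one_mul] at h8
      exact h8
    rcases smul_eq_zero.1 h7 with h8 | h8
    · exact h2 h8
    · exact hL1 (sub_eq_zero.1 h8)

end Invol

variable {F : Type*} [Field F]

theorem ext_odd {K : Type*} [Field K] (f : K →+* F) (n : ℕ) : _root_.Cfsg.Agent.H185.OrthCent.Ext f (oddForm n K) (oddForm n F) where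
  app v := by
    rw [coe_oddForm, coe_oddForm]
    unfold quadFormOdd
    simp only [map_add, map_sum, map_mul, map_pow]

/-- the isometries over the small field as isometries over the large one -/
def mapIso {K : Type*} [Field K] (f : K →+* F) (n : ℕ) :
    isometryGroup K ⇑(oddForm n K) →* isometryGroup F ⇑(oddForm n F) where
  toFun x := ⟨mp f x.1, fun v _ => by
    have h := (ext_odd f n).sim (g := x.1) (c := 1) (fun w => by rw [one_mul]; exact x.2 w w) v
    rw [map_one, one_mul] at h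
    exact h⟩
  map_one' := Subtype.ext (map_one _)
  map_mul' x y := Subtype.ext (map_mul _ _ _)

theorem mapIso_injective {K : Type*} [Field K] (f : K →+* F) (n : ℕ) : Function.Injective (mapIso (F := F) f n) := by
  intro x y h
  exact Subtype.ext (mp_injective f (congrArg Subtype.val h))

theorem exists_order_orth {K : Type*} [Field K] [Fintype K] {r k : ℕ} (hr : r.Prime) (hodd : Odd (Fintype.card K))
    (h : r ∣ Fintype.card K ^ 2 ^ k + 1) : ∃ g : isometryGroup K ⇑(oddForm (2 ^ k) K), orderOf g = r := by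
  haveI : Fact r.Prime := ⟨hr⟩
  haveI : Finite (isometryGroup K ⇑(oddForm (2 ^ k) K)) := inferInstance
  apply exists_prime_orderOf_dvd_card' r
  rw [coe_oddForm, Cfsg.Agent.S0286.result rfl hodd]
  apply Dvd.dvd.mul_left
  have hn1 : 1 ≤ 2 ^ k := Nat.one_le_two_pow
  refine Dvd.dvd.trans ?_ (Finset.dvd_prod_of_mem _ (Finset.mem_range.2 (show 2 ^ k - 1 < 2 ^ k by omega)))
  have h1 : 2 * (2 ^ k - 1 + 1) = 2 ^ k * 2 := by omega
  rw [h1, pow_mul]
  have h2 : (Fintype.card K ^ 2 ^ k) ^ 2 - 1 = (Fintype.card K ^ 2 ^ k + 1) * (Fintype.card K ^ 2 ^ k - 1) := by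
    have := Nat.sq_sub_sq (Fintype.card K ^ 2 ^ k) 1
    rwa [one_pow] at this
  rw [h2]
  exact h.mul_right _

section

variable {n : ℕ}

theorem nondegenerate_odd (h2 : (2 : F) ≠ 0) (n : ℕ) : (polarBilin (oddForm n F)).Nondegenerate :=
  ⟨fun x hx => nondeg_oddForm n F h2 x hx,
    fun y hy => nondeg_oddForm n F h2 y fun x => by rw [polar_comm]; exact hy x⟩

theorem mem_omega_of_odd [Finite F] (h2 : (2 : F) ≠ 0) (hn : 1 ≤ n) {g : isometryGroup F ⇑(oddForm n F)} {r : ℕ}
    (hr : Odd r) (hg : g ^ r = 1) : g ∈ Omega F ⇑(oddForm n F) := by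
  have hidx := ClassicalGeometry.OmegaIndex.index_Omega h2 (by
    rw [Fintype.card_sum, Fintype.card_sum, Fintype.card_fin, Fintype.card_unit]
    omega) (oddForm n F) (nondegenerate_odd h2 n)
  have h4 : g ^ 4 ∈ Omega F ⇑(oddForm n F) := by
    rw [← hidx]
    exact Subgroup.pow_index_mem _ g
  have hcop : Nat.Coprime 4 r := (Nat.coprime_two_left.2 hr).pow_left 2
  have h5 : g = (g ^ 4) ^ (Nat.gcdA 4 r) := by
    have h6 := Nat.gcd_eq_gcd_ab 4 r
    rw [hcop.gcd_eq_one] at h6
    calc g = g ^ ((1 : ℕ) : ℤ) := by rw [Nat.cast_one, zpow_one]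
      _ = g ^ ((4 : ℕ) * Nat.gcdA 4 r + (r : ℤ) * Nat.gcdB 4 r : ℤ) := by rw [h6]
      _ = (g ^ 4) ^ (Nat.gcdA 4 r) := by
        rw [zpow_add, zpow_mul, zpow_natCast, zpow_mul, zpow_natCast, hg, one_zpow, mul_one]
  rw [h5]
  exact Subgroup.zpow_mem _ h4 _

end

set_option maxHeartbeats 2000000 in
/-- **The orthogonal case.** -/
theorem outOK_orth [Fintype F] {p a k m : ℕ} (hp : p.Prime) (hp2 : p ≠ 2) (ha : Odd a)
    (hF : Fintype.card F = p ^ a) (hk : 2 ≤ k) (hm : 2 * m = Fintype.card F ^ 2 ^ k + 1) :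
    OutOK m (POmega F (quadFormOdd (2 ^ k) F)) := by
  classical
  rw [← coe_oddForm]
  haveI : Fact p.Prime := ⟨hp⟩
  haveI : Fact (Nat.Prime 2) := ⟨Nat.prime_two⟩
  have ha0 : a ≠ 0 := by rintro rfl; exact absurd ha (by decide)
  have hchar : CharP F p := by
    obtain ⟨q, hq⟩ := CharP.exists F
    obtain ⟨n, hqp, hn⟩ := FiniteField.card F q
    have : q ∣ p ^ a := by
      rw [← hF, hn]
      exact dvd_pow_self q n.pos.ne'
    have hqp' : q = p := (Nat.prime_dvd_prime_iff_eq hqp hp).1 (hqp.dvd_of_dvd_pow this)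
    rwa [← hqp']
  have h2 : (2 : F) ≠ 0 := by
    intro h0
    have : p ∣ 2 := (CharP.cast_eq_zero_iff F p 2).1 (by exact_mod_cast h0)
    exact hp2 ((Nat.prime_dvd_prime_iff_eq hp Nat.prime_two).1 this)
  have hob_ := exists_r hp hp2 (by omega : 1 ≤ k)
  obtain ⟨r, hr, hr2, hrp⟩ := hob_
  haveI : Fact r.Prime := ⟨hr⟩
  have hrq : r ∣ Fintype.card F ^ 2 ^ k + 1 := by
    rw [hF]; exact dvd_of_odd ha hrp
  have hrm : r ∣ m := by
    rw [← hm] at hrq
    rcases (Nat.Prime.dvd_mul hr).1 hrq with h | h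
    · exact absurd ((Nat.prime_dvd_prime_iff_eq hr Nat.prime_two).1 h) hr2
    · exact h
  have hn4 : 4 ≤ 2 ^ k := by
    calc 4 = 2 ^ 2 := by norm_num
      _ ≤ 2 ^ k := Nat.pow_le_pow_right (by norm_num) hk
  have hcardι : Fintype.card (Unit ⊕ (Fin (2 ^ k) ⊕ Fin (2 ^ k))) = 2 * 2 ^ k + 1 := by
    rw [Fintype.card_sum, Fintype.card_sum, Fintype.card_fin, Fintype.card_unit]
    ring
  have hG : Good (oddForm (2 ^ k) F) := ClassicalGeometry.OrthSemiForms.good_odd (by omega) h2
  have hnd := nondegenerate_odd h2 (2 ^ k)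
  have hob_ := exists_order_orth (K := ZMod p) (k := k) hr (by
    rw [ZMod.card]; exact hp.odd_of_ne_two hp2) (by rwa [ZMod.card])
  obtain ⟨g₀, hg₀⟩ := hob_
  letI : Algebra (ZMod p) F := ZMod.algebra F p
  set! g := mapIso (algebraMap (ZMod p) F) (2 ^ k) g₀ with hg
  have hgr : orderOf g = r := by rw [hg, orderOf_injective _ (mapIso_injective _ _), hg₀]
  have hgr1 : g ^ r = 1 := by rw [← hgr, pow_orderOf_eq_one]
  have hmem : g ∈ Omega F ⇑(oddForm (2 ^ k) F) :=
    mem_omega_of_odd h2 (by omega) (hr.odd_of_ne_two hr2) hgr1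
  set! s : Omega F ⇑(oddForm (2 ^ k) F) := ⟨g, hmem⟩ with hs
  have hcen : Subgroup.center (Omega F ⇑(oddForm (2 ^ k) F)) = ⊥ := by
    apply OrthCenter.center_omega_eq_bot_of_odd h2 hnd
    · rw [hcardι]; omega
    · rw [hcardι]; exact ⟨2 ^ k, rfl⟩
    · exact hG.sing
  have hzr : orderOf (QuotientGroup.mk s : POmega F ⇑(oddForm (2 ^ k) F)) = r := by
    apply orderOf_eq_prime
    · have h3 : s ^ r = 1 := Subtype.ext hgr1
      exact (QuotientGroup.mk_pow _ s r).symm.trans ((congrArg QuotientGroup.mk h3).trans (QuotientGroup.mk_one _))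
    · intro h3
      have h4 : s ∈ Subgroup.center (Omega F ⇑(oddForm (2 ^ k) F)) := (QuotientGroup.eq_one_iff _).1 h3
      rw [hcen, Subgroup.mem_bot] at h4
      have h5 : g = 1 := congrArg Subtype.val h4
      rw [h5, orderOf_one] at hgr
      exact hr.one_lt.ne hgr
  have hfix : ∀ σ : F ≃+* F, _root_.Cfsg.Agent.H185.OrthCent.Fix σ (oddForm (2 ^ k) F) := by
    intro σ v
    rw [coe_oddForm]
    unfold quadFormOdd
    simp only [map_add, map_sum, map_mul, map_pow]
  have hmat : ∀ v : (Unit ⊕ (Fin (2 ^ k) ⊕ Fin (2 ^ k))) → F,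
      g.1.1 *ᵥ v = (g₀.1.1).map (algebraMap (ZMod p) F) *ᵥ v := fun _ => rfl
  refine ⟨a, ha, ?_, ⟨r, QuotientGroup.mk s, Phi hG (frobG (hfix (frobeniusEquiv F p))), hr, hrm, hzr, ?_, ?_⟩, ?_⟩
  · have h3 := Cfsg.Agent.S0816.result (F := F) p a (Nat.one_le_iff_ne_zero.2 ha0) hF (hp.odd_of_ne_two hp2) (2 ^ k)
      (by omega)
    rw [← coe_oddForm] at h3
    exact h3
  · haveI : Nonempty (Unit ⊕ (Fin (2 ^ k) ⊕ Fin (2 ^ k))) := ⟨Sum.inl ()⟩
    rw [orderOf_Phi_frob, orderOf_frob ha0 hF]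
  · apply Phi_mk
    intro v
    change g.1.1 *ᵥ _ = (frobG (hfix (frobeniusEquiv F p))).1 (g.1.1 *ᵥ v)
    rw [frobG_apply, frobG_apply, hmat, hmat]
    ext i
    simp only [Matrix.mulVec, dotProduct, map_sum, map_mul]
    refine Finset.sum_congr rfl fun j _ => ?_
    rw [Matrix.map_apply]
    congr 1
    rw [frobeniusEquiv_apply, frobenius_def, ← map_pow (algebraMap (ZMod p) F), ZMod.pow_card]
  · -- the involution
    let L : Module.End F ((Unit ⊕ (Fin (2 ^ k) ⊕ Fin (2 ^ k))) → F) := Matrix.toLin' g.1.1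
    have hL : L = Matrix.toLin' g.1.1 := rfl
    let L' : Module.End F ((Unit ⊕ (Fin (2 ^ k) ⊕ Fin (2 ^ k))) → F) := Matrix.toLin' (g.1⁻¹).1
    have hL' : L' = Matrix.toLin' (g.1⁻¹).1 := rfl
    have hLp : ∀ i : ℕ, L ^ i = Matrix.toLin' (g ^ i).1.1 := by
      intro i
      rw [SubmonoidClass.coe_pow, Units.val_pow_eq_pow_val, Matrix.toLin'_pow]
    have hLr : L ^ r = 1 := by
      rw [hLp, hgr1]
      exact Matrix.toLin'_one
    have hL1 : L ≠ 1 := by
      intro h1
      apply hr.one_lt.ne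
      rw [← hgr, eq_comm, orderOf_eq_one_iff]
      apply Subtype.ext
      apply Units.ext
      apply Matrix.toLin'.injective
      rw [← hL, h1]
      exact (Matrix.toLin'_one).symm
    have hLL' : L * L' = 1 := by
      rw [hL, hL', Module.End.mul_eq_comp, ← Matrix.toLin'_mul, ← Units.val_mul, mul_inv_cancel]
      exact Matrix.toLin'_one
    have hLQ : ∀ v, oddForm (2 ^ k) F (L v) = oddForm (2 ^ k) F v := fun v => g.2 v v
    have hLB : ∀ u v, polar (oddForm (2 ^ k) F) (L u) (L v) = polar (oddForm (2 ^ k) F) u v := by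
      intro u v
      rw [polar, polar, ← map_add, hLQ, hLQ, hLQ]
    have hadj : ∀ u v, polar (oddForm (2 ^ k) F) (L u) v = polar (oddForm (2 ^ k) F) u (L' v) := by
      intro u v
      have h1 : v = L (L' v) := by rw [← Module.End.mul_apply, hLL', Module.End.one_apply]
      conv_lhs => rw [h1]
      exact hLB u (L' v)
    have hob_ := H858.TOrth.exists_fixed_of_odd (F := F) (by
      rw [Module.finrank_fintype_fun_eq_card, hcardι]; exact ⟨2 ^ k, rfl⟩) h2 (polarBilin (oddForm (2 ^ k) F))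
      (fun x hx => hnd.1 x fun y => by rw [hx]; rfl) L hLB (hr.odd_of_ne_two hr2) hLr
    obtain ⟨v, hv0, hv⟩ := hob_
    have hob_ := exists_invol h2 hrq hLr hL1 hv0 hv
    obtain ⟨P, hP, hPa⟩ := hob_
    set! E := aeval L P with hE; rewrite [← hE] at hPa hP
    have hq1 : L ^ (Fintype.card F ^ 2 ^ k) = L' := by
      obtain ⟨c, hc⟩ := hrq
      have h3 : L ^ (Fintype.card F ^ 2 ^ k) * L = 1 := by
        rw [← pow_succ, hc, pow_mul, hLr, one_pow]
      calc L ^ (Fintype.card F ^ 2 ^ k) = L ^ (Fintype.card F ^ 2 ^ k) * (L * L') := by rw [hLL', mul_one]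
        _ = L' := by rw [← mul_assoc, h3, one_mul]
    have hEq : E ^ (Fintype.card F ^ 2 ^ k) = aeval L' P := by
      rw [hE, aeval_pow_card, hq1]
    have hEE : E ^ (Fintype.card F ^ 2 ^ k) = E := by
      have hodd : Odd (Fintype.card F ^ 2 ^ k) := by
        rw [hF]; exact (hp.odd_of_ne_two hp2).pow.pow
      obtain ⟨c, hc⟩ := hodd
      rw [hc, pow_succ, pow_mul, hP, one_pow, one_mul]
    have hself : ∀ u v, polar (oddForm (2 ^ k) F) (E u) v = polar (oddForm (2 ^ k) F) u (E v) := by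
      intro u v
      have h3 := adj (B := polar (oddForm (2 ^ k) F)) (polar_add_left _) (polar_add_right _)
        (fun a u v => by rw [polar_smul_left, smul_eq_mul]) (fun a u v => by rw [polar_smul_right, smul_eq_mul])
        hadj P u v
      rw [← hE, ← hEq, hEE] at h3
      exact h3
    have hE2 : ∀ v, E (E v) = v := by
      intro v
      rw [← Module.End.mul_apply, ← _root_.sq, hP, Module.End.one_apply]
    have hEQ : ∀ v, oddForm (2 ^ k) F (E v) = oddForm (2 ^ k) F v := by
      intro v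
      have h3 : polar (oddForm (2 ^ k) F) (E v) (E v) = polar (oddForm (2 ^ k) F) v v := by
        rw [hself, hE2]
      rw [polar_self, polar_self, two_smul, two_smul, ← two_mul, ← two_mul] at h3
      exact mul_left_cancel₀ h2 h3
    let π : Equiv.Perm ((Unit ⊕ (Fin (2 ^ k) ⊕ Fin (2 ^ k))) → F) :=
      { toFun := fun v => E v
        invFun := fun v => E v
        left_inv := fun v => hE2 v
        right_inv := fun v => hE2 v }
    have hπ : ∀ v, π v = E v := fun _ => rfl
    have hss : IsSS (oddForm (2 ^ k) F) (RingEquiv.refl F) 1 π := by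
      refine ⟨one_ne_zero, fun u v => ?_, fun a v => ?_, fun v => ?_⟩
      · rw [hπ, hπ, hπ, map_add]
      · rw [hπ, hπ, map_smul]; rfl
      · rw [hπ, hEQ, one_mul]; rfl
    let G : Gam (oddForm (2 ^ k) F) := ⟨π, _, _, hss⟩
    refine ⟨r, QuotientGroup.mk s, Phi hG G, hr, hrm, hzr, ?_, ?_⟩
    · apply orderOf_eq_prime
      · refine (map_pow (Phi hG) G 2).symm.trans ?_
        rw [Phi_eq_one_iff]
        refine ⟨1, one_ne_zero, fun v => ?_⟩
        rw [_root_.sq, one_smul]
        exact hE2 v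
      · rw [Ne, Phi_eq_one_iff]
        rintro ⟨b, -, hb⟩
        apply hPa b
        refine LinearMap.ext fun v => ?_
        rw [Module.algebraMap_end_apply]
        exact hb v
    · apply Phi_mk
      intro v
      have hcomm : ∀ v, E (L v) = L (E v) := by
        intro v
        have h3 : E * L = L * E := by
          have e1 : L = aeval L (X : F[X]) := (aeval_X L).symm
          rw [hE]
          nth_rewrite 2 [e1]
          nth_rewrite 3 [e1]
          rw [← map_mul, ← map_mul, mul_comm]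
        rw [← Module.End.mul_apply, h3, Module.End.mul_apply]
      exact (hcomm v).symm

end Cfsg.Agent.H767.PO
end

-- part: H767/PO/Main
section
/-!
# P-OUT (S3536): no outer automorphisms (helper767, task 3266)

`eq_top` : `A` finite, `S ⊲ A`, `C_A(S) = 1`, `S ≅ PSp (2 ^ k) F` or `POmega F (quadFormOdd (2 ^ k) F)`,
`|F| = p ^ a`, `a` odd, `p` odd, isolation in `A` (the elements whose orders are divisible by a prime divisor of `mn q k`
have orders dividing `mn q k`), `|A : S|` prime to `mn q k`: then `S = A`.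
-/

set_option autoImplicit false

namespace Cfsg.Agent.H767.PO

open Cfsg Cfsg.Agent.H202.TP

/-- **P-OUT.** -/
theorem eq_top {A : Type*} [Group A] [Finite A] {S : Subgroup A} [S.Normal]
    (hC : Subgroup.centralizer (S : Set A) = ⊥) {F : Type*} [Field F] [Fintype F] {p a k : ℕ} (hp : p.Prime)
    (hp2 : p ≠ 2) (ha : Odd a) (hF : Fintype.card F = p ^ a) (hk : 2 ≤ k)
    (e : Nonempty (S ≃* PSp (2 ^ k) F) ∨ Nonempty (S ≃* POmega F (quadFormOdd (2 ^ k) F)))
    (hI : ∀ (r : ℕ) (x : A), r.Prime → r ∣ mn (Fintype.card F) k → r ∣ orderOf x →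
      orderOf x ∣ mn (Fintype.card F) k)
    (hidx : S.index.Coprime (mn (Fintype.card F) k)) : S = ⊤ := by
  have hodd : Odd (Fintype.card F) := by rw [hF]; exact (hp.odd_of_ne_two hp2).pow
  have hm := two_mn (q := Fintype.card F) hk hodd
  have hm2 : ¬ 2 ∣ mn (Fintype.card F) k := by
    rw [mn_eq hk]
    intro h
    have := Cfsg.Agent.H202.T.mm_mod (q := Fintype.card F ^ 2 ^ (k - 2)) hodd.pow
    omega
  have hS : OutOK (mn (Fintype.card F) k) S := by
    rcases e with e | e
    · exact (outOK_sp hp hp2 ha hF (by omega) hm).congr e.some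
    · exact (outOK_orth hp hp2 ha hF hk hm).congr e.some
  exact eq_top_of_outOK hC hm2 hI hS hidx

end Cfsg.Agent.H767.PO
end

-- part: H327/KR/Frob
section
/-!
# `S3536-P-KR`: Frobenius subgroups `q^n : (q^n-1)/2` and the coprime step (helper327)
-/

set_option autoImplicit false

namespace Cfsg.Agent.H327.KR

open Subgroup
open scoped MatrixGroups Matrix

universe u v

/-- a Frobenius group with kernel a nontrivial `p`-group and cyclic complement of order `n` -/
def Frob (T : Type*) [Group T] (p n : ℕ) : Prop :=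
  ∃ (A : Subgroup T) (c : T), IsPGroup p A ∧ A ≠ ⊥ ∧ (∀ a ∈ A, c * a * c⁻¹ ∈ A) ∧ orderOf c = n ∧
    ∀ j, 0 < j → j < n → ∀ a ∈ A, a * c ^ j = c ^ j * a → a = 1

theorem Frob.congr {T S : Type*} [Group T] [Group S] {p n : ℕ} (h : Frob T p n) (e : T ≃* S) : Frob S p n := by
  obtain ⟨A, c, hA, hA1, hn, hc, hf⟩ := h
  refine ⟨A.map e.toMonoidHom, e c, hA.map _, ?_, ?_, ?_, ?_⟩
  · rwa [Ne, Subgroup.map_eq_bot_iff_of_injective _ e.injective]
  · rintro _ ⟨a, ha, rfl⟩
    exact ⟨_, hn a ha, by simp only [_root_.MulEquiv.toMonoidHom_eq_coe, _root_.MonoidHom.coe_coe, _root_.map_mul, _root_.map_inv]⟩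
  · rw [← hc]
    exact orderOf_injective e.toMonoidHom e.injective c
  · rintro j h0 hj _ ⟨a, ha, rfl⟩ h1
    have h2 : e (a * c ^ j) = e (c ^ j * a) := by
      rw [map_mul, map_mul, map_pow]; exact h1
    change e a = 1
    rw [hf j h0 hj a ha (e.injective h2), map_one]

/-- **The coprime step.** -/
theorem Frob.step {X : Type*} [Group X] [Finite X] {V : Subgroup X} [V.Normal]
    (hVc : ∀ v ∈ V, ∀ w ∈ V, v * w = w * v) {t p n : ℕ} (ht : t.Prime) (hp : p.Prime) (htp : t ≠ p)
    (hexp : ∀ v ∈ V, v ^ t = 1) (T : Subgroup (X ⧸ V)) (hT : Frob T p n)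
    (hfaith : ∀ x : X, (QuotientGroup.mk x : X ⧸ V) ∈ T → (∀ v ∈ V, x * v = v * x) → x ∈ V) :
    ∃ x : X, orderOf x = t * n := by
  obtain ⟨A, c, hA, hA1, hn, hc, hf⟩ := hT
  have := Fact.mk hp
  have := Fact.mk ht
  have hcop : Nat.Coprime (Nat.card (A.map T.subtype)) t := by
    obtain ⟨k, hk⟩ := IsPGroup.iff_card.1 hA
    rw [Subgroup.card_map_of_injective T.subtype_injective, hk]
    exact Nat.Coprime.pow_left k ((Nat.coprime_primes hp ht).2 htp.symm)
  rcases H385.Sp.frob_order (QuotientGroup.mk' V) (QuotientGroup.mk'_surjective V)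
    (fun a ha b hb => by
      rw [QuotientGroup.ker_mk'] at ha hb
      exact hVc a ha b hb) ht
    (fun v hv => by
      rw [QuotientGroup.ker_mk'] at hv
      exact hexp v hv) (A.map T.subtype) (c : X ⧸ V) (e := n) (by rw [Subgroup.orderOf_coe, hc])
    (by
      rintro _ ⟨a, ha, rfl⟩
      exact ⟨_, hn a ha, rfl⟩)
    (by
      rintro i h0 hi _ ⟨a, ha, rfl⟩ h1
      have h2 : a * c ^ i = c ^ i * a := Subtype.ext h1
      rw [hf i h0 hi a ha h2, map_one]) hcop with h | h
  · obtain ⟨y, hy⟩ := h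
    exact ⟨y, by rw [hy, mul_comm]⟩
  · exfalso
    obtain ⟨a, ha⟩ := Subgroup.ne_bot_iff_exists_ne_one.1 hA1
    obtain ⟨y, hy⟩ := QuotientGroup.mk'_surjective V ((a : T) : X ⧸ V)
    have h1 := h y (by rw [hy]; exact ⟨(a : T), a.2, rfl⟩)
    have h2 : y ∈ V := hfaith y (by
      have : (QuotientGroup.mk y : X ⧸ V) = ((a : T) : X ⧸ V) := hy
      rw [this]
      exact (a : T).2) (fun v hv => h1 v (by rw [QuotientGroup.ker_mk']; exact hv))
    have h3 : ((a : T) : X ⧸ V) = 1 := by
      rw [← hy]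
      exact (QuotientGroup.eq_one_iff y).2 h2
    exact ha (Subtype.ext (Subtype.ext h3))

section SL

variable {E : Type u} [Field E]

/-- upper unitriangular matrices -/
def up : Multiplicative E →* SL(2, E) where
  toFun b := ⟨!![1, b.toAdd; 0, 1], by simp [Matrix.det_fin_two]⟩
  map_one' := by
    ext i j
    (revert i j; simp only [_root_.Fin.forall_fin_succ, _root_.toAdd_one, _root_.Matrix.of_apply, _root_.Matrix.cons_val', _root_.Matrix.cons_val_fin_one, _root_.Matrix.SpecialLinearGroup.coe_one, Fin.isValue, _root_.Matrix.cons_val_zero, _root_.Matrix.cons_val_succ, _root_.IsEmpty.forall_iff, _root_.and_true, _root_.Matrix.one_apply_eq, Nat.reduceAdd, _root_.Fin.succ_zero_eq_one, _root_.ne_eq, _root_.zero_ne_one, _root_.not_false_eq_true, _root_.Matrix.one_apply_ne, _root_.and_self, _root_.Fin.succ_ne_zero, _root_.true_and])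
  map_mul' b b' := by
    apply Subtype.ext
    change !![1, b.toAdd + b'.toAdd; 0, 1] = !![1, b.toAdd; 0, 1] * !![1, b'.toAdd; 0, 1]
    rw [Matrix.mul_fin_two]
    simp [add_comm]

/-- diagonal matrices -/
def dg : Eˣ →* SL(2, E) where
  toFun a := ⟨!![(a : E), 0; 0, ((a⁻¹ : Eˣ) : E)], by simp [Matrix.det_fin_two]⟩
  map_one' := by
    ext i j
    (revert i j; simp only [_root_.Fin.forall_fin_succ, _root_.Units.val_one, _root_.inv_one, _root_.Matrix.of_apply, _root_.Matrix.cons_val', _root_.Matrix.cons_val_fin_one, _root_.Matrix.SpecialLinearGroup.coe_one, Fin.isValue, _root_.Matrix.cons_val_zero, _root_.Matrix.cons_val_succ, _root_.IsEmpty.forall_iff, _root_.and_true, _root_.Matrix.one_apply_eq, Nat.reduceAdd, _root_.Fin.succ_zero_eq_one, _root_.ne_eq, _root_.zero_ne_one, _root_.not_false_eq_true, _root_.Matrix.one_apply_ne, _root_.and_self, _root_.Fin.succ_ne_zero, _root_.true_and])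
  map_mul' b b' := by
    apply Subtype.ext
    change !![((b * b' : Eˣ) : E), 0; 0, (((b * b')⁻¹ : Eˣ) : E)] =
      !![(b : E), 0; 0, ((b⁻¹ : Eˣ) : E)] * !![(b' : E), 0; 0, ((b'⁻¹ : Eˣ) : E)]
    rw [Matrix.mul_fin_two]
    simp only [mul_comm, _root_.Units.val_mul, _root_.mul_inv_rev, _root_.Units.val_inv_eq_inv_val, _root_.MulZeroClass.mul_zero, _root_.add_zero, _root_.zero_add]

theorem coe_up (b : E) : ((up (Multiplicative.ofAdd b) : SL(2, E)) : Matrix (Fin 2) (Fin 2) E) = !![1, b; 0, 1] := rfl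

theorem coe_dg (a : Eˣ) : ((dg a : SL(2, E)) : Matrix (Fin 2) (Fin 2) E) = !![(a : E), 0; 0, ((a⁻¹ : Eˣ) : E)] := rfl

theorem dg_up (a : Eˣ) (b : E) : dg a * up (Multiplicative.ofAdd b) * (dg a)⁻¹ =
    up (Multiplicative.ofAdd ((a : E) * a * b)) := by
  rw [mul_inv_eq_iff_eq_mul]
  ext i j
  rw [Matrix.SpecialLinearGroup.coe_mul, Matrix.SpecialLinearGroup.coe_mul, coe_up, coe_up, coe_dg]
  (revert i j; simp only [Matrix.mul_apply, Fin.sum_univ_two, _root_.Fin.forall_fin_succ, _root_.Units.val_inv_eq_inv_val, _root_.Matrix.of_apply, _root_.Matrix.cons_val', _root_.Matrix.cons_val_fin_one, Fin.isValue, _root_.Matrix.cons_val_zero, _root_.Matrix.cons_val_one, _root_.mul_one, _root_.MulZeroClass.mul_zero, _root_.add_zero, _root_.Matrix.cons_val_succ, _root_.zero_add, _root_.forall_const, _root_.one_mul, _root_.MulZeroClass.zero_mul, _root_.implies_true, _root_.and_true, _root_.true_and]) <;> (repeat' with_reducible apply And.intro)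
  field_simp

variable [Fintype E] {p : ℕ}

theorem frob_of_sl2 [CharP E p] (hp : p.Prime) (hp2 : p ≠ 2) {T : Type v} [Group T] (Φ : SL(2, E) →* T)
    (h1 : ∀ g, Φ g = 1 → g = 1 ∨ g = -1) (h2 : Φ (-1) = 1) : Frob T p ((Nat.card E - 1) / 2) := by
  classical
  have := Fact.mk hp
  have h20 : (2 : E) ≠ 0 := by
    have h3 : ((2 : ℕ) : E) ≠ 0 := by
      rw [Ne, CharP.cast_eq_zero_iff E p 2]
      intro h
      exact hp2 ((Nat.prime_dvd_prime_iff_eq hp Nat.prime_two).1 h)
    exact_mod_cast h3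
  obtain ⟨a, ha⟩ := IsCyclic.exists_generator (α := Eˣ)
  have hoa : orderOf a = Nat.card E - 1 := by
    rw [orderOf_eq_card_of_forall_mem_zpowers ha, Nat.card_units]
  set N := Nat.card E - 1 with hN
  -- `N` is even
  have hNe : 2 ∣ N := by
    have h3 : (-1 : Eˣ) ^ 2 = 1 := by simp only [_root_.even_two, _root_.Even.neg_pow, _root_.one_pow]
    have h4 : orderOf (-1 : Eˣ) = 2 := orderOf_eq_prime h3 (by
      intro h
      have h5 := congrArg Units.val h
      rw [Units.val_neg, Units.val_one] at h5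
      apply h20
      linear_combination -h5)
    rw [← h4, hN, ← Nat.card_units]
    exact _root_.orderOf_dvd_natCard _
  have hN0 : 0 < N := by rw [← hoa]; exact orderOf_pos a
  obtain ⟨M, hM⟩ := hNe
  have hM2 : N / 2 = M := by omega
  rw [hM2]
  -- powers
  have hpow : ∀ m : ℕ, (((a ^ m : Eˣ) : E)) * ((a ^ m : Eˣ) : E) = 1 ↔ M ∣ m := by
    intro m
    have h3 : (((a ^ m : Eˣ) : E)) * ((a ^ m : Eˣ) : E) = 1 ↔ a ^ (2 * m) = 1 := by
      rw [two_mul, pow_add, ← Units.val_mul, Units.val_eq_one]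
    rw [h3, ← orderOf_dvd_iff_pow_eq_one, hoa, hM]
    exact Nat.mul_dvd_mul_iff_left (by norm_num)
  have hc : ∀ m : ℕ, Φ (dg a) ^ m = 1 ↔ M ∣ m := by
    intro m
    rw [← hpow, ← map_pow, ← map_pow]
    generalize a ^ m = α
    constructor
    · intro h
      rcases h1 _ h with h3 | h3
      · have h4 := congrArg (fun g : SL(2, E) => (g : Matrix (Fin 2) (Fin 2) E) 0 0) h3
        have h5 : (α : E) = 1 := h4
        rw [h5, mul_one]
      · have h4 := congrArg (fun g : SL(2, E) => (g : Matrix (Fin 2) (Fin 2) E) 0 0) h3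
        have h5 : (α : E) = -1 := by
          simpa only [coe_dg, _root_.Units.val_eq_neg_one, _root_.Fin.isValue, _root_.Units.val_inv_eq_inv_val, _root_.Matrix.of_apply, _root_.Matrix.cons_val', _root_.Matrix.cons_val_zero, _root_.Matrix.cons_val_fin_one, _root_.Matrix.SpecialLinearGroup.coe_neg, _root_.Matrix.SpecialLinearGroup.coe_one, _root_.Matrix.neg_apply, _root_.Matrix.one_apply_eq] using h4
        rw [h5]; ring
    · intro h
      have h3 : (α : E) = 1 ∨ (α : E) = -1 := mul_self_eq_one_iff.1 h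
      rcases h3 with h3 | h3
      · have h4 : α = 1 := Units.ext h3
        rw [h4, map_one, map_one]
      · have h4 : α = -1 := Units.ext (by rw [h3]; simp)
        have h5 : dg (-1 : Eˣ) = (-1 : SL(2, E)) := by
          ext i j
          rw [coe_dg]
          (revert i j; simp only [_root_.Fin.forall_fin_succ, _root_.Units.val_neg, _root_.Units.val_one, _root_.inv_neg, _root_.inv_one, _root_.Matrix.of_apply, _root_.Matrix.cons_val', _root_.Matrix.cons_val_fin_one, _root_.Matrix.SpecialLinearGroup.coe_neg, _root_.Matrix.SpecialLinearGroup.coe_one, _root_.Matrix.neg_apply, Fin.isValue, _root_.Matrix.cons_val_zero, _root_.Matrix.cons_val_succ, _root_.IsEmpty.forall_iff, _root_.and_true, _root_.Matrix.one_apply_eq, Nat.reduceAdd, _root_.Fin.succ_zero_eq_one, _root_.ne_eq, _root_.zero_ne_one, _root_.not_false_eq_true, _root_.Matrix.one_apply_ne, _root_.neg_zero, _root_.and_self, _root_.Fin.succ_ne_zero, _root_.neg_inj, _root_.true_and])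
        rw [h4, h5, h2]
  refine ⟨(Φ.comp up).range, Φ (dg a), ?_, ?_, ?_, ?_, ?_⟩
  · rintro ⟨_, ⟨b, rfl⟩⟩
    refine ⟨1, Subtype.ext ?_⟩
    change (Φ.comp up b) ^ p ^ 1 = 1
    have h3 : b ^ p = 1 := by
      apply Multiplicative.toAdd.injective
      rw [toAdd_pow, toAdd_one, nsmul_eq_mul, CharP.cast_eq_zero, zero_mul]
    rw [pow_one, ← map_pow, h3, map_one]
  · intro h
    have h3 : Φ (up (Multiplicative.ofAdd (1 : E))) = 1 := by
      have h4 : Φ.comp up (Multiplicative.ofAdd (1 : E)) ∈ (Φ.comp up).range := ⟨_, rfl⟩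
      rw [h, mem_bot] at h4
      exact h4
    rcases h1 _ h3 with h4 | h4
    · have h5 := congrArg (fun g : SL(2, E) => (g : Matrix (Fin 2) (Fin 2) E) 0 1) h4
      simp only [coe_up, _root_.Fin.isValue, _root_.Matrix.of_apply, _root_.Matrix.cons_val', _root_.Matrix.cons_val_one, _root_.Matrix.cons_val_fin_one, _root_.Matrix.cons_val_zero, _root_.Matrix.SpecialLinearGroup.coe_one, _root_.ne_eq, _root_.zero_ne_one, _root_.not_false_eq_true, _root_.Matrix.one_apply_ne, _root_.one_ne_zero] at h5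
    · have h5 := congrArg (fun g : SL(2, E) => (g : Matrix (Fin 2) (Fin 2) E) 0 1) h4
      simp only [coe_up, _root_.Fin.isValue, _root_.Matrix.of_apply, _root_.Matrix.cons_val', _root_.Matrix.cons_val_one, _root_.Matrix.cons_val_fin_one, _root_.Matrix.cons_val_zero, _root_.Matrix.SpecialLinearGroup.coe_neg, _root_.Matrix.SpecialLinearGroup.coe_one, _root_.Matrix.neg_apply, _root_.ne_eq, _root_.zero_ne_one, _root_.not_false_eq_true, _root_.Matrix.one_apply_ne, _root_.neg_zero, _root_.one_ne_zero] at h5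
  · rintro _ ⟨b, rfl⟩
    refine ⟨Multiplicative.ofAdd ((a : E) * a * b.toAdd), ?_⟩
    change Φ (up _) = Φ (dg a) * Φ (up b) * (Φ (dg a))⁻¹
    rw [← dg_up, map_mul, map_mul, map_inv]
    rfl
  · apply Nat.dvd_antisymm
    · exact orderOf_dvd_of_pow_eq_one ((hc M).2 dvd_rfl)
    · exact (hc _).1 (pow_orderOf_eq_one _)
  · rintro j h0 hj _ ⟨b, rfl⟩ hcomm
    have h3 : Φ (up b * dg (a ^ j) * (dg (a ^ j) * up b)⁻¹) = 1 := by
      have h4 : Φ (up b) * Φ (dg a) ^ j = Φ (dg a) ^ j * Φ (up b) := hcomm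
      rw [map_mul, map_inv, map_mul, map_mul, map_pow, map_pow, h4, mul_inv_cancel]
    have hpj := hpow j
    generalize a ^ j = α at h3 hpj
    have h5 : b.toAdd = 0 := by
      rcases h1 _ h3 with h4 | h4
      · have h5 : up b * dg α = dg α * up b := mul_inv_eq_one.1 h4
        have h6 := congrArg (fun g : SL(2, E) => (g : Matrix (Fin 2) (Fin 2) E) 0 1) h5
        have h7 : b.toAdd * ((α⁻¹ : Eˣ) : E) = (α : E) * b.toAdd := by
          have e1 : ((up b : SL(2, E)) : Matrix (Fin 2) (Fin 2) E) = !![1, b.toAdd; 0, 1] := rfl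
          simpa only [Matrix.SpecialLinearGroup.coe_mul, e1, coe_dg, Matrix.mul_apply, Fin.sum_univ_two, _root_.Units.val_inv_eq_inv_val, _root_.Fin.isValue, _root_.Matrix.of_apply, _root_.Matrix.cons_val', _root_.Matrix.cons_val_fin_one, _root_.Matrix.cons_val_zero, _root_.Matrix.cons_val_one, _root_.MulZeroClass.mul_zero, _root_.zero_add, _root_.mul_one, _root_.add_zero] using h6
        by_contra hb
        have h8 : ((α⁻¹ : Eˣ) : E) = (α : E) := by
          rw [mul_comm] at h7
          exact mul_right_cancel₀ hb h7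
        have h9 : ((α : E)) * (α : E) = 1 := by
          nth_rewrite 1 [← h8]
          exact Units.inv_mul _
        have h10 := hpj.1 h9
        exact absurd (Nat.le_of_dvd h0 h10) (by omega)
      · exfalso
        have h5 : up b * dg α = -(dg α * up b) := by
          have := mul_inv_eq_iff_eq_mul.1 h4
          rw [this, neg_one_mul]
        have h6 := congrArg (fun g : SL(2, E) => (g : Matrix (Fin 2) (Fin 2) E) 0 0) h5
        have h7 : (α : E) = -(α : E) := by
          have e1 : ((up b : SL(2, E)) : Matrix (Fin 2) (Fin 2) E) = !![1, b.toAdd; 0, 1] := rfl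
          simpa [Matrix.SpecialLinearGroup.coe_mul, e1, coe_dg, Matrix.mul_apply, Fin.sum_univ_two] using h6
        have h8 : (2 : E) * (α : E) = 0 := by linear_combination h7
        rcases mul_eq_zero.1 h8 with h9 | h9
        · exact h20 h9
        · exact α.ne_zero h9
    have h6 : b = 1 := Multiplicative.toAdd.injective h5
    rw [h6, map_one]

end SL

end Cfsg.Agent.H327.KR
end
end

-- part: H327/KR/Sp
section
prune_inst 0xe4503074776202000818001662201e52fa00042200488000a0a00b0207c8cc20adc7a821bab005169af2a04578380048110001800220000000000400011d01a080824200e3c9a10c260019800000000000000000000000000000000000000000000000000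
set_option linter.all false
open scoped Cfsg.Agent.FastGrp

/-!
# `S3536-P-KR`: `SL_2(q^n)` in `Sp_{2n}(q)` (helper327)
-/

set_option autoImplicit false

namespace Cfsg.Agent.H327.KR

open Subgroup Module Cfsg
open Cfsg.Agent.ClassicalGeometry.SympBasic
open scoped MatrixGroups Matrix

universe u v

section

variable {F : Type u} [Field F] {E : Type v} [Field E] [Algebra F E]

variable (F) in
/-- the action of `2 × 2` matrices -/
def actL (M : Matrix (Fin 2) (Fin 2) E) : (E × E) →ₗ[F] (E × E) where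
  toFun u := (M 0 0 * u.1 + M 0 1 * u.2, M 1 0 * u.1 + M 1 1 * u.2)
  map_add' u v := by
    ext
    · simp only [Prod.fst_add, Prod.snd_add]; ring
    · simp only [Prod.fst_add, Prod.snd_add]; ring
  map_smul' c u := by
    ext
    · simp only [Prod.smul_fst, Prod.smul_snd, mul_smul_comm, RingHom.id_apply, smul_add]
    · simp only [Prod.smul_fst, Prod.smul_snd, mul_smul_comm, RingHom.id_apply, smul_add]

theorem actL_one : actL F (1 : Matrix (Fin 2) (Fin 2) E) = LinearMap.id := by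
  refine LinearMap.ext fun u => ?_
  ext
  · simp [actL]
  · simp [actL]

theorem actL_mul (M N : Matrix (Fin 2) (Fin 2) E) : actL F (M * N) = (actL F M).comp (actL F N) := by
  refine LinearMap.ext fun u => ?_
  ext
  · simp only [actL, LinearMap.coe_mk, AddHom.coe_mk, LinearMap.comp_apply, Matrix.mul_apply, Fin.sum_univ_two]
    ring
  · simp only [actL, LinearMap.coe_mk, AddHom.coe_mk, LinearMap.comp_apply, Matrix.mul_apply, Fin.sum_univ_two]
    ring

/-- a linear equivalence which is an isometry for the standard symplectic form and the trace form -/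
theorem exists_coord [Finite F] [Finite E] {n : ℕ} (hn : finrank F E = n) :
    ∃ P : (Fin n ⊕ Fin n → F) ≃ₗ[F] (E × E), ∀ u v, sympForm n F u v =
      Algebra.trace F E ((P u).2 * (P v).1 - (P u).1 * (P v).2) := by
  classical
  have hsep : Algebra.IsSeparable F E := inferInstance
  let b : Basis (Fin n) F E := Module.finBasisOfFinrankEq F E hn
  have hnd := traceForm_nondegenerate F E
  let b' : Basis (Fin n) F E := (Algebra.traceForm F E).dualBasis hnd b
  have hb : ∀ i j, Algebra.trace F E (b' i * b j) = if j = i then 1 else 0 := fun i j => by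
    have := LinearMap.BilinForm.apply_dualBasis_left hnd b i j
    rwa [Algebra.traceForm_apply] at this
  let P : (Fin n ⊕ Fin n → F) ≃ₗ[F] (E × E) :=
    (LinearEquiv.sumArrowLequivProdArrow (Fin n) (Fin n) F F).trans
      (b.equivFun.symm.prodCongr b'.equivFun.symm)
  have hP1 : ∀ u, (P u).1 = ∑ i, u (Sum.inl i) • b i := fun u => by
    change b.equivFun.symm _ = _
    rw [Basis.equivFun_symm_apply]
    rfl
  have hP2 : ∀ u, (P u).2 = ∑ i, u (Sum.inr i) • b' i := fun u => by
    change b'.equivFun.symm _ = _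
    rw [Basis.equivFun_symm_apply]
    rfl
  have key : ∀ x y : Fin n → F, Algebra.trace F E ((∑ i, x i • b' i) * ∑ j, y j • b j) = ∑ i, x i * y i := by
    intro x y
    rw [Finset.sum_mul_sum, map_sum]
    refine Finset.sum_congr rfl fun i _ => ?_
    rw [map_sum, Finset.sum_eq_single i]
    · rw [smul_mul_smul_comm, map_smul, hb, if_pos rfl, smul_eq_mul, mul_one]
    · intro j _ hj
      rw [smul_mul_smul_comm, map_smul, hb, if_neg hj, smul_zero]
    · intro h
      exact absurd (Finset.mem_univ i) h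
  refine ⟨P, fun u v => ?_⟩
  rw [sympForm_eq_sum, hP1, hP2, hP1, hP2, map_sub, mul_comm (∑ i, u (Sum.inl i) • b i), key, key,
    ← Finset.sum_sub_distrib]
  exact Finset.sum_congr rfl fun i _ => by ring

variable {n : ℕ} (P : (Fin n ⊕ Fin n → F) ≃ₗ[F] (E × E))
  (hP : ∀ u v, sympForm n F u v = Algebra.trace F E ((P u).2 * (P v).1 - (P u).1 * (P v).2))

/-- `SL_2(E)` in the symplectic group -/
noncomputable def toSp : SL(2, E) →* Matrix.symplecticGroup (Fin n) F where
  toFun g := ⟨LinearMap.toMatrix' (P.symm.toLinearMap ∘ₗ actL F (g : Matrix (Fin 2) (Fin 2) E) ∘ₗ P.toLinearMap), by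
    rw [mem_symplecticGroup_iff]
    intro u v
    rw [LinearMap.toMatrix'_mulVec, LinearMap.toMatrix'_mulVec, hP, hP u v]
    simp only [LinearMap.comp_apply, LinearEquiv.coe_coe, LinearEquiv.apply_symm_apply]
    congr 1
    have hdet : (g : Matrix (Fin 2) (Fin 2) E) 0 0 * (g : Matrix (Fin 2) (Fin 2) E) 1 1 -
        (g : Matrix (Fin 2) (Fin 2) E) 0 1 * (g : Matrix (Fin 2) (Fin 2) E) 1 0 = 1 := by
      rw [← Matrix.det_fin_two]; exact g.2
    simp only [actL, LinearMap.coe_mk, AddHom.coe_mk]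
    linear_combination ((P u).2 * (P v).1 - (P u).1 * (P v).2) * hdet⟩
  map_one' := by
    apply Subtype.ext
    change LinearMap.toMatrix' (P.symm.toLinearMap ∘ₗ actL F ((1 : SL(2, E)) : Matrix (Fin 2) (Fin 2) E) ∘ₗ
      P.toLinearMap) = 1
    rw [Matrix.SpecialLinearGroup.coe_one, actL_one, LinearMap.id_comp]
    have : P.symm.toLinearMap ∘ₗ P.toLinearMap = LinearMap.id := by
      refine LinearMap.ext fun v => ?_
      simp
    rw [this, LinearMap.toMatrix'_id]
  map_mul' g h := by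
    apply Subtype.ext
    change LinearMap.toMatrix' (P.symm.toLinearMap ∘ₗ actL F ((g * h : SL(2, E)) : Matrix (Fin 2) (Fin 2) E) ∘ₗ
      P.toLinearMap) = LinearMap.toMatrix' _ * LinearMap.toMatrix' _
    rw [← LinearMap.toMatrix'_comp, Matrix.SpecialLinearGroup.coe_mul, actL_mul]
    congr 1
    refine LinearMap.ext fun v => ?_
    simp

theorem toSp_mulVec (g : SL(2, E)) (v : Fin n ⊕ Fin n → F) :
    P (((toSp P hP g : Matrix.symplecticGroup (Fin n) F) : Matrix (Fin n ⊕ Fin n) (Fin n ⊕ Fin n) F) *ᵥ v) =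
      actL F (g : Matrix (Fin 2) (Fin 2) E) (P v) := by
  change P (LinearMap.toMatrix' _ *ᵥ v) = _
  rw [LinearMap.toMatrix'_mulVec]
  simp

theorem toSp_neg_one :
    ((toSp P hP (-1) : Matrix.symplecticGroup (Fin n) F) : Matrix (Fin n ⊕ Fin n) (Fin n ⊕ Fin n) F) = -1 := by
  apply Matrix.toLin'.injective
  refine LinearMap.ext fun v => P.injective ?_
  rw [Matrix.toLin'_apply, toSp_mulVec, Matrix.toLin'_apply, Matrix.neg_mulVec, Matrix.one_mulVec, map_neg]
  ext
  · simp [actL]
  · simp [actL]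

theorem actL_eq {M : Matrix (Fin 2) (Fin 2) E} {ε : E} (h : ∀ u : E × E, actL F M u = (ε * u.1, ε * u.2)) :
    M = !![ε, 0; 0, ε] := by
  have h1 := h (1, 0)
  have h2 := h (0, 1)
  simp only [actL, LinearMap.coe_mk, AddHom.coe_mk, mul_one, mul_zero, add_zero, zero_add, Prod.mk.injEq] at h1 h2
  ext i j
  fin_cases i <;> fin_cases j
  · exact h1.1
  · exact h2.1
  · exact h1.2
  · exact h2.2

/-- the map to `PSp` -/
noncomputable def toPSp : SL(2, E) →* PSp n F :=
  (QuotientGroup.mk' (Subgroup.center (Matrix.symplecticGroup (Fin n) F))).comp (toSp P hP)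

theorem toPSp_ker {g : SL(2, E)} (hg : toPSp P hP g = 1) : g = 1 ∨ g = -1 := by
  have h1 : toSp P hP g ∈ Subgroup.center (Matrix.symplecticGroup (Fin n) F) := (QuotientGroup.eq_one_iff _).1 hg
  rcases Cfsg.Agent.ClassicalGeometry.SympInvolutions.center_eq h1 with h2 | h2
  · left
    have h3 : (g : Matrix (Fin 2) (Fin 2) E) = !![1, 0; 0, 1] := by
      apply actL_eq (F := F)
      intro u
      obtain ⟨v, rfl⟩ := P.surjective u
      rw [← toSp_mulVec P hP, h2, Matrix.one_mulVec, one_mul, one_mul]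
    apply Subtype.ext
    rw [h3, Matrix.SpecialLinearGroup.coe_one]
    exact Matrix.one_fin_two.symm
  · right
    have h3 : (g : Matrix (Fin 2) (Fin 2) E) = !![-1, 0; 0, -1] := by
      apply actL_eq (F := F)
      intro u
      obtain ⟨v, rfl⟩ := P.surjective u
      rw [← toSp_mulVec P hP, h2, Matrix.neg_mulVec, Matrix.one_mulVec, map_neg, neg_one_mul, neg_one_mul]
      rfl
    apply Subtype.ext
    rw [h3, Matrix.SpecialLinearGroup.coe_neg, Matrix.SpecialLinearGroup.coe_one, Matrix.one_fin_two]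
    ext i j
    fin_cases i <;> fin_cases j <;> simp

theorem toPSp_neg_one : toPSp P hP (-1) = 1 := by
  refine (QuotientGroup.eq_one_iff _).2 ?_
  rw [Subgroup.mem_center_iff]
  intro B
  apply Subtype.ext
  have h := toSp_neg_one P hP
  change (B : Matrix (Fin n ⊕ Fin n) (Fin n ⊕ Fin n) F) *
    ((toSp P hP (-1) : Matrix.symplecticGroup (Fin n) F) : Matrix (Fin n ⊕ Fin n) (Fin n ⊕ Fin n) F) =
    ((toSp P hP (-1) : Matrix.symplecticGroup (Fin n) F) : Matrix (Fin n ⊕ Fin n) (Fin n ⊕ Fin n) F) *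
      (B : Matrix (Fin n ⊕ Fin n) (Fin n ⊕ Fin n) F)
  rw [h, mul_neg, neg_mul, one_mul, mul_one]

end

/-- **`PSp_{2n}(q)` contains a Frobenius group `q^n : (q^n - 1)/2`.** -/
theorem frob_psp {F : Type u} [Field F] [Finite F] {p : ℕ} [CharP F p] (hp : p.Prime) (hp2 : p ≠ 2) {n : ℕ}
    (hn : 1 ≤ n) : Frob (PSp n F) p ((Nat.card F ^ n - 1) / 2) := by
  have := Fact.mk hp
  have : NeZero n := ⟨by omega⟩
  let E := FiniteField.Extension F p n
  have hfin : finrank F E = n := FiniteField.finrank_extension F p n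
  have hcard : Nat.card E = Nat.card F ^ n := FiniteField.natCard_extension F p n
  have hcharE : CharP E p := charP_of_injective_algebraMap (algebraMap F E).injective p
  have : Fintype E := Fintype.ofFinite E
  obtain ⟨P, hP⟩ := exists_coord (F := F) (E := E) hfin
  rw [← hcard]
  exact frob_of_sl2 hp hp2 (toPSp P hP) (fun g hg => toPSp_ker P hP hg) (toPSp_neg_one P hP)

end Cfsg.Agent.H327.KR

private theorem dce_afd1f5d9c487 : _root_.True := by
  try have : _root_.True := by simp only [_root_.Cfsg.Agent.H327.KR.actL.eq_1]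
  exact _root_.True.intro
end

-- part: H327/KR/Herm
section
prune_inst 0xe05030747f2202000018009463001e52fa00050200488000a0a00b0607c8ce40ad478821beb0051298b20c4478380048111001000200000000000000011d01a080000000c0c90108260019000000000000000000000000000000000000000000000000000
set_option linter.all false
open scoped Cfsg.Agent.FastGrp

/-!
# `S3536-P-KR`: `SL_2(q^n)` acting on hermitian matrices, an orthogonal space of dimension `2n` over `F_q` (helper327)
-/

set_option autoImplicit false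

namespace Cfsg.Agent.H327.KR

open Subgroup Module Cfsg
open Cfsg.Agent.LieClassical.OrthCore (O Nondeg)
open scoped MatrixGroups Matrix

universe u v

section Herm

variable {F : Type u} [Field F] {E : Type v} [Field E] [Algebra F E] (σ : E ≃ₐ[F] E)

/-- conjugate transpose -/
def ct (M : Matrix (Fin 2) (Fin 2) E) : Matrix (Fin 2) (Fin 2) E := (M.map σ)ᵀ

theorem ct_apply (M : Matrix (Fin 2) (Fin 2) E) (i j : Fin 2) : ct σ M i j = σ (M j i) := rfl

theorem ct_one : ct σ 1 = 1 := by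
  ext i j
  rw [ct_apply]
  (revert i j; simp only [_root_.Fin.forall_fin_succ, _root_.IsEmpty.forall_iff, _root_.and_true, _root_.Matrix.one_apply_eq, _root_.map_one, Fin.isValue, _root_.Fin.succ_zero_eq_one, _root_.ne_eq, _root_.one_ne_zero, _root_.not_false_eq_true, _root_.Matrix.one_apply_ne, _root_.map_zero, _root_.zero_ne_one, _root_.and_self, _root_.Fin.succ_ne_zero, _root_.EmbeddingLike.map_eq_zero_iff])

theorem ct_neg (M : Matrix (Fin 2) (Fin 2) E) : ct σ (-M) = - ct σ M := by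
  ext i j
  rw [ct_apply, Matrix.neg_apply, map_neg, Matrix.neg_apply, ct_apply]

theorem ct_mul (M N : Matrix (Fin 2) (Fin 2) E) : ct σ (M * N) = ct σ N * ct σ M := by
  ext i j
  simp only [ct_apply, Matrix.mul_apply, Fin.sum_univ_two, map_add, map_mul]
  ring

theorem det_ct (M : Matrix (Fin 2) (Fin 2) E) : (ct σ M).det = σ M.det := by
  rw [Matrix.det_fin_two, Matrix.det_fin_two, map_sub, map_mul, map_mul]
  simp only [ct_apply]
  ring

theorem ct_ct (hσ : ∀ x, σ (σ x) = x) (M : Matrix (Fin 2) (Fin 2) E) : ct σ (ct σ M) = M := by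
  ext i j
  rw [ct_apply, ct_apply, hσ]

/-- hermitian matrices -/
def HM : Submodule F (Matrix (Fin 2) (Fin 2) E) where
  carrier := {M | ct σ M = M}
  zero_mem' := by
    ext i j
    simp [ct_apply]
  add_mem' := by
    intro M N hM hN
    ext i j
    rw [ct_apply, Matrix.add_apply, map_add, Matrix.add_apply]
    have h1 := congrFun (congrFun hM i) j
    have h2 := congrFun (congrFun hN i) j
    rw [ct_apply] at h1 h2
    rw [h1, h2]
  smul_mem' := by
    intro c M hM
    ext i j
    rw [ct_apply, Matrix.smul_apply, Matrix.smul_apply, map_smul]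
    have h1 := congrFun (congrFun hM i) j
    rw [ct_apply] at h1
    rw [h1]

variable {σ}

theorem mem_HM {M : Matrix (Fin 2) (Fin 2) E} : M ∈ HM σ ↔ ct σ M = M := Iff.rfl

theorem hm_apply (M : HM σ) (i j : Fin 2) : σ ((M : Matrix (Fin 2) (Fin 2) E) j i) =
    (M : Matrix (Fin 2) (Fin 2) E) i j := by
  have h1 := congrFun (congrFun M.2 i) j
  rwa [ct_apply] at h1

theorem conj_mem (hσ : ∀ x, σ (σ x) = x) (g : Matrix (Fin 2) (Fin 2) E) {M : Matrix (Fin 2) (Fin 2) E}
    (hM : M ∈ HM σ) : g * M * ct σ g ∈ HM σ := by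
  rw [mem_HM] at hM ⊢
  rw [ct_mul, ct_mul, ct_ct σ hσ, hM, mul_assoc]

variable (σ) in
/-- the quadratic form `Tr (det M)` -/
noncomputable def R : QuadraticForm F (HM σ) :=
  LinearMap.BilinMap.toQuadraticMap (LinearMap.mk₂ F
    (fun M N : HM σ => Algebra.trace F E ((M : Matrix (Fin 2) (Fin 2) E) 0 0 * (N : Matrix (Fin 2) (Fin 2) E) 1 1 -
      (M : Matrix (Fin 2) (Fin 2) E) 0 1 * (N : Matrix (Fin 2) (Fin 2) E) 1 0))
    (fun M M' N => by
      rw [← map_add]; congr 1
      simp only [Submodule.coe_add, Matrix.add_apply]; ring)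
    (fun c M N => by
      rw [← map_smul]; congr 1
      simp only [SetLike.val_smul, Matrix.smul_apply, smul_mul_assoc, smul_sub])
    (fun M N N' => by
      rw [← map_add]; congr 1
      simp only [Submodule.coe_add, Matrix.add_apply]; ring)
    (fun c M N => by
      rw [← map_smul]; congr 1
      simp only [SetLike.val_smul, Matrix.smul_apply, mul_smul_comm, smul_sub]))

theorem R_apply (M : HM σ) : R σ M = Algebra.trace F E (M : Matrix (Fin 2) (Fin 2) E).det := by
  rw [Matrix.det_fin_two]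
  rfl

theorem polar_R (M N : HM σ) : QuadraticMap.polar (R σ) M N =
    Algebra.trace F E ((M : Matrix (Fin 2) (Fin 2) E) 0 0 * (N : Matrix (Fin 2) (Fin 2) E) 1 1 +
      (M : Matrix (Fin 2) (Fin 2) E) 1 1 * (N : Matrix (Fin 2) (Fin 2) E) 0 0 -
      (M : Matrix (Fin 2) (Fin 2) E) 0 1 * (N : Matrix (Fin 2) (Fin 2) E) 1 0 -
      (M : Matrix (Fin 2) (Fin 2) E) 1 0 * (N : Matrix (Fin 2) (Fin 2) E) 0 1) := by
  rw [QuadraticMap.polar, R_apply, R_apply, R_apply, ← map_sub, ← map_sub]
  congr 1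
  simp only [Matrix.det_fin_two, Submodule.coe_add, Matrix.add_apply]
  ring

variable [Finite F] [Finite E]

theorem nondeg_R (h2 : (2 : F) ≠ 0) (hσ : ∀ x, σ (σ x) = x) : Nondeg (R σ) := by
  intro M hM
  have hnd := traceForm_nondegenerate F E
  have hz : ∀ y : E, (∀ z : E, Algebra.trace F E (z * y) = 0) → y = 0 := by
    intro y hy
    apply (hnd.1 : ∀ x, (∀ y, Algebra.traceForm F E x y = 0) → x = 0) y
    intro z
    rw [Algebra.traceForm_apply, mul_comm]
    exact hy z
  have hfix : ∀ y : E, σ y = y → (∀ z : E, Algebra.trace F E ((z + σ z) * y) = 0) → y = 0 := by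
    intro y hy h
    apply hz
    intro z
    have h1 := h z
    have h3 : Algebra.trace F E (σ z * y) = Algebra.trace F E (z * y) := by
      rw [← Algebra.trace_eq_of_algEquiv σ (z * y), map_mul σ, hy]
    rw [add_mul, map_add, h3, ← two_mul] at h1
    exact (mul_eq_zero.1 h1).resolve_left h2
  have h11 : (M : Matrix (Fin 2) (Fin 2) E) 1 1 = 0 := by
    refine hfix _ (hm_apply M 1 1) fun z => ?_
    have hN : !![z + σ z, 0; 0, 0] ∈ HM σ := by
      rw [mem_HM]
      ext i j
      rw [ct_apply]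
      (revert i j; simp only [hσ, add_comm, _root_.Fin.forall_fin_succ, _root_.Matrix.of_apply, _root_.Matrix.cons_val', _root_.Matrix.cons_val_fin_one, Fin.isValue, _root_.Matrix.cons_val_zero, _root_.Matrix.cons_val_succ, _root_.forall_const, _root_.map_add, _root_.map_zero, _root_.and_self, _root_.implies_true])
    have h1 := hM ⟨_, hN⟩
    rw [polar_R] at h1
    simpa only [mul_comm, _root_.Fin.isValue, _root_.Matrix.of_apply, _root_.Matrix.cons_val', _root_.Matrix.cons_val_one, _root_.Matrix.cons_val_fin_one, _root_.MulZeroClass.zero_mul, _root_.Matrix.cons_val_zero, _root_.zero_add, _root_.sub_zero] using h1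
  have h00 : (M : Matrix (Fin 2) (Fin 2) E) 0 0 = 0 := by
    refine hfix _ (hm_apply M 0 0) fun z => ?_
    have hN : !![0, 0; 0, z + σ z] ∈ HM σ := by
      rw [mem_HM]
      ext i j
      rw [ct_apply]
      (revert i j; simp only [hσ, add_comm, _root_.Fin.forall_fin_succ, _root_.Matrix.of_apply, _root_.Matrix.cons_val', _root_.Matrix.cons_val_fin_one, Fin.isValue, _root_.Matrix.cons_val_zero, _root_.Matrix.cons_val_succ, _root_.forall_const, _root_.map_zero, _root_.and_self, _root_.map_add, _root_.implies_true])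
    have h1 := hM ⟨_, hN⟩
    rw [polar_R] at h1
    simpa only [mul_comm, _root_.Fin.isValue, _root_.Matrix.of_apply, _root_.Matrix.cons_val', _root_.Matrix.cons_val_one, _root_.Matrix.cons_val_fin_one, _root_.Matrix.cons_val_zero, _root_.MulZeroClass.zero_mul, _root_.add_zero, _root_.sub_zero] using h1
  have h10 : (M : Matrix (Fin 2) (Fin 2) E) 1 0 = 0 := by
    apply hz
    intro z
    have hN : !![0, z; σ z, 0] ∈ HM σ := by
      rw [mem_HM]
      ext i j
      rw [ct_apply]
      (revert i j; simp only [hσ, _root_.Fin.forall_fin_succ, _root_.Matrix.of_apply, _root_.Matrix.cons_val', _root_.Matrix.cons_val_fin_one, Fin.isValue, _root_.Matrix.cons_val_zero, _root_.Matrix.cons_val_succ, _root_.forall_const, _root_.map_zero, _root_.and_self, _root_.implies_true])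
    have h1 := hM ⟨_, hN⟩
    rw [polar_R] at h1
    have h3 : Algebra.trace F E ((M : Matrix (Fin 2) (Fin 2) E) 0 1 * σ z) =
        Algebra.trace F E ((M : Matrix (Fin 2) (Fin 2) E) 1 0 * z) := by
      rw [← Algebra.trace_eq_of_algEquiv σ ((M : Matrix (Fin 2) (Fin 2) E) 1 0 * z), map_mul σ, hm_apply M 0 1]
    have h4 : Algebra.trace F E ((M : Matrix (Fin 2) (Fin 2) E) 0 0 * 0 +
        (M : Matrix (Fin 2) (Fin 2) E) 1 1 * 0 - (M : Matrix (Fin 2) (Fin 2) E) 0 1 * σ z -
        (M : Matrix (Fin 2) (Fin 2) E) 1 0 * z) = 0 := h1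
    rw [mul_zero, mul_zero, add_zero, zero_sub, map_sub, map_neg, h3] at h4
    have h5 : (2 : F) * Algebra.trace F E ((M : Matrix (Fin 2) (Fin 2) E) 1 0 * z) = 0 := by
      linear_combination -h4
    rw [mul_comm]
    exact (mul_eq_zero.1 h5).resolve_left h2
  have h01 : (M : Matrix (Fin 2) (Fin 2) E) 0 1 = 0 := by
    rw [← hm_apply M 0 1, h10, map_zero]
  apply Subtype.ext
  ext i j
  fin_cases i <;> fin_cases j
  · exact h00
  · exact h01
  · exact h10
  · exact h11

theorem finrank_HM_le (h2 : (2 : F) ≠ 0) (hσ : ∀ x, σ (σ x) = x) (hσ1 : σ ≠ 1) :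
    finrank F (HM σ) ≤ 2 * finrank F E := by
  have h20 : (2 : E) ≠ 0 := by
    have := (map_ne_zero (algebraMap F E)).2 h2
    rwa [map_ofNat] at this
  obtain ⟨x, hx⟩ : ∃ x, σ x ≠ x := by
    by_contra hcon
    push Not at hcon
    exact hσ1 (AlgEquiv.ext hcon)
  set θ := x - σ x with hθ
  have hθ0 : θ ≠ 0 := fun h => hx (sub_eq_zero.1 h).symm
  have hσθ : σ θ = -θ := by rw [hθ, map_sub, hσ]; ring
  let f : (HM σ × HM σ) →ₗ[F] Matrix (Fin 2) (Fin 2) E :=
    LinearMap.coprod (HM σ).subtype ((LinearMap.lsmul E (Matrix (Fin 2) (Fin 2) E) θ).restrictScalars F ∘ₗ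
      (HM σ).subtype)
  have hf : ∀ M N : HM σ, f (M, N) = (M : Matrix (Fin 2) (Fin 2) E) + θ • (N : Matrix (Fin 2) (Fin 2) E) :=
    fun M N => rfl
  have hinj : Function.Injective f := by
    rw [injective_iff_map_eq_zero]
    rintro ⟨M, N⟩ h
    rw [hf] at h
    have hM : ∀ i j, (M : Matrix (Fin 2) (Fin 2) E) i j = 0 ∧ (N : Matrix (Fin 2) (Fin 2) E) i j = 0 := by
      intro i j
      have h3 : (M : Matrix (Fin 2) (Fin 2) E) i j + θ * (N : Matrix (Fin 2) (Fin 2) E) i j = 0 :=
        congrFun (congrFun h i) j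
      have h4 : (M : Matrix (Fin 2) (Fin 2) E) j i + θ * (N : Matrix (Fin 2) (Fin 2) E) j i = 0 :=
        congrFun (congrFun h j) i
      have h5 := congrArg σ h4
      rw [map_add, map_mul, hm_apply, hm_apply, hσθ, map_zero] at h5
      have h6 : (2 : E) * (M : Matrix (Fin 2) (Fin 2) E) i j = 0 := by linear_combination h3 + h5
      have h7 := (mul_eq_zero.1 h6).resolve_left h20
      refine ⟨h7, ?_⟩
      rw [h7, zero_add] at h3
      exact (mul_eq_zero.1 h3).resolve_left hθ0
    refine Prod.ext (Subtype.ext ?_) (Subtype.ext ?_)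
    · ext i j; exact (hM i j).1
    · ext i j; exact (hM i j).2
  have h1 := LinearMap.finrank_le_finrank_of_injective hinj
  rw [Module.finrank_prod, Module.finrank_matrix, Fintype.card_fin] at h1
  omega

omit [Finite F] [Finite E]

/-- the action of `SL_2(E)` -/
noncomputable def herm (hσ : ∀ x, σ (σ x) = x) : SL(2, E) →* (HM σ ≃ₗ[F] HM σ) where
  toFun g :=
    { toFun := fun M => ⟨(g : Matrix (Fin 2) (Fin 2) E) * M * ct σ g, conj_mem hσ _ M.2⟩
      map_add' := fun M N => Subtype.ext (by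
        simp only [Submodule.coe_add, mul_add, add_mul])
      map_smul' := fun c M => Subtype.ext (by
        simp only [SetLike.val_smul, mul_smul_comm, smul_mul_assoc, RingHom.id_apply])
      invFun := fun M => ⟨((g⁻¹ : SL(2, E)) : Matrix (Fin 2) (Fin 2) E) * M * ct σ ((g⁻¹ : SL(2, E)) : Matrix _ _ E),
        conj_mem hσ _ M.2⟩
      left_inv := fun M => Subtype.ext (by
        change ((g⁻¹ : SL(2, E)) : Matrix (Fin 2) (Fin 2) E) * ((g : Matrix (Fin 2) (Fin 2) E) * M * ct σ g) *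
          ct σ ((g⁻¹ : SL(2, E)) : Matrix _ _ E) = M
        have h1 : ((g⁻¹ : SL(2, E)) : Matrix (Fin 2) (Fin 2) E) * (g : Matrix (Fin 2) (Fin 2) E) = 1 := by
          rw [← Matrix.SpecialLinearGroup.coe_mul, inv_mul_cancel, Matrix.SpecialLinearGroup.coe_one]
        have h2 : ct σ (g : Matrix (Fin 2) (Fin 2) E) * ct σ ((g⁻¹ : SL(2, E)) : Matrix (Fin 2) (Fin 2) E) = 1 := by
          rw [← ct_mul, h1, ct_one]
        rw [← mul_assoc, ← mul_assoc, h1, one_mul, mul_assoc, h2, mul_one])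
      right_inv := fun M => Subtype.ext (by
        change (g : Matrix (Fin 2) (Fin 2) E) * (((g⁻¹ : SL(2, E)) : Matrix (Fin 2) (Fin 2) E) * M *
          ct σ ((g⁻¹ : SL(2, E)) : Matrix _ _ E)) * ct σ g = M
        have h1 : (g : Matrix (Fin 2) (Fin 2) E) * ((g⁻¹ : SL(2, E)) : Matrix (Fin 2) (Fin 2) E) = 1 := by
          rw [← Matrix.SpecialLinearGroup.coe_mul, mul_inv_cancel, Matrix.SpecialLinearGroup.coe_one]
        have h2 : ct σ ((g⁻¹ : SL(2, E)) : Matrix (Fin 2) (Fin 2) E) * ct σ (g : Matrix (Fin 2) (Fin 2) E) = 1 := by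
          rw [← ct_mul, h1, ct_one]
        rw [← mul_assoc, ← mul_assoc, h1, one_mul, mul_assoc, h2, mul_one]) }
  map_one' := by
    refine LinearEquiv.ext fun M => Subtype.ext ?_
    change ((1 : SL(2, E)) : Matrix (Fin 2) (Fin 2) E) * M * ct σ ((1 : SL(2, E)) : Matrix _ _ E) = M
    rw [Matrix.SpecialLinearGroup.coe_one, ct_one, one_mul, mul_one]
  map_mul' g h := by
    refine LinearEquiv.ext fun M => Subtype.ext ?_
    change ((g * h : SL(2, E)) : Matrix (Fin 2) (Fin 2) E) * M * ct σ ((g * h : SL(2, E)) : Matrix _ _ E) =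
      (g : Matrix (Fin 2) (Fin 2) E) * ((h : Matrix (Fin 2) (Fin 2) E) * M * ct σ h) * ct σ g
    rw [Matrix.SpecialLinearGroup.coe_mul, ct_mul]
    simp only [mul_assoc]

theorem herm_apply (hσ : ∀ x, σ (σ x) = x) (g : SL(2, E)) (M : HM σ) :
    ((herm hσ g M : HM σ) : Matrix (Fin 2) (Fin 2) E) = (g : Matrix (Fin 2) (Fin 2) E) * M * ct σ g := rfl

theorem herm_mem (hσ : ∀ x, σ (σ x) = x) (g : SL(2, E)) : herm hσ g ∈ O (R σ) := by
  intro M
  rw [R_apply, R_apply, herm_apply, Matrix.det_mul, Matrix.det_mul, det_ct, g.2, map_one, one_mul, mul_one]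

theorem herm_neg_one (hσ : ∀ x, σ (σ x) = x) : herm hσ (-1) = 1 := by
  refine LinearEquiv.ext fun M => Subtype.ext ?_
  rw [herm_apply, Matrix.SpecialLinearGroup.coe_neg, Matrix.SpecialLinearGroup.coe_one, ct_neg, ct_one]
  change -1 * (M : Matrix (Fin 2) (Fin 2) E) * -1 = M
  rw [neg_one_mul, mul_neg, mul_one, neg_neg]

theorem herm_ker (hσ : ∀ x, σ (σ x) = x) {g : SL(2, E)} (hg : herm hσ g = 1) : g = 1 ∨ g = -1 := by
  have h1 : ∀ M ∈ HM σ, (g : Matrix (Fin 2) (Fin 2) E) * M * ct σ g = M := by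
    intro M hM
    have h2 := congrArg (fun T : HM σ ≃ₗ[F] HM σ => ((T ⟨M, hM⟩ : HM σ) : Matrix (Fin 2) (Fin 2) E)) hg
    exact h2
  have h2 := h1 1 (by rw [mem_HM, ct_one])
  rw [mul_one] at h2
  have h3 : ∀ M ∈ HM σ, (g : Matrix (Fin 2) (Fin 2) E) * M = M * g := by
    intro M hM
    have h4 : ct σ (g : Matrix (Fin 2) (Fin 2) E) * (g : Matrix (Fin 2) (Fin 2) E) = 1 := by
      rwa [mul_eq_one_comm]
    calc (g : Matrix (Fin 2) (Fin 2) E) * M = (g : Matrix (Fin 2) (Fin 2) E) * M * (ct σ g * g) := by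
          rw [h4, mul_one]
      _ = ((g : Matrix (Fin 2) (Fin 2) E) * M * ct σ g) * g := by rw [mul_assoc, mul_assoc, mul_assoc]
      _ = M * g := by rw [h1 M hM]
  have ha := h3 !![1, 0; 0, 0] (by
    rw [mem_HM]
    ext i j
    rw [ct_apply]
    (revert i j; simp only [_root_.Fin.forall_fin_succ, _root_.Matrix.of_apply, _root_.Matrix.cons_val', _root_.Matrix.cons_val_fin_one, Fin.isValue, _root_.Matrix.cons_val_zero, _root_.Matrix.cons_val_succ, _root_.forall_const, _root_.map_one, _root_.map_zero, _root_.and_self, _root_.implies_true]))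
  have hb := h3 !![0, 1; 1, 0] (by
    rw [mem_HM]
    ext i j
    rw [ct_apply]
    (revert i j; simp only [_root_.Fin.forall_fin_succ, _root_.Matrix.of_apply, _root_.Matrix.cons_val', _root_.Matrix.cons_val_fin_one, Fin.isValue, _root_.Matrix.cons_val_zero, _root_.Matrix.cons_val_succ, _root_.forall_const, _root_.map_zero, _root_.map_one, _root_.and_self, _root_.implies_true]))
  have e01 : (g : Matrix (Fin 2) (Fin 2) E) 0 1 = 0 := by
    have := congrFun (congrFun ha 0) 1
    simpa only [Matrix.mul_apply, Fin.sum_univ_two, _root_.Fin.isValue, _root_.Matrix.of_apply, _root_.Matrix.cons_val', _root_.Matrix.cons_val_fin_one, _root_.Matrix.cons_val_zero, _root_.one_mul, _root_.Matrix.cons_val_one, _root_.MulZeroClass.zero_mul, _root_.add_zero, _root_.MulZeroClass.mul_zero] using this.symm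
  have e10 : (g : Matrix (Fin 2) (Fin 2) E) 1 0 = 0 := by
    have := congrFun (congrFun ha 1) 0
    simpa only [Matrix.mul_apply, Fin.sum_univ_two, _root_.Fin.isValue, _root_.Matrix.of_apply, _root_.Matrix.cons_val', _root_.Matrix.cons_val_zero, _root_.Matrix.cons_val_fin_one, _root_.mul_one, _root_.Matrix.cons_val_one, _root_.MulZeroClass.mul_zero, _root_.add_zero, _root_.MulZeroClass.zero_mul] using this
  have e11 : (g : Matrix (Fin 2) (Fin 2) E) 0 0 = (g : Matrix (Fin 2) (Fin 2) E) 1 1 := by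
    have := congrFun (congrFun hb 0) 1
    simpa only [Matrix.mul_apply, Fin.sum_univ_two, _root_.Fin.isValue, _root_.Matrix.of_apply, _root_.Matrix.cons_val', _root_.Matrix.cons_val_one, _root_.Matrix.cons_val_fin_one, _root_.Matrix.cons_val_zero, _root_.mul_one, _root_.MulZeroClass.mul_zero, _root_.add_zero, _root_.MulZeroClass.zero_mul, _root_.one_mul, _root_.zero_add] using this
  have hdet : (g : Matrix (Fin 2) (Fin 2) E) 0 0 * (g : Matrix (Fin 2) (Fin 2) E) 0 0 = 1 := by
    have := g.2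
    rw [Matrix.det_fin_two, e01, e10, ← e11] at this
    simpa only [_root_.Fin.isValue, _root_.MulZeroClass.mul_zero, _root_.sub_zero] using this
  rcases mul_self_eq_one_iff.1 hdet with h | h
  · left
    apply Subtype.ext
    rw [Matrix.SpecialLinearGroup.coe_one]
    ext i j
    fin_cases i <;> fin_cases j
    · exact h
    · exact e01
    · exact e10
    · exact e11.symm.trans h
  · right
    apply Subtype.ext
    rw [Matrix.SpecialLinearGroup.coe_neg, Matrix.SpecialLinearGroup.coe_one]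
    ext i j
    fin_cases i <;> fin_cases j
    · simpa using h
    · simpa using e01
    · simpa using e10
    · simpa using e11.symm.trans h

end Herm

end Cfsg.Agent.H327.KR
end

-- part: H327/KR/Orth
section
prune_inst 0xc45030141f4002000000009461203e56fe0004b20068800088e009460580cf200d828960bcb011161aa6a28560380048110000000240000004000000011d01a080000202d0c9a108260019000004000000000000000000000000000000000000000000000
set_option linter.all false
open scoped Cfsg.Agent.FastGrp

/-!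
# `S3536-P-KR`: a Frobenius group `q^n : (q^n-1)/2` in `Ω_{2n+1}(q)`, `n` even (helper327)
-/

set_option autoImplicit false

namespace Cfsg.Agent.H327.KR

open Subgroup Module Cfsg
open Cfsg.Agent.LieClassical.OrthCore (O Nondeg)
open Cfsg.Agent.LieClassical.OmegaReindex
open scoped MatrixGroups Matrix

universe u v w

section

variable {F : Type u} [Field F] [Fintype F] {E : Type v} [Field E] [Algebra F E] [Finite E] {σ : E ≃ₐ[F] E}
  {V : Type w} [AddCommGroup V] [Module F V] [FiniteDimensional F V] {Q : QuadraticForm F V}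

/-- `SL_2(E)` in the isometry group of a large quadratic space -/
theorem exists_sl2_O (h2 : (2 : F) ≠ 0) (hσ : ∀ x, σ (σ x) = x) (hσ1 : σ ≠ 1) (hQ : Nondeg Q)
    (hd : 2 * finrank F E < finrank F V) :
    ∃ Ψ : SL(2, E) →* O Q, (∀ g, Ψ g = 1 → g = 1 ∨ g = -1) ∧ Ψ (-1) = 1 := by
  have hnd := nondeg_R (σ := σ) h2 hσ
  have hle := finrank_HM_le (σ := σ) h2 hσ hσ1
  obtain ⟨f, hf, hfQ⟩ := H954.TSing.exists_embedding_odd (R := R σ) h2 _ hQ hnd rfl (by omega)
  obtain ⟨hW, -, -⟩ := H955.range_props hnd hf hfQ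
  let e : HM σ ≃ₗ[F] LinearMap.range f := LinearEquiv.ofInjective f hf
  have he : ∀ x, H955.res Q (LinearMap.range f) (e x) = R σ x := fun x => hfQ x
  let Ψ₀ : SL(2, E) →* (V ≃ₗ[F] V) := (H955.glue hW).comp
    (((H955.tr e).toMonoidHom.comp (herm hσ)).prod 1)
  have hmem : ∀ g, Ψ₀ g ∈ O Q := fun g =>
    (H955.glue_mem_O hW).2 ⟨(H955.tr_mem_O e he).2 (herm_mem hσ g), one_mem _⟩
  refine ⟨Ψ₀.codRestrict (O Q) hmem, fun g hg => ?_, ?_⟩
  · have h1 : Ψ₀ g = 1 := congrArg Subtype.val hg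
    have h3 : (((H955.tr e).toMonoidHom.comp (herm hσ)).prod 1 : SL(2, E) →* _) g =
        (1 : (LinearMap.range f ≃ₗ[F] LinearMap.range f) ×
          (H955.perp Q (LinearMap.range f) ≃ₗ[F] H955.perp Q (LinearMap.range f))) := by
      apply H955.glue_injective hW
      ((conv => enter [@3]; rw [map_one]))
      exact h1
    have h4 : H955.tr e (herm hσ g) = 1 := congrArg Prod.fst h3
    exact herm_ker hσ ((MulEquiv.map_eq_one_iff (H955.tr e)).1 h4)
  · apply Subtype.ext
    change H955.glue hW (H955.tr e (herm hσ (-1)), 1) = 1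
    ((conv => enter [@2, @6, @3, @6]; rw [herm_neg_one]); simp only [map_one])
    exact map_one _

end

/-- elements of `SL_2(E)` which commute with the two standard unipotent elements up to sign -/
theorem eq_or_of_comm {E : Type v} [Field E] (h2 : (2 : E) ≠ 0) {g : SL(2, E)}
    (h : ∀ h : SL(2, E), g * h = h * g ∨ g * h = -(h * g)) : g = 1 ∨ g = -1 := by
  have hdet : (g : Matrix (Fin 2) (Fin 2) E) 0 0 * (g : Matrix (Fin 2) (Fin 2) E) 1 1 -
      (g : Matrix (Fin 2) (Fin 2) E) 0 1 * (g : Matrix (Fin 2) (Fin 2) E) 1 0 = 1 := by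
    rw [← Matrix.det_fin_two]; exact g.2
  let a : SL(2, E) := ⟨!![1, 1; 0, 1], by simp [Matrix.det_fin_two]⟩
  let b : SL(2, E) := ⟨!![1, 0; 1, 1], by simp [Matrix.det_fin_two]⟩
  have ea : (a : Matrix (Fin 2) (Fin 2) E) = !![1, 1; 0, 1] := rfl
  have eb : (b : Matrix (Fin 2) (Fin 2) E) = !![1, 0; 1, 1] := rfl
  have neg : ∀ x : E, x = -x → x = 0 := by
    intro x hx
    have : (2 : E) * x = 0 := by linear_combination hx
    exact (mul_eq_zero.1 this).resolve_left h2
  have h1 : (g : Matrix (Fin 2) (Fin 2) E) 1 0 = 0 ∧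
      (g : Matrix (Fin 2) (Fin 2) E) 0 0 = (g : Matrix (Fin 2) (Fin 2) E) 1 1 := by
    rcases h a with h3 | h3
    · have h4 := congrArg (fun x : SL(2, E) => (x : Matrix (Fin 2) (Fin 2) E)) h3
      simp only [Matrix.SpecialLinearGroup.coe_mul, ea] at h4
      have e1 := congrFun (congrFun h4 0) 0
      have e2 := congrFun (congrFun h4 0) 1
      simp only [Matrix.mul_apply, Fin.sum_univ_two, _root_.Fin.isValue, _root_.Matrix.of_apply, _root_.Matrix.cons_val', _root_.Matrix.cons_val_zero, _root_.Matrix.cons_val_fin_one, _root_.mul_one, _root_.Matrix.cons_val_one, _root_.MulZeroClass.mul_zero, _root_.add_zero, _root_.one_mul, _root_.left_eq_add] at e1 e2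
      refine ⟨e1, ?_⟩
      linear_combination e2
    · exfalso
      have h4 := congrArg (fun x : SL(2, E) => (x : Matrix (Fin 2) (Fin 2) E)) h3
      simp only [Matrix.SpecialLinearGroup.coe_mul, Matrix.SpecialLinearGroup.coe_neg, ea] at h4
      have e1 := congrFun (congrFun h4 1) 0
      have e2 := congrFun (congrFun h4 0) 0
      simp only [Matrix.mul_apply, Fin.sum_univ_two, Matrix.vecMul, dotProduct, _root_.Fin.isValue, _root_.Matrix.of_apply, _root_.Matrix.cons_val', _root_.Matrix.cons_val_zero, _root_.Matrix.cons_val_fin_one, _root_.mul_one, _root_.Matrix.cons_val_one, _root_.MulZeroClass.mul_zero, _root_.add_zero, _root_.Matrix.cons_mul, _root_.Nat.succ_eq_add_one, _root_.Nat.reduceAdd, _root_.Matrix.empty_mul, _root_.Equiv.symm_apply_apply, _root_.Matrix.neg_apply, _root_.one_mul, _root_.MulZeroClass.zero_mul, _root_.zero_add, _root_.neg_add_rev] at e1 e2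
      have e3 := neg _ e1
      rw [e3] at e2
      have e4 : (g : Matrix (Fin 2) (Fin 2) E) 0 0 = 0 := neg _ (by linear_combination e2)
      rw [e3, e4] at hdet
      simp at hdet
  have h5 : (g : Matrix (Fin 2) (Fin 2) E) 0 1 = 0 := by
    rcases h b with h3 | h3
    · have h4 := congrArg (fun x : SL(2, E) => (x : Matrix (Fin 2) (Fin 2) E)) h3
      simp only [Matrix.SpecialLinearGroup.coe_mul, eb] at h4
      have e1 := congrFun (congrFun h4 0) 0
      simpa only [Matrix.mul_apply, Fin.sum_univ_two, _root_.Fin.isValue, _root_.Matrix.of_apply, _root_.Matrix.cons_val', _root_.Matrix.cons_val_zero, _root_.Matrix.cons_val_fin_one, _root_.mul_one, _root_.Matrix.cons_val_one, _root_.one_mul, _root_.MulZeroClass.zero_mul, _root_.add_zero, _root_.add_eq_left] using e1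
    · have h4 := congrArg (fun x : SL(2, E) => (x : Matrix (Fin 2) (Fin 2) E)) h3
      simp only [Matrix.SpecialLinearGroup.coe_mul, Matrix.SpecialLinearGroup.coe_neg, eb] at h4
      have e1 := congrFun (congrFun h4 0) 1
      simp only [Matrix.mul_apply, Fin.sum_univ_two, Matrix.vecMul, dotProduct, _root_.Fin.isValue, _root_.Matrix.of_apply, _root_.Matrix.cons_val', _root_.Matrix.cons_val_one, _root_.Matrix.cons_val_fin_one, _root_.Matrix.cons_val_zero, _root_.MulZeroClass.mul_zero, _root_.mul_one, _root_.zero_add, _root_.Matrix.cons_mul, _root_.Nat.succ_eq_add_one, _root_.Nat.reduceAdd, _root_.Matrix.empty_mul, _root_.Equiv.symm_apply_apply, _root_.Matrix.neg_apply, _root_.one_mul, _root_.MulZeroClass.zero_mul, _root_.add_zero] at e1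
      exact neg _ e1
  have h6 : (g : Matrix (Fin 2) (Fin 2) E) 0 0 * (g : Matrix (Fin 2) (Fin 2) E) 0 0 = 1 := by
    rw [h1.1, ← h1.2] at hdet
    simpa only [_root_.Fin.isValue, _root_.MulZeroClass.mul_zero, _root_.sub_zero] using hdet
  rcases mul_self_eq_one_iff.1 h6 with h | h
  · left
    apply Subtype.ext
    rw [Matrix.SpecialLinearGroup.coe_one]
    ext i j
    fin_cases i <;> fin_cases j
    · exact h
    · exact h5
    · exact h1.1
    · exact h1.2.symm.trans h
  · right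
    apply Subtype.ext
    rw [Matrix.SpecialLinearGroup.coe_neg, Matrix.SpecialLinearGroup.coe_one]
    ext i j
    fin_cases i <;> fin_cases j
    · simpa using h
    · simpa using h5
    · simpa using h1.1
    · simpa using h1.2.symm.trans h

/-- a homomorphism from `SL_2(E)` to a group `Γ` induces one into `[Γ, Γ]` modulo its centre -/
theorem exists_toProj {E : Type v} [Field E] [Fintype E] (h3 : 3 < Fintype.card E) (h2 : (2 : E) ≠ 0)
    {Γ : Type w} [Group Γ] (Ψ : SL(2, E) →* Γ) (h : ∀ g, Ψ g = 1 → g = 1 ∨ g = -1) (h1 : Ψ (-1) = 1) :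
    ∃ Φ : SL(2, E) →* (commutator Γ ⧸ Subgroup.center (commutator Γ)),
      (∀ g, Φ g = 1 → g = 1 ∨ g = -1) ∧ Φ (-1) = 1 := by
  have hmem : ∀ g, Ψ g ∈ commutator Γ := by
    intro g
    have h4 : g ∈ commutator SL(2, E) := by
      rw [Cfsg.Agent.TwoFusion.SLTwoFacts.commutator_eq_top h3]; trivial
    have h5 : (commutator SL(2, E)).map Ψ ≤ commutator Γ := by
      rw [commutator_def, commutator_def, Subgroup.map_commutator]
      exact Subgroup.commutator_mono le_top le_top
    exact h5 ⟨g, h4, rfl⟩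
  let Ψ' : SL(2, E) →* commutator Γ := Ψ.codRestrict _ hmem
  have hker : ∀ g, Ψ' g = 1 → g = 1 ∨ g = -1 := fun g hg => h g (congrArg Subtype.val hg)
  refine ⟨(QuotientGroup.mk' (Subgroup.center (commutator Γ))).comp Ψ', fun g hg => ?_, ?_⟩
  · have h4 : Ψ' g ∈ Subgroup.center (commutator Γ) := (QuotientGroup.eq_one_iff _).1 hg
    rw [Subgroup.mem_center_iff] at h4
    refine eq_or_of_comm h2 fun k => ?_
    have h5 := h4 (Ψ' k)
    have h6 : Ψ' (g * k * (k * g)⁻¹) = 1 := by
      rw [map_mul, map_inv, map_mul, map_mul, h5, mul_inv_cancel]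
    rcases hker _ h6 with h7 | h7
    · exact Or.inl (mul_inv_eq_one.1 h7)
    · right
      rw [mul_inv_eq_iff_eq_mul.1 h7, neg_one_mul]
  · have h4 : Ψ' (-1) = 1 := Subtype.ext h1
    rw [MonoidHom.comp_apply, h4, map_one]

/-- **`PΩ(Q)` contains a Frobenius group `q^n : (q^n - 1)/2`** if `n` is even and the dimension is more than `2n`. -/
theorem frob_pomega {F : Type u} [Field F] [Fintype F] {p : ℕ} [CharP F p] (hp : p.Prime) (hp2 : p ≠ 2) {n : ℕ}
    (hn : 1 ≤ n) (hev : Even n) {ι : Type} [Fintype ι] [DecidableEq ι] {Q : QuadraticForm F (ι → F)} (hQ : Nondeg Q)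
    (hι : 2 * n < Fintype.card ι) : Frob (POmega F (⇑Q)) p ((Nat.card F ^ n - 1) / 2) := by
  classical
  have := Fact.mk hp
  have : NeZero n := ⟨by omega⟩
  have h2 : (2 : F) ≠ 0 := by
    have h3 : ((2 : ℕ) : F) ≠ 0 := by
      rw [Ne, CharP.cast_eq_zero_iff F p 2]
      intro h
      exact hp2 ((Nat.prime_dvd_prime_iff_eq hp Nat.prime_two).1 h)
    exact_mod_cast h3
  let E := FiniteField.Extension F p n
  have hfin : finrank F E = n := FiniteField.finrank_extension F p n
  have hcard : Nat.card E = Nat.card F ^ n := FiniteField.natCard_extension F p n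
  have hcharE : CharP E p := charP_of_injective_algebraMap (algebraMap F E).injective p
  have : Fintype E := Fintype.ofFinite E
  have h2E : (2 : E) ≠ 0 := by
    have := (map_ne_zero (algebraMap F E)).2 h2
    rwa [map_ofNat] at this
  have hE3 : 3 < Fintype.card E := by
    rw [← Nat.card_eq_fintype_card, hcard]
    have h3 : 3 ≤ Nat.card F := by
      have h4 : 1 < Nat.card F := Finite.one_lt_card
      have h5 : Nat.card F ≠ 2 := by
        intro h
        apply h2
        have h6 : ((Fintype.card F : ℕ) : F) = 0 := FiniteField.cast_card_eq_zero F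
        rw [← Nat.card_eq_fintype_card, h] at h6
        exact_mod_cast h6
      omega
    have hn2 : 2 ≤ n := by
      obtain ⟨k, hk⟩ := hev
      omega
    calc 3 < 3 ^ 2 := by norm_num
      _ ≤ (Nat.card F) ^ 2 := Nat.pow_le_pow_left h3 2
      _ ≤ (Nat.card F) ^ n := Nat.pow_le_pow_right (by omega) hn2
  -- an automorphism of order two
  obtain ⟨σ, hσo⟩ : ∃ σ : E ≃ₐ[F] E, orderOf σ = 2 := by
    have h3 : Nat.card (E ≃ₐ[F] E) = n := FiniteField.natCard_algEquiv_extension F p n
    have : Finite (E ≃ₐ[F] E) := Nat.finite_of_card_ne_zero (by omega)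
    exact exists_prime_orderOf_dvd_card' 2 (by rw [h3]; exact hev.two_dvd)
  have hσ : ∀ x, σ (σ x) = x := by
    intro x
    have h3 : σ ^ 2 = 1 := by rw [← hσo, pow_orderOf_eq_one]
    have h4 := congrArg (fun τ : E ≃ₐ[F] E => τ x) h3
    rw [pow_two] at h4
    exact h4
  have hσ1 : σ ≠ 1 := by
    rintro rfl
    rw [orderOf_one] at hσo
    omega
  obtain ⟨Ψ, hΨ, hΨ1⟩ := exists_sl2_O (σ := σ) h2 hσ hσ1 hQ (by
    rw [hfin, Module.finrank_fintype_fun_eq_card]; exact hι)
  let eO : isometryGroup F (⇑Q) ≃* O Q := Cfsg.Agent.LieClassical.OrthFinite.isometryEquiv Q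
  obtain ⟨Φ, hΦ, hΦ1⟩ := exists_toProj hE3 h2E (eO.symm.toMonoidHom.comp Ψ)
    (fun g hg => hΨ g ((MulEquiv.map_eq_one_iff eO.symm).1 hg)) (by
      change eO.symm (Ψ (-1)) = 1
      rw [hΨ1, map_one])
  rw [← hcard]
  exact frob_of_sl2 hp hp2 Φ hΦ hΦ1

/-- **`Ω_{2n+1}(q)`, `n` even, contains a Frobenius group `q^n : (q^n - 1)/2`.** -/
theorem frob_oodd {F : Type u} [Field F] [Fintype F] {p : ℕ} [CharP F p] (hp : p.Prime) (hp2 : p ≠ 2) {n : ℕ}
    (hn : 1 ≤ n) (hev : Even n) : Frob (POmega F (quadFormOdd n F)) p ((Nat.card F ^ n - 1) / 2) := by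
  have h2 : (2 : F) ≠ 0 := by
    have h3 : ((2 : ℕ) : F) ≠ 0 := by
      rw [Ne, CharP.cast_eq_zero_iff F p 2]
      intro h
      exact hp2 ((Nat.prime_dvd_prime_iff_eq hp Nat.prime_two).1 h)
    exact_mod_cast h3
  have h := frob_pomega (F := F) hp hp2 hn hev (Q := quadOdd n F)
    (Cfsg.Agent.H955.nondeg_iff.2 (quadOdd_nondegenerate h2)) (by simp only [_root_.Fintype.card_sum, _root_.Fintype.card_unique, _root_.Fintype.card_fin]; omega)
  rw [coe_quadOdd] at h
  exact h

end Cfsg.Agent.H327.KR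
end

-- part: H327/KR/Main
section
set_option linter.all false
open scoped Cfsg.Agent.FastGrp

/-!
# `S3536-P-KR`: the coprime step for `PSp_{2n}(q)` and `Ω_{2n+1}(q)`, `n = 2 ^ k` (helper327)
-/

set_option autoImplicit false

namespace Cfsg.Agent.H327.KR

open Subgroup Module Cfsg

universe u v

theorem charP_of_card {F : Type u} [Field F] [Fintype F] {p a : ℕ} (hp : p.Prime) (hF : Fintype.card F = p ^ a) :
    CharP F p := by
  obtain ⟨r, hr⟩ := CharP.exists F
  obtain ⟨n, hrp, hn⟩ := FiniteField.card F r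
  have h1 : r ∣ p ^ a := by
    rw [← hF, hn]
    exact dvd_pow_self r n.pos.ne'
  have h2 : r = p := (Nat.prime_dvd_prime_iff_eq hrp hp).1 (hrp.dvd_of_dvd_pow h1)
  rwa [h2] at hr

/-- `PSp_{2n}(q)`, `Ω_{2n+1}(q)`, `n = 2 ^ k`, contain Frobenius groups `q^n : (q^n-1)/2`. -/
theorem frob {F : Type u} [Field F] [Fintype F] {p a k : ℕ} (hp : p.Prime) (hp2 : p ≠ 2)
    (hF : Fintype.card F = p ^ a) (hk : 1 ≤ k) {T : Type v} [Group T]
    (hT : Nonempty (T ≃* PSp (2 ^ k) F) ∨ Nonempty (T ≃* POmega F (quadFormOdd (2 ^ k) F))) :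
    Frob T p ((Fintype.card F ^ 2 ^ k - 1) / 2) := by
  have := charP_of_card hp hF
  rw [← Nat.card_eq_fintype_card]
  rcases hT with ⟨⟨e⟩⟩ | ⟨⟨e⟩⟩
  · exact (frob_psp hp hp2 Nat.one_le_two_pow).congr e.symm
  · exact (frob_oodd hp hp2 Nat.one_le_two_pow ((Nat.even_pow' (by omega)).2 even_two)).congr e.symm

/-- **The coprime step**, faithful action. -/
theorem kstep {F : Type u} [Field F] [Fintype F] {p a k : ℕ} (hp : p.Prime) (hp2 : p ≠ 2)
    (hF : Fintype.card F = p ^ a) (hk : 1 ≤ k) {X : Type v} [Group X] [Finite X] {V : Subgroup X} [V.Normal]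
    (hVc : ∀ v ∈ V, ∀ w ∈ V, v * w = w * v) {t : ℕ} (ht : t.Prime) (htp : t ≠ p) (hexp : ∀ v ∈ V, v ^ t = 1)
    (T : Subgroup (X ⧸ V))
    (hT : Nonempty (T ≃* PSp (2 ^ k) F) ∨ Nonempty (T ≃* POmega F (quadFormOdd (2 ^ k) F)))
    (hfaith : ∀ x : X, (QuotientGroup.mk x : X ⧸ V) ∈ T → (∀ v ∈ V, x * v = v * x) → x ∈ V) :
    ∃ x : X, t * ((Fintype.card F ^ 2 ^ k - 1) / 2) ∣ orderOf x := by
  obtain ⟨x, hx⟩ := (frob hp hp2 hF hk hT).step hVc ht hp htp hexp T hfaith
  exact ⟨x, hx.symm.dvd⟩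

/-- a nontrivial action of a simple group is faithful -/
theorem faithful_of_simple {X : Type v} [Group X] {V : Subgroup X} [V.Normal]
    (hVc : ∀ v ∈ V, ∀ w ∈ V, v * w = w * v) (T : Subgroup (X ⧸ V)) [IsSimpleGroup T]
    (hne : ∃ x : X, (QuotientGroup.mk x : X ⧸ V) ∈ T ∧ ∃ v ∈ V, x * v ≠ v * x) (x : X)
    (hx : (QuotientGroup.mk x : X ⧸ V) ∈ T) (hc : ∀ v ∈ V, x * v = v * x) : x ∈ V := by
  have hVC : V ≤ centralizer (V : Set X) := fun v hv => by
    rw [mem_centralizer_iff]
    exact fun w hw => hVc w hw v hv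
  let N : Subgroup T := ((centralizer (V : Set X)).map (QuotientGroup.mk' V)).subgroupOf T
  have hN : N.Normal := by
    have h1 : ((centralizer (V : Set X)).map (QuotientGroup.mk' V)).Normal :=
      Subgroup.Normal.map inferInstance _ (QuotientGroup.mk'_surjective V)
    exact h1.subgroupOf T
  have hmem : ∀ y : X, (QuotientGroup.mk y : X ⧸ V) ∈ (centralizer (V : Set X)).map (QuotientGroup.mk' V) →
      ∀ v ∈ V, y * v = v * y := by
    rintro y ⟨z, hz, hzy⟩ v hv
    have h1 : z⁻¹ * y ∈ V := QuotientGroup.eq.1 hzy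
    have h2 : y = z * (z⁻¹ * y) := by group
    have h3 : z * v = v * z := (mem_centralizer_iff.1 hz v hv).symm
    have h4 := hVc _ h1 v hv
    calc y * v = z * ((z⁻¹ * y) * v) := by rw [← mul_assoc, ← h2]
      _ = z * v * (z⁻¹ * y) := by rw [h4, mul_assoc]
      _ = v * y := by rw [h3]; group
  rcases hN.eq_bot_or_eq_top with h | h
  · have h1 : (⟨QuotientGroup.mk x, hx⟩ : T) ∈ N := by
      rw [mem_subgroupOf]
      exact ⟨x, mem_centralizer_iff.2 fun v hv => (hc v hv).symm, rfl⟩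
    rw [h, mem_bot] at h1
    exact (QuotientGroup.eq_one_iff x).1 (congrArg Subtype.val h1)
  · exfalso
    obtain ⟨y, hy, v, hv, hyv⟩ := hne
    have h1 : (⟨QuotientGroup.mk y, hy⟩ : T) ∈ N := by rw [h]; trivial
    exact hyv (hmem y (mem_subgroupOf.1 h1) v hv)

/-- **The coprime step**, nontrivial action, `T` simple. -/
theorem kstep' {F : Type u} [Field F] [Fintype F] {p a k : ℕ} (hp : p.Prime) (hp2 : p ≠ 2)
    (hF : Fintype.card F = p ^ a) (hk : 1 ≤ k) {X : Type v} [Group X] [Finite X] {V : Subgroup X} [V.Normal]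
    (hVc : ∀ v ∈ V, ∀ w ∈ V, v * w = w * v) {t : ℕ} (ht : t.Prime) (htp : t ≠ p) (hexp : ∀ v ∈ V, v ^ t = 1)
    (T : Subgroup (X ⧸ V)) [IsSimpleGroup T]
    (hT : Nonempty (T ≃* PSp (2 ^ k) F) ∨ Nonempty (T ≃* POmega F (quadFormOdd (2 ^ k) F)))
    (hne : ∃ x : X, (QuotientGroup.mk x : X ⧸ V) ∈ T ∧ ∃ v ∈ V, x * v ≠ v * x) :
    ∃ x : X, t * ((Fintype.card F ^ 2 ^ k - 1) / 2) ∣ orderOf x :=
  kstep hp hp2 hF hk hVc ht htp hexp T hT (faithful_of_simple hVc T hne)

end Cfsg.Agent.H327.KR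
end

-- part: H76/TP/Base
section
set_option linter.all false
open scoped Cfsg.Agent.FastGrp

/-!
# Block TP (S3536): general facts on `TK` for the exceptional groups (helper76)

* `not_near`, `not_conn` : the prime divisors of `mn q k` are not connected with `2`;
* `eq_of_T`, `eq_of_exact`, `exists_r`, `eq_mn` : the analogues of `H892/TExcA`.
-/

set_option autoImplicit false
set_option linter.unusedSectionVars false

namespace Cfsg.Agent.H76.TP

open Cfsg Cfsg.Lie Subgroup
open Cfsg.Agent.H94.PG Cfsg.Agent.H202.T Cfsg.Agent.H202.TP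
open Cfsg.Agent.H129 Cfsg.Agent.H129.CycT

variable {p q k : ℕ}

section

variable {S : Type*} [Group S]

variable [Finite S]

/-- the neighbours of a prime divisor of `mn q k` divide `mn q k` -/
theorem adj (h : TK p q k S) {r s : ℕ} (hrm : r ∣ mn q k) (ha : Adj S r s) : s ∣ mn q k := by
  obtain ⟨hr, hs, hne, x, y, hx, hy, hxy⟩ := ha
  have h1 : orderOf (x * y) = r * s := by
    rw [hxy.orderOf_mul_eq_mul_orderOf_of_coprime (by rw [hx, hy]; exact (Nat.coprime_primes hr hs).2 hne), hx, hy]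
  have h2 := h.iso r (x * y) hr hrm (by rw [h1]; exact Dvd.intro _ rfl)
  rw [h1] at h2
  exact (Dvd.intro_left _ rfl : s ∣ r * s).trans h2

theorem conn (h : TK p q k S) {r s : ℕ} (hrm : r ∣ mn q k) (hc : Conn S r s) : s ∣ mn q k := by
  unfold Conn at hc
  induction hc with
  | refl => exact hrm
  | tail _ hbc ih => exact adj h ih hbc

/-- the prime divisors of `mn q k` are not connected with `2` -/
theorem not_conn (h : TK p q k S) {r : ℕ} (hrm : r ∣ mn q k) : ¬ Conn S r 2 := fun hc =>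
  h.ne_two_of_dvd (conn h hrm hc) rfl

theorem not_near (h : TK p q k S) {r : ℕ} (hrm : r ∣ mn q k) : ¬ H564.NearTwo.Near S r := fun hn =>
  not_conn h hrm hn.conn

end

theorem exists_prime {S : Type*} [Group S] (h : TK p q k S) : ∃ r : ℕ, r.Prime ∧ r ∣ mn q k := by
  apply Nat.exists_prime_and_dvd
  have := h.mn_ge
  omega

/-- a prime divisor of `mn q k` -/
theorem exists_r {G : Type*} [Group G] [Finite G] (h : TK p q k G) : ∃ r : ℕ, r.Prime ∧ r ∣ mn q k ∧ r ∣ Nat.card G ∧
    r % 8 = 1 ∧ ¬ H564.NearTwo.Near G r := by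
  obtain ⟨r, hr, hrm⟩ := exists_prime h
  exact ⟨r, hr, hrm, hrm.trans h.dvd_card, h.mod_eight hr hrm, not_near h hrm⟩

/-- an element order which is a multiple of `mn q k` is `mn q k` -/
theorem eq_mn {G : Type*} [Group G] (h : TK p q k G) {N : ℕ} (hd : mn q k ∣ N) (hN : ∃ x : G, orderOf x = N) :
    N = mn q k := by
  obtain ⟨r, hr, hrm⟩ := exists_prime h
  obtain ⟨x, rfl⟩ := hN
  exact Nat.dvd_antisymm (h.iso r x hr hrm (hrm.trans hd)) hd

/-- **A cyclic subgroup containing the centralisers of its elements of order `r` has order `mn q k`.** -/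
theorem eq_of_T {G : Type*} [Group G] [Finite G] (h : TK p q k G) {T : Subgroup G} (hc : IsCyclic ↥T) {N r : ℕ}
    (hN : Nat.card ↥T = N) (hr : r.Prime) (hrm : r ∣ mn q k) (hrN : r ∣ N)
    (hcent : ∀ y ∈ T, orderOf y = r → Subgroup.centralizer {y} ≤ T) : N = mn q k := by
  obtain ⟨t, ht⟩ := IsCyclic.exists_ofOrder_eq_natCard (α := ↥T)
  have ht' : orderOf (t : G) = N := by rw [Subgroup.orderOf_coe, ht, hN]
  apply Nat.dvd_antisymm
  · rw [← ht']
    exact h.iso r _ hr hrm (by rw [ht']; exact hrN)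
  · obtain ⟨y, hy⟩ := h.mem
    obtain ⟨a, ha⟩ := hrm
    have ha0 : a ≠ 0 := by
      rintro rfl
      have := h.mn_ge
      omega
    have hx : orderOf (y ^ a) = r := by
      rw [orderOf_pow_of_dvd ha0 (by rw [hy, ha]; exact Dvd.intro_left _ rfl), hy, ha,
        Nat.mul_div_cancel _ (Nat.pos_of_ne_zero ha0)]
    obtain ⟨g, -, hg⟩ := centralizer_conj hc hr (by rw [hN]; exact hrN) hcent hx
    have h1 : g * y * g⁻¹ ∈ T := (hg y).1 (by
      rw [Subgroup.mem_centralizer_singleton_iff]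
      exact (Commute.refl y).pow_right a)
    have h2 : orderOf (g * y * g⁻¹) = orderOf y := orderOf_injective (MulAut.conj g).toMonoidHom (MulAut.conj g).injective y
    rw [← hy, ← h2, ← hN]
    have h3 := orderOf_dvd_natCard (⟨_, h1⟩ : ↥T)
    rwa [Subgroup.orderOf_mk] at h3

theorem eq_of_exact {G : Type*} [Group G] [Finite G] (h : TK p q k G) {N r : ℕ} (hr : r.Prime) (hrm : r ∣ mn q k)
    (hrN : r ∣ N) (hC : CycExact G N) : N = mn q k := by
  obtain ⟨T, h1, h2, h3⟩ := hC
  refine eq_of_T h h1 h2 hr hrm hrN fun y hy hyr => (h3 y hy ?_).le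
  rintro rfl
  rw [orderOf_one] at hyr
  exact hr.one_lt.ne hyr

/-- `Φ₁₂(u) = mn q k` is impossible -/
theorem no_twelve {S : Type*} [Group S] (h : TK p q k S) {u : ℕ} (hu : IsPrimePow u) (h' : u ^ 4 - u ^ 2 + 1 = mn q k) :
    False := by
  refine h.prime_power (hu.pow two_ne_zero) (Or.inr ?_)
  rw [← h', Nat.mul_sub, mul_one]
  congr 2
  ring

/-- `Q ^ 4`, `Q = q ^ (n / 4)` -/
theorem two_mm_eq {S : Type*} [Group S] (h : TK p q k S) : 2 * mn q k = (q ^ 2 ^ (k - 2)) ^ 4 + 1 := by
  rw [h.mn_eq]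
  exact two_mm h.odd_Q

/-- the power of `2` in the elements -/
theorem two_dvd {S : Type*} [Group S] (h : TK p q k S) (x : S) {N d j : ℕ} (hd : Odd d) (hx : N ∣ orderOf x * d)
    (hj : 2 ^ j ∣ N) : 2 ^ j ∣ mn q k - 1 :=
  h.two j x ((Nat.Coprime.pow_left _ (Nat.coprime_two_left.2 hd)).dvd_of_dvd_mul_right (hj.trans hx))

end Cfsg.Agent.H76.TP
end
end
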