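import Cfsg.Agent.H231.WClos
import Cfsg.Agent.PLocal.OffenderStep
import Cfsg.Agent.SignalizersComponents.PCompQuot
import Cfsg.Agent.CpQuot.Congr
set_option linter.all false

-- part: H231/Large
section
/-!
# Large subgroups: basic facts
-/

set_option autoImplicit false
set_option linter.unusedSectionVars false

namespace Cfsg.Agent.H231

open Subgroup Cfsg H230 H227.Weak
open scoped commutatorElement

variable {G : Type*} [Group G] [Finite G] {p : ℕ} [Fact p.Prime]

/-- the `Q!`-property in usable form: for `1 ≠ U ≤ C(Q)` we have `C(U) ≤ N(U) ≤ N(Q)`. -/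
theorem large_centralizer_le {Q U : Subgroup G} (hQ : IsLarge Q)
    (hU : U ≤ centralizer (Q : Set G)) (hU1 : U ≠ ⊥) :
    centralizer (U : Set G) ≤ normalizer (Q : Set G) :=
  (centralizer_le_normalizer _).trans (hQ.2 U hU hU1)

/-- A nontrivial `p`-subgroup `Y` normalized by the large `p`-subgroup `Q`: `C(Y) ≤ N(Q)`. -/
theorem large_centralizer_le_normalizer {Q Y : Subgroup G} (hQp : IsPGroup p Q) (hQ : IsLarge Q)
    (hY : IsPGroup p Y) (hY1 : Y ≠ ⊥) (hQY : Q ≤ normalizer (Y : Set G)) :
    centralizer (Y : Set G) ≤ normalizer (Q : Set G) := by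
  have h1 : Y ⊓ centralizer (Q : Set G) ≠ ⊥ :=
    PLocal.OffenderStep.inf_centralizer_ne_bot Y Q hY hQp hQY hY1
  refine le_trans ?_ (large_centralizer_le hQ inf_le_right h1)
  exact centralizer_le (inf_le_left : Y ⊓ centralizer (Q : Set G) ≤ Y)

/-- A nontrivial `p`-subgroup `Y` centralized by the large `p`-subgroup `Q`: `N(Y) ≤ N(Q)`. -/
theorem large_normalizer_le {Q Y : Subgroup G} (hQ : IsLarge Q)
    (hY1 : Y ≠ ⊥) (hQY : Q ≤ centralizer (Y : Set G)) :
    normalizer (Y : Set G) ≤ normalizer (Q : Set G) :=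
  hQ.2 Y (le_centralizer_iff.1 hQY) hY1

/-- A nontrivial large `p`-subgroup is weakly closed. -/
theorem large_wc {Q : Subgroup G} (hQp : IsPGroup p Q) (hQ1 : Q ≠ ⊥) (hQ : IsLarge Q) :
    IsWeaklyClosedSubgroup p Q := by
  rw [iff_normalizer hQp]
  intro R hR hQR
  have hR1 : R ≠ ⊥ := by
    rintro rfl
    exact hQ1 (le_bot_iff.1 hQR)
  have h1 : R ⊓ centralizer (R : Set G) ≠ ⊥ :=
    PLocal.OffenderStep.inf_centralizer_ne_bot R R hR hR le_normalizer hR1
  have h2 : R ⊓ centralizer (R : Set G) ≤ centralizer (Q : Set G) :=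
    inf_le_right.trans (centralizer_le hQR)
  refine le_trans ?_ (hQ.2 _ h2 h1)
  exact le_normalizer_inf le_rfl (normalizer_le_normalizer_centralizer R)

/-- `[C_E(Y), E°] ≤ O_p(C_E(Y))` for `Q ≤ E ≤ N(Y)`, `1 ≠ Y` a `p`-subgroup. -/
theorem large_commutator_le {Q Y E : Subgroup G} (hQp : IsPGroup p Q) (hQ1 : Q ≠ ⊥)
    (hQ : IsLarge Q) (hY : IsPGroup p Y) (hY1 : Y ≠ ⊥) (hQE : Q ≤ E)
    (hEY : E ≤ normalizer (Y : Set G)) :
    ⁅E ⊓ centralizer (Y : Set G), weakClosure Q E⁆ ≤
      pCoreOf p (E ⊓ centralizer (Y : Set G) : Subgroup G) := by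
  have hwc := large_wc hQp hQ1 hQ
  set C := E ⊓ centralizer (Y : Set G) with hC
  have hCQ : C ≤ normalizer (Q : Set G) :=
    inf_le_right.trans (large_centralizer_le_normalizer hQp hQ hY hY1 (hQE.trans hEY))
  have hEC : E ≤ normalizer (C : Set G) :=
    le_normalizer_inf le_normalizer (hEY.trans (normalizer_le_normalizer_centralizer Y))
  have hEP : E ≤ normalizer ((pCoreOf p C : Subgroup G) : Set G) :=
    hEC.trans (H227.Weak.normalizer_le_normalizer_pCoreOf p C)
  rw [weakClosure_eq hQp hwc hQE]
  refine commutator_iSup_le (fun k => ?_) fun k => ?_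
  · have := cj_mono (k : G) hQE
    rw [cj_eq_self_of_mem k.2] at this
    exact this.trans hEP
  · have h1 : C ≤ normalizer ((cj (k : G) Q : Subgroup G) : Set G) := by
      have := le_normalizer_cj (g := (k : G)) hCQ
      rwa [cj_eq_self_iff.2 (hEC k.2)] at this
    have h2 : cj (k : G) Q ≤ normalizer (C : Set G) := by
      have := cj_mono (k : G) hQE
      rw [cj_eq_self_of_mem k.2] at this
      exact this.trans hEC
    refine (le_inf (commutator_le_of_le_normalizer h2) (commutator_le_of_le_normalizer' h1)).trans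
      (le_pCoreOf ?_ inf_le_left ?_)
    · exact (isPGroup_cj hQp (k : G)).to_le inf_le_right
    · exact le_normalizer_inf le_normalizer h1

end Cfsg.Agent.H231
end

-- part: H231/QsSec
section
/-!
# Quasisimple `O^p(X)` with `O_p(X) = 1`; large subgroups on a module
-/

set_option autoImplicit false
set_option linter.unusedSectionVars false

namespace Cfsg.Agent.H231

open Subgroup Cfsg H230 H227.Weak
open scoped commutatorElement

section abs

variable {X : Type*} [Group X] [Finite X] {p : ℕ} [Fact p.Prime]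

theorem commutator_self_of_isPerfect {F : Subgroup X} (h : Group.IsPerfect ↥F) : ⁅F, F⁆ = F := by
  have h1 : commutator ↥F = ⊤ := h.commutator_eq_top
  have h2 := congrArg (Subgroup.map F.subtype) h1
  rw [commutator_def, Subgroup.map_commutator, ← MonoidHom.range_eq_map, Subgroup.range_subtype] at h2
  exact h2

theorem isPerfect_of_commutator_self {F : Subgroup X} (h : ⁅F, F⁆ = F) : Group.IsPerfect ↥F := by
  refine ⟨?_⟩
  apply Subgroup.map_injective F.subtype_injective
  rw [commutator_def, Subgroup.map_commutator, ← MonoidHom.range_eq_map, Subgroup.range_subtype, h]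

theorem resOf_top : resOf p (⊤ : Subgroup X) = pResidual p X := by
  rw [resOf_eq_closure, pResidual]
  congr 1
  ext g
  simp

theorem resOf_map {Y : Type*} [Group Y] (f : X →* Y) (A : Subgroup X) :
    (resOf p A).map f = resOf p (A.map f) := by
  have h := Transfer.Residual.map_pResidual_of_surjective (p := p) (f.subgroupMap A)
    (f.subgroupMap_surjective A)
  unfold resOf
  rw [← h, Subgroup.map_map, Subgroup.map_map]
  rfl

theorem resOf_subgroupOf {A E : Subgroup X} (hA : A ≤ E) :
    (resOf p A).subgroupOf E = resOf p (A.subgroupOf E) := by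
  apply Subgroup.map_injective E.subtype_injective
  rw [resOf_map, Subgroup.map_subgroupOf_eq_of_le hA,
    Subgroup.map_subgroupOf_eq_of_le ((resOf_le p A).trans hA)]

/-- Abstract form: `O_p(X) = 1`, `F = O^p(X)` quasisimple, `Y ≠ 1` a `p`-subgroup: `[F, Y] = F`. -/
theorem commutator_residual_eq (hX : pCore p X = ⊥) (hF : IsQuasisimple ↥(pResidual p X))
    {Y : Subgroup X} (hY : IsPGroup p Y) (hY1 : Y ≠ ⊥) :
    ⁅pResidual p X, Y⁆ = pResidual p X := by
  set F := pResidual p X with hFdef
  have hFn : F.Normal := Transfer.Residual.pResidual_normal p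
  have hnF : ∀ A : Subgroup X, A ≤ normalizer (F : Set X) := fun A => by
    rw [Subgroup.normalizer_eq_top]; exact le_top
  have hFF : ⁅F, F⁆ = F := commutator_self_of_isPerfect hF.1
  set N := ⁅F, Y⁆ with hN
  have hNF : N ≤ F := commutator_le_of_le_normalizer (hnF Y)
  have hFN : F ≤ normalizer (N : Set X) := le_normalizer_commutator_left F Y
  have hNn : (N.subgroupOf F).Normal := (normal_subgroupOf_iff_le_normalizer hNF).2 hFN
  rcases Lib.ComponentSolvable.quasisimple_normal_cases hF hNn with h | h
  · rw [subgroupOf_eq_top] at h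
    exact le_antisymm hNF h
  · exfalso
    have h1 : ⁅N, F⁆ = ⊥ := by
      rw [eq_bot_iff, commutator_le]
      intro n hn f hf
      have h2 := mem_center_iff.1 (h (show (⟨n, hNF hn⟩ : ↥F) ∈ N.subgroupOf F from hn)) ⟨f, hf⟩
      have h3 : f * n = n * f := congrArg Subtype.val h2
      rw [Subgroup.mem_bot, commutatorElement_eq_one_iff_mul_comm, h3]
    have h2 : ⁅⁅F, F⁆, Y⁆ = ⊥ := by
      apply Subgroup.commutator_commutator_eq_bot_of_rotate
      · exact h1
      · rw [commutator_comm Y F]; exact h1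
    rw [hFF, commutator_comm, commutator_eq_bot_iff_le_centralizer] at h2
    -- `Z = C(F)`
    set Z := centralizer (F : Set X) with hZ
    have hZn : ∀ A : Subgroup X, A ≤ normalizer (Z : Set X) := fun A =>
      (hnF A).trans (normalizer_le_normalizer_centralizer F)
    obtain ⟨T, hT, hYT⟩ := exists_isSylowOf_ge h2 hY
    have hres : resOf p Z ≤ F := by
      rw [hFdef, ← resOf_top]; exact resOf_mono le_top
    have h3 : Z ≤ normalizer (T : Set X) := by
      rw [← hT.resOf_sup]
      refine sup_le ?_ le_normalizer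
      refine le_trans ?_ (centralizer_le_normalizer _)
      rw [le_centralizer_iff]
      refine hT.le.trans ?_
      rw [hZ]
      exact centralizer_le hres
    have h4 : T ≤ pCoreOf p Z := le_pCoreOf hT.isPGroup hT.le h3
    have h5 : (pCoreOf p Z).Normal := by
      rw [← Subgroup.normalizer_eq_top_iff, eq_top_iff]
      exact (hZn ⊤).trans (H227.Weak.normalizer_le_normalizer_pCoreOf p Z)
    have h6 : pCoreOf p Z ≤ ⊥ := by
      rw [← hX]
      exact Lib.Cores.le_pCore h5 (isPGroup_pCoreOf Z)
    exact hY1 (le_bot_iff.1 ((hYT.trans h4).trans h6))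

/-- `O^p(N) = O^p(X)` for a normal subgroup `N` of `X` with a nontrivial `p`-subgroup. -/
theorem resOf_eq_residual (hX : pCore p X = ⊥) (hF : IsQuasisimple ↥(pResidual p X))
    {Y N : Subgroup X} (hY : IsPGroup p Y) (hY1 : Y ≠ ⊥) (hYN : Y ≤ N)
    (hN : N.Normal) : resOf p N = pResidual p X := by
  apply le_antisymm
  · rw [← resOf_top]; exact resOf_mono le_top
  · have h1 : pResidual p X ≤ N := by
      rw [← commutator_residual_eq hX hF hY hY1]
      exact (commutator_mono le_rfl hYN).trans (commutator_le_right _ _)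
    have h2 := resOf_mono (p := p) h1
    rwa [← resOf_top, resOf_resOf, resOf_top] at h2

end abs

section im

variable {G : Type*} [Group G] [Finite G] {p : ℕ} [Fact p.Prime]

/-- image of `A` (meant: `A ≤ E`) in `E / N` -/
def im {E : Subgroup G} (N : Subgroup E) [N.Normal] (A : Subgroup G) : Subgroup (E ⧸ N) :=
  (A.subgroupOf E).map (QuotientGroup.mk' N)

variable {E : Subgroup G} {N : Subgroup E} [N.Normal]

theorem im_mono {A B : Subgroup G} (h : A ≤ B) : im N A ≤ im N B :=
  Subgroup.map_mono (Subgroup.comap_mono h)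

theorem im_commutator {A B : Subgroup G} (hA : A ≤ E) (hB : B ≤ E) :
    im N ⁅A, B⁆ = ⁅im N A, im N B⁆ := by
  unfold im
  rw [subgroupOf_commutator hA hB, Subgroup.map_commutator]

theorem im_resOf {A : Subgroup G} (hA : A ≤ E) : im N (resOf p A) = resOf p (im N A) := by
  unfold im
  rw [resOf_subgroupOf hA, resOf_map]

theorem im_le_iff {A B : Subgroup G} (hA : A ≤ E) (hB : B ≤ E) :
    im N A ≤ im N B ↔ A ≤ B ⊔ N.map E.subtype := by
  unfold im
  rw [Subgroup.map_le_iff_le_comap, Subgroup.comap_map_eq, QuotientGroup.ker_mk',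
    ← Subgroup.map_le_map_iff_of_injective (f := E.subtype) E.subtype_injective,
    Subgroup.map_sup, Subgroup.map_subgroupOf_eq_of_le hA, Subgroup.map_subgroupOf_eq_of_le hB]

theorem im_eq_bot_iff {A : Subgroup G} (hA : A ≤ E) :
    im N A = ⊥ ↔ A ≤ N.map E.subtype := by
  unfold im
  rw [Subgroup.map_eq_bot_iff, QuotientGroup.ker_mk',
    ← Subgroup.map_le_map_iff_of_injective (f := E.subtype) E.subtype_injective,
    Subgroup.map_subgroupOf_eq_of_le hA]

theorem im_normal {A : Subgroup G} (hA : A ≤ E) (h : E ≤ normalizer (A : Set G)) :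
    (im N A).Normal := by
  have : (A.subgroupOf E).Normal := (normal_subgroupOf_iff_le_normalizer hA).2 h
  exact this.map _ (QuotientGroup.mk'_surjective N)

theorem im_isPGroup {A : Subgroup G} (hA : IsPGroup p A) : IsPGroup p (im N A) :=
  (hA.comap_of_injective E.subtype E.subtype_injective).map _

end im

end Cfsg.Agent.H231
end
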